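import Cfsg.Agent.Lib.Known.SplitLift.RankOne
import Cfsg.Prelude.Def_KGroupFacts

/-!
# From bounds to multipliers
-/

set_option autoImplicit false
set_option linter.unusedSectionVars false

namespace CfsgLib.Known.SplitLift

open scoped commutatorElement

universe u v

/-- A stem extension of a perfect group is perfect. -/
theorem perfect_of_stem {G : Type u} [Group G] (hG : commutator G = ⊤) {E : Type v} [Group E]
    {σ : E →* G} (hσ : Cfsg.IsStemExtension σ) : commutator E = ⊤ := by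
  rw [eq_top_iff]
  intro e _
  have hmap : (commutator E).map σ = ⊤ := by
    rw [commutator_def, Subgroup.map_commutator, Subgroup.map_top_of_surjective _ hσ.1,
      ← commutator_def, hG]
  obtain ⟨c, hc, hce⟩ := (hmap ▸ Subgroup.mem_top (σ e) : σ e ∈ (commutator E).map σ)
  have hz : c⁻¹ * e ∈ σ.ker := by simp [MonoidHom.mem_ker, hce]
  simpa using mul_mem hc (hσ.2.2 hz)

/-- Bounds for coprime kernels bound all stem kernels when `p`-kernels are trivial. -/
theorem stem_card_le {G : Type u} [Group G] (p : ℕ) [Fact p.Prime] {N : ℕ}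
    (hp : ∀ (E : Type u) [Group E] [Finite E] (σ : E →* G), Cfsg.IsStemExtension σ →
      IsPGroup p σ.ker → ∀ z ∈ σ.ker, z = 1)
    (hcop : ∀ (E : Type u) [Group E] [Finite E] (σ : E →* G), Cfsg.IsStemExtension σ →
      (Nat.card σ.ker).Coprime p → Nat.card σ.ker ≤ N)
    (E : Type u) [Group E] [Finite E] (σ : E →* G) (hσ : Cfsg.IsStemExtension σ) :
    Nat.card σ.ker ≤ N := by
  refine hcop E σ hσ ?_
  set n := Nat.card σ.ker with hn
  set k := n.factorization p with hk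
  have hkc : ∀ x ∈ σ.ker, ∀ y ∈ σ.ker, x * y = y * x := fun x hx y hy =>
    (Subgroup.mem_center_iff.1 (hσ.2.1 hy) x)
  let B : Subgroup E :=
    { carrier := (fun x => x ^ p ^ k) '' (σ.ker : Set E)
      one_mem' := ⟨1, one_mem _, one_pow _⟩
      mul_mem' := by
        rintro _ _ ⟨x, hx, rfl⟩ ⟨y, hy, rfl⟩
        exact ⟨x * y, mul_mem hx hy, Commute.mul_pow (hkc x hx y hy) _⟩
      inv_mem' := by
        rintro _ ⟨x, hx, rfl⟩
        exact ⟨x⁻¹, inv_mem hx, inv_pow _ _⟩ }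
  have hBk : B ≤ σ.ker := by rintro _ ⟨x, hx, rfl⟩; exact pow_mem hx _
  haveI : B.Normal := ⟨fun b hb g => by
    have h1 : g * b * g⁻¹ = b := by
      rw [Subgroup.mem_center_iff.1 (hσ.2.1 (hBk hb)) g]; group
    rwa [h1]⟩
  let π := QuotientGroup.lift B σ hBk
  have hπ : Cfsg.IsStemExtension π := by
    refine ⟨fun g => ?_, fun x hx => ?_, fun x hx => ?_⟩
    · obtain ⟨e, rfl⟩ := hσ.1 g
      exact ⟨e, rfl⟩
    · obtain ⟨e, rfl⟩ := QuotientGroup.mk_surjective x
      refine Subgroup.mem_center_iff.2 fun y => ?_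
      obtain ⟨f, rfl⟩ := QuotientGroup.mk_surjective y
      rw [← QuotientGroup.mk_mul, ← QuotientGroup.mk_mul, Subgroup.mem_center_iff.1 (hσ.2.1 hx) f]
    · obtain ⟨e, rfl⟩ := QuotientGroup.mk_surjective x
      have h1 := Subgroup.mem_map_of_mem (QuotientGroup.mk' B) (hσ.2.2 hx)
      rw [commutator_def, Subgroup.map_commutator,
        Subgroup.map_top_of_surjective _ (QuotientGroup.mk'_surjective B), ← commutator_def] at h1
      exact h1
  have htriv := hp _ π hπ fun ⟨x, hx⟩ => by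
    obtain ⟨e, rfl⟩ := QuotientGroup.mk_surjective x
    refine ⟨k, Subtype.ext ?_⟩
    show (QuotientGroup.mk e : E ⧸ B) ^ p ^ k = 1
    rw [← QuotientGroup.mk_pow, QuotientGroup.eq_one_iff]
    exact ⟨e, hx, rfl⟩
  have hsurj : Function.Surjective (fun x : σ.ker => x ^ p ^ k) := by
    rintro ⟨x, hx⟩
    obtain ⟨y, hy, e⟩ := (QuotientGroup.eq_one_iff x).1 (htriv (QuotientGroup.mk x) hx)
    exact ⟨⟨y, hy⟩, Subtype.ext e⟩
  have hinj := Finite.injective_iff_surjective.2 hsurj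
  rcases Nat.eq_zero_or_pos k with h0 | h0
  · rw [Nat.coprime_comm, (Fact.out : p.Prime).coprime_iff_not_dvd]
    intro hd
    have := (Fact.out : p.Prime).factorization_pos_of_dvd (Nat.card_pos (α := σ.ker)).ne' hd
    rw [hk, hn] at h0
    omega
  · exfalso
    obtain ⟨x, hx⟩ := exists_prime_orderOf_dvd_card' (G := σ.ker) p
      (Nat.dvd_of_factorization_pos (hk ▸ h0.ne'))
    have : x = 1 := hinj (show x ^ p ^ k = 1 ^ p ^ k by
      rw [one_pow, ← orderOf_dvd_iff_pow_eq_one, hx]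
      exact dvd_pow_self p h0.ne')
    rw [this, orderOf_one] at hx
    exact (Fact.out : p.Prime).one_lt.ne hx

/-- A stem extension of maximal kernel determines the multiplier. -/
theorem hasSchurMultiplier_of_max {G : Type u} [Group G] (hG : commutator G = ⊤)
    {A : Type v} [CommGroup A] {Γ : Type u} [Group Γ] [Finite Γ] (σ₀ : Γ →* G)
    (h₀ : Cfsg.IsStemExtension σ₀) (hA : Nonempty (σ₀.ker ≃* A))
    (hmax : ∀ (E : Type u) [Group E] [Finite E] (σ : E →* G), Cfsg.IsStemExtension σ →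
      Nat.card σ.ker ≤ Nat.card σ₀.ker) :
    Cfsg.HasSchurMultiplier G A := by
  refine ⟨⟨Γ, ‹_›, ‹_›, σ₀, h₀, hA⟩, fun E _ _ σ hσ => ?_⟩
  let Q : Subgroup (Γ × E) :=
    { carrier := {x | σ₀ x.1 = σ x.2}
      one_mem' := by simp
      mul_mem' := fun {a b} ha hb => by simp [Set.mem_setOf_eq.mp ha, Set.mem_setOf_eq.mp hb]
      inv_mem' := fun {a} ha => by simp [Set.mem_setOf_eq.mp ha] }
  let D : Subgroup (Γ × E) := ⁅Q, Q⁆
  have hDQ : D ≤ Q := Subgroup.commutator_le.2 fun a ha b hb => by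
    rw [commutatorElement_def]; exact mul_mem (mul_mem (mul_mem ha hb) (inv_mem ha)) (inv_mem hb)
  have hfst : D.map (MonoidHom.fst Γ E) = ⊤ := by
    rw [Subgroup.map_commutator, ← perfect_of_stem hG h₀, commutator_def]
    have : Q.map (MonoidHom.fst Γ E) = ⊤ := eq_top_iff.2 fun x _ => by
      obtain ⟨e, he⟩ := hσ.1 (σ₀ x)
      exact ⟨(x, e), he.symm, rfl⟩
    rw [this]
  have hsnd : D.map (MonoidHom.snd Γ E) = ⊤ := by
    rw [Subgroup.map_commutator, ← perfect_of_stem hG hσ, commutator_def]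
    have : Q.map (MonoidHom.snd Γ E) = ⊤ := eq_top_iff.2 fun x _ => by
      obtain ⟨e, he⟩ := h₀.1 (σ x)
      exact ⟨(e, x), he, rfl⟩
    rw [this]
  let pr : D →* G := (σ₀.comp (MonoidHom.fst Γ E)).comp D.subtype
  have hpr : Cfsg.IsStemExtension pr := by
    refine ⟨fun g => ?_, fun x hx => ?_, fun x hx => ?_⟩
    · obtain ⟨y, rfl⟩ := h₀.1 g
      obtain ⟨d, hd, rfl⟩ := (hfst ▸ Subgroup.mem_top y : y ∈ D.map (MonoidHom.fst Γ E))
      exact ⟨⟨d, hd⟩, rfl⟩
    · have h1 : x.1.1 ∈ σ₀.ker := hx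
      have h2 : x.1.2 ∈ σ.ker := by
        rw [MonoidHom.mem_ker, ← (show σ₀ x.1.1 = σ x.1.2 from hDQ x.2)]; exact h1
      exact Subgroup.mem_center_iff.2 fun y => Subtype.ext (Prod.ext
        (Subgroup.mem_center_iff.1 (h₀.2.1 h1) _) (Subgroup.mem_center_iff.1 (hσ.2.1 h2) _))
    · -- `D` is perfect
      have hgen : D ≤ ⁅D, D⁆ := Subgroup.commutator_le.2 fun a ha b hb => by
        obtain ⟨d, hd, hda⟩ := (hfst ▸ Subgroup.mem_top a.1 : a.1 ∈ D.map (MonoidHom.fst Γ E))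
        obtain ⟨d', hd', hdb⟩ := (hfst ▸ Subgroup.mem_top b.1 : b.1 ∈ D.map (MonoidHom.fst Γ E))
        have hzc : ∀ c ∈ Q, ∀ e : Γ × E, e ∈ D → e.1 = c.1 →
            (e⁻¹ * c) ∈ Subgroup.center (Γ × E) := by
          intro c hc e he e1
          have h1 : (e⁻¹ * c).1 = 1 := by simp [e1]
          have h2 : (e⁻¹ * c).2 ∈ σ.ker := by
            have h3 : σ₀ (e⁻¹ * c).1 = σ (e⁻¹ * c).2 := mul_mem (inv_mem (hDQ he)) hc
            rw [MonoidHom.mem_ker, ← h3, h1, map_one]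
          exact Subgroup.mem_center_iff.2 fun y => Prod.ext (by simp [e1])
            (Subgroup.mem_center_iff.1 (hσ.2.1 h2) _)
        have hz := hzc a ha d hd hda
        have hz' := hzc b hb d' hd' hdb
        have : ⁅a, b⁆ = ⁅d, d'⁆ := by
          have ha' : a = d * (d⁻¹ * a) := by group
          have hb' : b = d' * (d'⁻¹ * b) := by group
          rw [ha', hb', commutatorElement_def, commutatorElement_def]
          set z := d⁻¹ * a
          set z' := d'⁻¹ * b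
          calc d * z * (d' * z') * (d * z)⁻¹ * (d' * z')⁻¹
              = d * (z * (d' * z')) * z⁻¹ * d⁻¹ * (z'⁻¹ * d'⁻¹) := by group
            _ = d * ((d' * z') * z) * z⁻¹ * d⁻¹ * (z'⁻¹ * d'⁻¹) := by
                rw [← Subgroup.mem_center_iff.1 hz (d' * z')]
            _ = d * d' * (z' * d⁻¹) * z'⁻¹ * d'⁻¹ := by group
            _ = d * d' * (d⁻¹ * z') * z'⁻¹ * d'⁻¹ := by rw [← Subgroup.mem_center_iff.1 hz' d⁻¹]
            _ = d * d' * d⁻¹ * d'⁻¹ := by group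
        rw [this]
        exact Subgroup.commutator_mem_commutator hd hd'
      have htop : (commutator D).map D.subtype = ⁅D, D⁆ := by
        rw [commutator_def, Subgroup.map_commutator, ← MonoidHom.range_eq_map, Subgroup.range_subtype]
      obtain ⟨y, hy, e⟩ := (htop ▸ hgen x.2 : x.1 ∈ (commutator D).map D.subtype)
      rwa [← Subtype.ext (a1 := y) (a2 := x) e]
  have hmem : ∀ x : D, x ∈ pr.ker → x.1.1 ∈ σ₀.ker ∧ x.1.2 ∈ σ.ker := fun x hx => ⟨hx, by
    rw [MonoidHom.mem_ker, ← (show σ₀ x.1.1 = σ x.1.2 from hDQ x.2)]; exact hx⟩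
  let k₀ : pr.ker →* σ₀.ker :=
    ((MonoidHom.fst Γ E).comp (D.subtype.comp pr.ker.subtype)).codRestrict _ fun x => (hmem x.1 x.2).1
  let k : pr.ker →* σ.ker :=
    ((MonoidHom.snd Γ E).comp (D.subtype.comp pr.ker.subtype)).codRestrict _ fun x => (hmem x.1 x.2).2
  have hk₀ : Function.Surjective k₀ := by
    rintro ⟨z, hz⟩
    obtain ⟨d, hd, hdz⟩ := (hfst ▸ Subgroup.mem_top z : z ∈ D.map (MonoidHom.fst Γ E))
    exact ⟨⟨⟨d, hd⟩, show σ₀ d.1 = 1 by rw [show d.1 = z from hdz]; exact hz⟩, Subtype.ext hdz⟩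
  have hk : Function.Surjective k := by
    rintro ⟨z, hz⟩
    obtain ⟨d, hd, hdz⟩ := (hsnd ▸ Subgroup.mem_top z : z ∈ D.map (MonoidHom.snd Γ E))
    exact ⟨⟨⟨d, hd⟩, show σ₀ d.1 = 1 by
      rw [show σ₀ d.1 = σ d.2 from hDQ hd, show d.2 = z from hdz]; exact hz⟩, Subtype.ext hdz⟩
  have hcard : Nat.card pr.ker = Nat.card σ₀.ker :=
    le_antisymm (hmax _ pr hpr) (Nat.card_le_card_of_surjective k₀ hk₀)
  have hbij : Function.Bijective k₀ := (Nat.bijective_iff_surjective_and_card k₀).2 ⟨hk₀, hcard⟩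
  obtain ⟨e⟩ := hA
  refine ⟨k.comp ((MulEquiv.ofBijective k₀ hbij).symm.toMonoidHom.comp e.symm.toMonoidHom), ?_⟩
  exact hk.comp ((MulEquiv.ofBijective k₀ hbij).symm.surjective.comp e.symm.surjective)

variable {G : Type u} [Group G] [Finite G] {P : Cfsg.BNPair G} {p : ℕ} [Fact p.Prime]
  {U : Subgroup G} {n₀ : G}

open CfsgLib.Chev.BN in
/-- The coprime bound from rank one data. -/
theorem card_coprime_le (h : Opp P p U n₀) (hG : ∀ N : Subgroup G, N.Normal → U ≤ N → N = ⊤)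
    (hperf : commutator G = ⊤) [Fintype P.S] (b : P.S → ℕ)
    (hb : ∀ (E : Type u) [Group E] [Finite E] (σ : E →* G), Cov σ p → ∀ s : P.S,
      Nat.card (tau σ P p U n₀ s) ≤ b s)
    (E : Type u) [Group E] [Finite E] (σ : E →* G) (hσ : Cfsg.IsStemExtension σ)
    (hco : (Nat.card σ.ker).Coprime p) :
    Nat.card σ.ker * Nat.card ↥(P.B ⊓ P.N) ≤ ∏ s : P.S, b s :=
  (card_ker_mul_le ⟨hσ.1, hσ.2.1, hco⟩ h (perfect_of_stem hperf hσ) hG).trans
    (Finset.prod_le_prod' fun s _ => hb E σ ⟨hσ.1, hσ.2.1, hco⟩ s)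

end CfsgLib.Known.SplitLift
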