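import Cfsg.Agent.Lib.Known.SplitLift.Assembly

/-!
# Stem extensions of central quotients and perfectness
-/

set_option autoImplicit false
set_option linter.unusedSectionVars false

namespace CfsgLib.Known.SplitLift

open scoped commutatorElement

universe u

/-- Stem extensions of a central quotient of a perfect group are bounded by those of the group. -/
theorem stem_card_le_quot {G G₁ : Type u} [Group G] [Finite G] [Group G₁] (hG₁ : commutator G₁ = ⊤)
    (hG : commutator G = ⊤) (π : G →* G₁) (hπ : Function.Surjective π)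
    (hπc : π.ker ≤ Subgroup.center G) {N : ℕ}
    (hN : ∀ (E : Type u) [Group E] [Finite E] (σ : E →* G), Cfsg.IsStemExtension σ → Nat.card σ.ker ≤ N)
    (E : Type u) [Group E] [Finite E] (σ : E →* G₁) (hσ : Cfsg.IsStemExtension σ) :
    Nat.card σ.ker ≤ N * Nat.card π.ker := by
  classical
  let Q : Subgroup (G × E) :=
    { carrier := {x | π x.1 = σ x.2}
      one_mem' := by simp
      mul_mem' := fun {a b} ha hb => by simp [Set.mem_setOf_eq.mp ha, Set.mem_setOf_eq.mp hb]
      inv_mem' := fun {a} ha => by simp [Set.mem_setOf_eq.mp ha] }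
  let D : Subgroup (G × E) := ⁅Q, Q⁆
  have hDQ : D ≤ Q := Subgroup.commutator_le.2 fun a ha b hb => by
    rw [commutatorElement_def]; exact mul_mem (mul_mem (mul_mem ha hb) (inv_mem ha)) (inv_mem hb)
  have hfst : D.map (MonoidHom.fst G E) = ⊤ := by
    have : Q.map (MonoidHom.fst G E) = ⊤ := eq_top_iff.2 fun x _ => by
      obtain ⟨e, he⟩ := hσ.1 (π x)
      exact ⟨(x, e), he.symm, rfl⟩
    rw [Subgroup.map_commutator, this, ← commutator_def, hG]
  have hsnd : D.map (MonoidHom.snd G E) = ⊤ := by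
    have : Q.map (MonoidHom.snd G E) = ⊤ := eq_top_iff.2 fun x _ => by
      obtain ⟨g, hg⟩ := hπ (σ x)
      exact ⟨(g, x), hg, rfl⟩
    rw [Subgroup.map_commutator, this, ← commutator_def, perfect_of_stem hG₁ hσ]
  let pr : D →* G := (MonoidHom.fst G E).comp D.subtype
  have hmem : ∀ x : D, x ∈ pr.ker → x.1.2 ∈ σ.ker := fun x hx => by
    rw [MonoidHom.mem_ker, ← (show π x.1.1 = σ x.1.2 from hDQ x.2),
      show x.1.1 = 1 from hx, map_one]
  have hcen : ∀ c ∈ Q, c.1 ∈ π.ker → c ∈ Subgroup.center (G × E) := fun c hc h1 => by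
    have h2 : c.2 ∈ σ.ker := by
      rw [MonoidHom.mem_ker, ← (show π c.1 = σ c.2 from hc)]; exact h1
    exact Subgroup.mem_center_iff.2 fun y => Prod.ext
      (Subgroup.mem_center_iff.1 (hπc h1) _) (Subgroup.mem_center_iff.1 (hσ.2.1 h2) _)
  -- the derived subgroup is perfect
  have hperf : commutator D = ⊤ := by
    have hgen : D ≤ ⁅D, D⁆ := Subgroup.commutator_le.2 fun a ha b hb => by
      have h0 : ∀ c ∈ Q, ∃ d ∈ D, d⁻¹ * c ∈ Subgroup.center (G × E) := fun c hc => by
        obtain ⟨d, hd, hdc⟩ := (hfst ▸ Subgroup.mem_top c.1 : c.1 ∈ D.map (MonoidHom.fst G E))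
        refine ⟨d, hd, hcen _ (mul_mem (inv_mem (hDQ hd)) hc) ?_⟩
        have e : d.1 = c.1 := hdc
        simp [MonoidHom.mem_ker, e]
      obtain ⟨d, hd, hz⟩ := h0 a ha
      obtain ⟨d', hd', hz'⟩ := h0 b hb
      have : ⁅a, b⁆ = ⁅d, d'⁆ := by
        have ha' : a = d * (d⁻¹ * a) := by group
        have hb' : b = d' * (d'⁻¹ * b) := by group
        rw [ha', hb', commutatorElement_def, commutatorElement_def]
        set z := d⁻¹ * a
        set z' := d'⁻¹ * b
        calc d * z * (d' * z') * (d * z)⁻¹ * (d' * z')⁻¹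
            = d * (z * (d' * z')) * z⁻¹ * d⁻¹ * (z'⁻¹ * d'⁻¹) := by group
          _ = d * ((d' * z') * z) * z⁻¹ * d⁻¹ * (z'⁻¹ * d'⁻¹) := by
              rw [← Subgroup.mem_center_iff.1 hz (d' * z')]
          _ = d * d' * (z' * d⁻¹) * z'⁻¹ * d'⁻¹ := by group
          _ = d * d' * (d⁻¹ * z') * z'⁻¹ * d'⁻¹ := by rw [← Subgroup.mem_center_iff.1 hz' d⁻¹]
          _ = d * d' * d⁻¹ * d'⁻¹ := by group
      rw [this]
      exact Subgroup.commutator_mem_commutator hd hd'
    have htop : (commutator D).map D.subtype = ⁅D, D⁆ := by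
      rw [commutator_def, Subgroup.map_commutator, ← MonoidHom.range_eq_map, Subgroup.range_subtype]
    refine eq_top_iff.2 fun x _ => ?_
    obtain ⟨y, hy, e⟩ := (htop ▸ hgen x.2 : x.1 ∈ (commutator D).map D.subtype)
    rwa [← Subtype.ext (a1 := y) (a2 := x) e]
  have hpr : Cfsg.IsStemExtension pr := by
    refine ⟨fun g => ?_, fun x hx => ?_, fun x _ => hperf ▸ Subgroup.mem_top x⟩
    · obtain ⟨d, hd, rfl⟩ := (hfst ▸ Subgroup.mem_top g : g ∈ D.map (MonoidHom.fst G E))
      exact ⟨⟨d, hd⟩, rfl⟩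
    · have h1 : x.1.1 ∈ π.ker := by rw [show x.1.1 = 1 from hx]; exact one_mem _
      exact Subgroup.mem_center_iff.2 fun y => Subtype.ext
        (Subgroup.mem_center_iff.1 (hcen _ (hDQ x.2) h1) _)
  -- the kernel over the quotient
  let W : Subgroup D := (π.comp pr).ker
  let k : W →* σ.ker := ((MonoidHom.snd G E).comp (D.subtype.comp W.subtype)).codRestrict _ fun x => by
    show σ x.1.1.2 = 1
    rw [← (show π x.1.1.1 = σ x.1.1.2 from hDQ x.1.2)]
    exact x.2
  have hk : Function.Surjective k := by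
    rintro ⟨z, hz⟩
    obtain ⟨d, hd, hdz⟩ := (hsnd ▸ Subgroup.mem_top z : z ∈ D.map (MonoidHom.snd G E))
    exact ⟨⟨⟨d, hd⟩, show π d.1 = 1 by
      rw [show π d.1 = σ d.2 from hDQ hd, show d.2 = z from hdz]; exact hz⟩, Subtype.ext hdz⟩
  let r : W →* π.ker := (pr.comp W.subtype).codRestrict _ fun x => x.2
  have hrs : Function.Surjective r := by
    rintro ⟨c, hc⟩
    obtain ⟨d, hd⟩ := hpr.1 c
    exact ⟨⟨d, show π (pr d) = 1 by rw [hd]; exact hc⟩, Subtype.ext hd⟩
  have hrk : Nat.card r.ker = Nat.card pr.ker := Nat.card_congr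
    { toFun := fun x => ⟨x.1.1, congrArg Subtype.val x.2⟩
      invFun := fun x => ⟨⟨x.1, show π (pr x.1) = 1 by rw [show pr x.1 = 1 from x.2, map_one]⟩,
        Subtype.ext x.2⟩
      left_inv := fun _ => rfl
      right_inv := fun _ => rfl }
  have hW : Nat.card W = Nat.card pr.ker * Nat.card π.ker := by
    rw [Subgroup.card_eq_card_quotient_mul_card_subgroup r.ker, hrk,
      Nat.card_congr (QuotientGroup.quotientKerEquivOfSurjective r hrs).toEquiv]
    ring
  calc Nat.card σ.ker ≤ Nat.card W := Nat.card_le_card_of_surjective k hk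
    _ = _ := hW
    _ ≤ _ := Nat.mul_le_mul_right _ (hN D pr hpr)

/-- A normal subgroup with central simple quotient exhausts a perfect group. -/
theorem eq_top_of_normal {G : Type u} [Group G] (hG : commutator G = ⊤)
    [IsSimpleGroup (G ⧸ Subgroup.center G)] (N : Subgroup G) [N.Normal]
    (hN : ¬ N ≤ Subgroup.center G) : N = ⊤ := by
  rcases Subgroup.Normal.eq_bot_or_eq_top
    ((inferInstance : N.Normal).map (QuotientGroup.mk' (Subgroup.center G))
      (QuotientGroup.mk'_surjective _)) with h | h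
  · refine absurd (fun x hx => ?_) hN
    have h1 := Subgroup.mem_map_of_mem (QuotientGroup.mk' (Subgroup.center G)) hx
    rw [h, Subgroup.mem_bot] at h1
    exact (QuotientGroup.eq_one_iff x).1 h1
  · refine eq_top_iff.2 (hG.ge.trans ?_)
    rw [commutator_def, Subgroup.commutator_le]
    have h0 : ∀ a : G, ∃ n ∈ N, n⁻¹ * a ∈ Subgroup.center G := fun a => by
      obtain ⟨n, hn, e⟩ := (h ▸ Subgroup.mem_top (QuotientGroup.mk' (Subgroup.center G) a) :
        QuotientGroup.mk' (Subgroup.center G) a ∈ N.map (QuotientGroup.mk' (Subgroup.center G)))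
      exact ⟨n, hn, QuotientGroup.eq.1 e⟩
    intro a _ b _
    obtain ⟨n, hn, hz⟩ := h0 a
    have ha' : a = n * (n⁻¹ * a) := by group
    rw [ha', commutatorElement_def]
    set z := n⁻¹ * a
    rw [show n * z * b * (n * z)⁻¹ * b⁻¹ = n * (z * b) * z⁻¹ * n⁻¹ * b⁻¹ by group,
      ← Subgroup.mem_center_iff.1 hz b, show n * (b * z) * z⁻¹ * n⁻¹ * b⁻¹ = n * (b * n⁻¹ * b⁻¹) by group]
    exact mul_mem hn (‹N.Normal›.conj_mem _ (inv_mem hn) b)

end CfsgLib.Known.SplitLift
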