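import Cfsg.Agent.Lib.Known.SplitLift.Normal
import Cfsg.Agent.Lib.Known.SplitLift.Pull

/-!
# The coprime bound on a normal subgroup containing the unipotent group
-/

set_option autoImplicit false
set_option linter.unusedSectionVars false

namespace CfsgLib.Known.SplitLift

open Cfsg.Agent.S2426 (root)
open CfsgLib.Chev.BN CfsgLib.BNSteinberg

universe u w

variable {G : Type u} [Group G] [Finite G] {P : Cfsg.BNPair G} {p : ℕ} [Fact p.Prime] {U : Subgroup G}
  {n₀ : G}

/-- A rank one homomorphism lands in a normal subgroup containing the unipotent group. -/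
theorem RankOne.range_le (h : Opp P p U n₀) (M : Subgroup G) [M.Normal] (hUM : U ≤ M) {s : G}
    {F : Type w} [Field F] [Fintype F] {φ : Matrix.SpecialLinearGroup (Fin 2) F →* G}
    (hφ : RankOne F U n₀ s φ) (g : Matrix.SpecialLinearGroup (Fin 2) F) : φ g ∈ M := by
  have hle : Subgroup.closure (Set.range (root : Bool × F → _)) ≤ M.comap φ := by
    rw [Subgroup.closure_le]
    rintro _ ⟨⟨b, c⟩, rfl⟩
    show φ (root (b, c)) ∈ M
    cases b
    · obtain ⟨x, hx, e⟩ := hφ.down c
      rw [e]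
      exact ‹M.Normal›.conj_mem x (hUM ((mem_X h).1 hx).1) s
    · exact hUM ((mem_X h).1 (hφ.up c)).1
  exact hle (by rw [root_closure]; exact Subgroup.mem_top g)

/-- The coprime bound for a normal subgroup from rank one data of the ambient group. -/
theorem card_coprime_normal_le (h : Opp P p U n₀) (M : Subgroup G) [M.Normal] (hUM : U ≤ M)
    (hM : commutator M = ⊤) (hgen : ∀ N : Subgroup M, N.Normal → U.subgroupOf M ≤ N → N = ⊤)
    (b : G → ℕ)
    (hrk : ∀ s ∈ P.S, ∃ (F : Type w) (_ : Field F) (_ : Fintype F) (_ : CharP F p)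
      (φ : Matrix.SpecialLinearGroup (Fin 2) F →* G),
        RankOne F U n₀ s φ ∧ Fintype.card F - 1 ≤ b s ∧ 1 ≤ b s)
    [Fintype P.S]
    (E : Type u) [Group E] [Finite E] (σ : E →* M) (hσ : Cfsg.IsStemExtension σ)
    (hco : (Nat.card σ.ker).Coprime p) :
    Nat.card σ.ker * Nat.card ↥((P.B ⊓ P.N).subgroupOf M) ≤ ∏ s : P.S, b s := by
  classical
  obtain ⟨r₀, he₀, h'⟩ := exists_opp_normal h M hUM
  let nP := SplitBN.normalPair M h.split hUM
  let ι : P.S → nP.S := fun s => ⟨SplitBN.genRep M h.split hUM s.1 s.2, s.1, s.2, rfl⟩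
  have hι : Function.Surjective ι := by
    rintro ⟨_, s, hs, rfl⟩
    exact ⟨⟨s, hs⟩, rfl⟩
  haveI : Fintype nP.S := Fintype.ofFinite _
  let sec : nP.S → P.S := Function.surjInv hι
  have hb : ∀ (E : Type u) [Group E] [Finite E] (σ : E →* M), Cov σ p → ∀ r : nP.S,
      Nat.card (tau σ nP p (U.subgroupOf M) r₀ r) ≤ b (sec r) := by
    intro E _ _ σ hc r
    obtain ⟨⟨s, hs⟩, hsr⟩ : ∃ s : P.S, s = sec r := ⟨_, rfl⟩
    have hr : ι ⟨s, hs⟩ = r := by rw [hsr]; exact Function.surjInv_eq hι r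
    obtain ⟨F, _, _, _, φ, hφ, hle, -⟩ := hrk s hs
    have hmem := hφ.range_le h M hUM
    have heqv := SplitBN.genRep_eqv M h.split hUM hs
    have h1 := hφ.normal h M hUM h' he₀ hs heqv hmem
    rw [← hsr, ← hr]
    exact (card_tau_le hc h' (ι ⟨s, hs⟩).2 h1).trans hle
  have h1 := card_coprime_le h' hgen hM (fun r => b (sec r)) hb E σ hσ hco
  have hT : (nP.B ⊓ nP.N) = (P.B ⊓ P.N).subgroupOf M := rfl
  rw [hT] at h1
  refine h1.trans ?_
  calc ∏ r : nP.S, b (sec r) = ∏ s ∈ Finset.univ.map ⟨sec, Function.injective_surjInv hι⟩, b s.1 := by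
        rw [Finset.prod_map]; rfl
    _ ≤ _ := Finset.prod_le_prod_of_subset_of_one_le' (Finset.subset_univ _) fun s _ _ => by
        obtain ⟨F, _, _, _, φ, -, -, h1⟩ := hrk s.1 s.2
        exact h1

/-- The torus of a subgroup of index two has at least half the order. -/
theorem card_torus_index_two (M : Subgroup G) (hM : M.index = 2) (T : Subgroup G) :
    Nat.card T ≤ 2 * Nat.card (T ⊓ M : Subgroup G) := by
  rw [← (M.subgroupOf T).card_mul_index, mul_comm 2,
    Nat.card_congr ((Subgroup.subgroupOfEquivOfLe (inf_le_left : T ⊓ M ≤ T)).symm).toEquiv]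
  rw [Subgroup.inf_subgroupOf_left]
  refine Nat.mul_le_mul le_rfl ?_
  show M.relIndex T ≤ 2
  rw [← hM, ← Subgroup.relIndex_top_right]
  exact Subgroup.relIndex_le_of_le_right le_top (by simp [hM])

end CfsgLib.Known.SplitLift
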