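import Cfsg.Agent.Lib.Known.SplitLift.Twisted
import Cfsg.Agent.Lib.TwistBN.Orth

/-!
# The rank one groups of the odd orthogonal groups
-/

set_option autoImplicit false
set_option linter.unusedSectionVars false
set_option linter.unusedSimpArgs false
set_option maxHeartbeats 1000000

namespace CfsgLib.Known.SplitLift.Odd

open Matrix CfsgLib.TwistBN CfsgLib.PronormalPSL CfsgLib.PronormalPSU CfsgLib.Fusion.UniTri CfsgLib.GLUnipotent
open Cfsg.Agent.S2426 (root root_val)

variable {F : Type*} [Field F] [Finite F] {n : ℕ}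

local notation "SL2" => Matrix.SpecialLinearGroup (Fin 2) F
local notation "G₀" => fixS (1 : Fin n → Fˣ) (RingEquiv.refl F)

/-- The action of `SL₂` on a pair of mirrored planes. -/
def shortAct (k : ℕ) (hk : 2 * k + 4 ≤ n) (A : Matrix (Fin 2) (Fin 2) F) (v : Fin n → F) (i : Fin n) : F :=
  if i.val = k then A 0 0 * v ⟨k, by omega⟩ + A 0 1 * v ⟨k + 1, by omega⟩
  else if i.val = k + 1 then A 1 0 * v ⟨k, by omega⟩ + A 1 1 * v ⟨k + 1, by omega⟩
  else if i.val = n - 2 - k then A 0 0 * v ⟨n - 2 - k, by omega⟩ - A 0 1 * v ⟨n - 1 - k, by omega⟩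
  else if i.val = n - 1 - k then -(A 1 0 * v ⟨n - 2 - k, by omega⟩) + A 1 1 * v ⟨n - 1 - k, by omega⟩
  else v i

/-- The action of `SL₂` on the middle space through traceless matrices. -/
def midAct (k : ℕ) (hk : 2 * k + 3 = n) (A : Matrix (Fin 2) (Fin 2) F) (v : Fin n → F) (i : Fin n) : F :=
  if i.val = k then A 0 0 * A 0 0 * v ⟨k, by omega⟩ - A 0 0 * A 0 1 * v ⟨k + 1, by omega⟩
      - A 0 1 * A 0 1 * (2 : F)⁻¹ * v ⟨k + 2, by omega⟩
  else if i.val = k + 1 then -(2 * A 0 0 * A 1 0 * v ⟨k, by omega⟩)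
      + (A 0 0 * A 1 1 + A 0 1 * A 1 0) * v ⟨k + 1, by omega⟩ + A 0 1 * A 1 1 * v ⟨k + 2, by omega⟩
  else if i.val = k + 2 then -(2 * A 1 0 * A 1 0 * v ⟨k, by omega⟩)
      + 2 * A 1 0 * A 1 1 * v ⟨k + 1, by omega⟩ + A 1 1 * A 1 1 * v ⟨k + 2, by omega⟩
  else v i

/-- A matrix from a linear action. -/
noncomputable def matOf (f : (Fin n → F) → Fin n → F) : Matrix (Fin n) (Fin n) F :=
  Matrix.of fun i j => f (Pi.single j 1) i

theorem matOf_mul {f g : (Fin n → F) → Fin n → F} (hf : IsLinearMap F f) (hg : IsLinearMap F g) :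
    matOf f * matOf g = matOf (f ∘ g) := by
  have e : ∀ {f : (Fin n → F) → Fin n → F} (h : IsLinearMap F f),
      matOf f = LinearMap.toMatrix' (h.mk' f) := fun h => Matrix.ext fun i j => by
    rw [LinearMap.toMatrix'_apply]
    simp [matOf, Pi.single_apply, eq_comm]
  have hfg : IsLinearMap F (f ∘ g) := ((hf.mk' f).comp (hg.mk' g)).isLinear
  rw [e hf, e hg, e hfg, ← LinearMap.toMatrix'_comp]
  rfl

theorem isLinear_short (k : ℕ) (hk : 2 * k + 4 ≤ n) (A : Matrix (Fin 2) (Fin 2) F) :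
    IsLinearMap F (shortAct k hk A) :=
  ⟨fun v w => funext fun i => by simp only [shortAct, Pi.add_apply]; split_ifs <;> ring,
    fun c v => funext fun i => by
      simp only [shortAct, Pi.smul_apply, smul_eq_mul]; split_ifs <;> ring⟩

theorem isLinear_mid (k : ℕ) (hk : 2 * k + 3 = n) (A : Matrix (Fin 2) (Fin 2) F) :
    IsLinearMap F (midAct k hk A) :=
  ⟨fun v w => funext fun i => by simp only [midAct, Pi.add_apply]; split_ifs <;> ring,
    fun c v => funext fun i => by
      simp only [midAct, Pi.smul_apply, smul_eq_mul]; split_ifs <;> ring⟩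

theorem short_comp (k : ℕ) (hk : 2 * k + 4 ≤ n) (A B : Matrix (Fin 2) (Fin 2) F) :
    shortAct k hk A ∘ shortAct k hk B = shortAct k hk (A * B) := by
  funext v i
  have c1 : ¬ k + 1 = k := by omega
  have c2 : ¬ n - 2 - k = k := by omega
  have c3 : ¬ n - 2 - k = k + 1 := by omega
  have c4 : ¬ n - 1 - k = k := by omega
  have c5 : ¬ n - 1 - k = k + 1 := by omega
  have c6 : ¬ n - 1 - k = n - 2 - k := by omega
  simp only [Function.comp_apply, shortAct, Matrix.mul_apply, Fin.sum_univ_two, if_true, c1, c2, c3, c4,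
    c5, c6, if_false]
  split_ifs <;> ring

theorem mid_comp (k : ℕ) (hk : 2 * k + 3 = n) (h2 : (2 : F) ≠ 0) (A B : Matrix (Fin 2) (Fin 2) F) :
    midAct k hk A ∘ midAct k hk B = midAct k hk (A * B) := by
  funext v i
  have c1 : ¬ k + 1 = k := by omega
  have c2 : ¬ k + 2 = k := by omega
  have c3 : ¬ k + 2 = k + 1 := by omega
  simp only [Function.comp_apply, midAct, Matrix.mul_apply, Fin.sum_univ_two, if_true, c1, c2, c3, if_false]
  split_ifs <;> field_simp <;> ring

theorem short_one (k : ℕ) (hk : 2 * k + 4 ≤ n) : matOf (shortAct k hk (1 : Matrix (Fin 2) (Fin 2) F)) = 1 := by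
  refine Matrix.ext fun i j => ?_
  simp only [matOf, shortAct, Matrix.of_apply, Matrix.one_apply, Pi.single_apply, Fin.ext_iff]
  split_ifs <;> first | omega | simp_all

theorem mid_one (k : ℕ) (hk : 2 * k + 3 = n) : matOf (midAct k hk (1 : Matrix (Fin 2) (Fin 2) F)) = 1 := by
  refine Matrix.ext fun i j => ?_
  simp only [matOf, midAct, Matrix.of_apply, Matrix.one_apply, Pi.single_apply, Fin.ext_iff]
  split_ifs <;> first | omega | simp_all

/-- The homomorphism of a short node into `GL_n`. -/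
noncomputable def shortGL (k : ℕ) (hk : 2 * k + 4 ≤ n) : SL2 →* GL (Fin n) F :=
  MonoidHom.toHomUnits
    { toFun := fun A => matOf (shortAct k hk A.1)
      map_one' := short_one k hk
      map_mul' := fun A B => by
        rw [matOf_mul (isLinear_short k hk _) (isLinear_short k hk _), short_comp]; rfl }

/-- The homomorphism of the middle node into `GL_n`. -/
noncomputable def midGL (k : ℕ) (hk : 2 * k + 3 = n) (h2 : (2 : F) ≠ 0) : SL2 →* GL (Fin n) F :=
  MonoidHom.toHomUnits
    { toFun := fun A => matOf (midAct k hk A.1)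
      map_one' := mid_one k hk
      map_mul' := fun A B => by
        rw [matOf_mul (isLinear_mid k hk _) (isLinear_mid k hk _), mid_comp k hk h2]; rfl }

theorem shortGL_val (k : ℕ) (hk : 2 * k + 4 ≤ n) (A : SL2) (i j : Fin n) :
    (shortGL k hk A).1 i j = shortAct k hk A.1 (Pi.single j 1) i := rfl

theorem midGL_val (k : ℕ) (hk : 2 * k + 3 = n) (h2 : (2 : F) ≠ 0) (A : SL2) (i j : Fin n) :
    (midGL k hk h2 A).1 i j = midAct k hk A.1 (Pi.single j 1) i := rfl

theorem inv_entries (A : SL2) : (A⁻¹).1 0 0 = A.1 1 1 ∧ (A⁻¹).1 0 1 = -A.1 0 1 ∧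
    (A⁻¹).1 1 0 = -A.1 1 0 ∧ (A⁻¹).1 1 1 = A.1 0 0 := by
  rw [Matrix.SpecialLinearGroup.coe_inv, Matrix.adjugate_fin_two]
  simp

theorem short_uni (k : ℕ) (hk : 2 * k + 4 ≤ n) (c : F) :
    shortGL k hk (root (true, c)) ∈ uni F n ∧ tpose (shortGL k hk (root (false, c))) ∈ uni F n := by
  refine ⟨mem_uni.2 ⟨fun i j hij => ?_, fun i => ?_⟩, mem_uni.2 ⟨fun i j hij => ?_, fun i => ?_⟩⟩
  · rw [shortGL_val]; simp only [shortAct, root_val, Bool.false_eq_true, if_true, if_false, Pi.single_apply, Fin.ext_iff]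
    rw [Fin.lt_def] at hij; split_ifs <;> first | omega | simp
  · rw [shortGL_val]; simp only [shortAct, root_val, Bool.false_eq_true, if_true, if_false, Pi.single_apply, Fin.ext_iff]
    split_ifs <;> first | omega | simp
  · show (shortGL k hk (root (false, c))).1 j i = 0
    rw [shortGL_val]; simp only [shortAct, root_val, Bool.false_eq_true, if_true, if_false, Pi.single_apply, Fin.ext_iff]
    rw [Fin.lt_def] at hij; split_ifs <;> first | omega | simp
  · show (shortGL k hk (root (false, c))).1 i i = 1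
    rw [shortGL_val]; simp only [shortAct, root_val, Bool.false_eq_true, if_true, if_false, Pi.single_apply, Fin.ext_iff]
    split_ifs <;> first | omega | simp

theorem mid_uni (k : ℕ) (hk : 2 * k + 3 = n) (h2 : (2 : F) ≠ 0) (c : F) :
    midGL k hk h2 (root (true, c)) ∈ uni F n ∧ tpose (midGL k hk h2 (root (false, c))) ∈ uni F n := by
  refine ⟨mem_uni.2 ⟨fun i j hij => ?_, fun i => ?_⟩, mem_uni.2 ⟨fun i j hij => ?_, fun i => ?_⟩⟩
  · rw [midGL_val]; simp only [midAct, root_val, Bool.false_eq_true, if_true, if_false, Pi.single_apply, Fin.ext_iff]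
    rw [Fin.lt_def] at hij; split_ifs <;> first | omega | simp
  · rw [midGL_val]; simp only [midAct, root_val, Bool.false_eq_true, if_true, if_false, Pi.single_apply, Fin.ext_iff]
    split_ifs <;> first | omega | simp
  · show (midGL k hk h2 (root (false, c))).1 j i = 0
    rw [midGL_val]; simp only [midAct, root_val, Bool.false_eq_true, if_true, if_false, Pi.single_apply, Fin.ext_iff]
    rw [Fin.lt_def] at hij; split_ifs <;> first | omega | simp
  · show (midGL k hk h2 (root (false, c))).1 i i = 1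
    rw [midGL_val]; simp only [midAct, root_val, Bool.false_eq_true, if_true, if_false, Pi.single_apply, Fin.ext_iff]
    split_ifs <;> first | omega | simp

theorem short_bd (k : ℕ) (hk : 2 * k + 4 ≤ n) (A : SL2) : BD k (shortGL k hk A).1 := by
  intro i j hij
  rw [Ne, blk_eq_iff (by omega)] at hij
  push Not at hij
  have := i.isLt
  have := j.isLt
  rw [shortGL_val]
  simp only [shortAct, Pi.single_apply, Fin.ext_iff]
  split_ifs <;> first | omega | simp

theorem mid_bd (k : ℕ) (hk : 2 * k + 3 = n) (h2 : (2 : F) ≠ 0) (A : SL2) :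
    BD k (midGL k hk h2 A).1 := by
  intro i j hij
  rw [Ne, blk_eq_iff (by omega)] at hij
  push Not at hij
  have := i.isLt
  have := j.isLt
  rw [midGL_val]
  simp only [midAct, Pi.single_apply, Fin.ext_iff]
  split_ifs <;> first | omega | simp

theorem short_th (k : ℕ) (hk : 2 * k + 4 ≤ n) (A : SL2) :
    th (1 : Fin n → Fˣ) (RingEquiv.refl F) (shortGL k hk A) = shortGL k hk A := by
  refine th_eq_of_entries (fun _ => by simp) fun i j => ?_
  obtain ⟨a1, a2, a3, a4⟩ := inv_entries A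
  have := i.isLt
  have := j.isLt
  rw [← map_inv, shortGL_val, shortGL_val]
  simp only [shortAct, Pi.single_apply, Fin.ext_iff, Fin.val_rev, a1, a2, a3, a4, Pi.one_apply,
    Units.val_one, one_mul, mul_one, RingEquiv.refl_apply]
  split_ifs <;> first | omega | simp

theorem mid_th (k : ℕ) (hk : 2 * k + 3 = n) (h2 : (2 : F) ≠ 0) (A : SL2) :
    th (1 : Fin n → Fˣ) (RingEquiv.refl F) (midGL k hk h2 A) = midGL k hk h2 A := by
  refine th_eq_of_entries (fun _ => by simp) fun i j => ?_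
  obtain ⟨a1, a2, a3, a4⟩ := inv_entries A
  have := i.isLt
  have := j.isLt
  rw [← map_inv, midGL_val, midGL_val]
  simp only [midAct, Pi.single_apply, Fin.ext_iff, Fin.val_rev, a1, a2, a3, a4, Pi.one_apply,
    Units.val_one, one_mul, mul_one, RingEquiv.refl_apply]
  split_ifs <;> first | omega | (field_simp; ring) | simp

/-- A homomorphism with fixed unitriangular root images lands in the fixed points. -/
theorem mem_fixS_of_roots {F : Type*} [Field F] [Fintype F] {d : Fin n → Fˣ} {σ : F ≃+* F}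
    (φ : Matrix.SpecialLinearGroup (Fin 2) F →* GL (Fin n) F) (hth : ∀ A, th d σ (φ A) = φ A)
    (hup : ∀ c, φ (root (true, c)) ∈ uni F n) (hdown : ∀ c, tpose (φ (root (false, c))) ∈ uni F n)
    (A : Matrix.SpecialLinearGroup (Fin 2) F) : φ A ∈ fixS d σ := by
  refine mem_fixS.2 ⟨hth A, ?_⟩
  have hdet : A ∈ (Matrix.GeneralLinearGroup.det.comp φ).ker := by
    have hle : Subgroup.closure (Set.range (root : Bool × F → _)) ≤
        (Matrix.GeneralLinearGroup.det.comp φ).ker := by
      rw [Subgroup.closure_le]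
      rintro _ ⟨⟨b, c⟩, rfl⟩
      refine MonoidHom.mem_ker.2 (Units.ext ?_)
      show (φ (root (b, c))).1.det = 1
      cases b
      · have := det_uni (hdown c)
        rw [show (tpose (φ (root (false, c)))).1 = (φ (root (false, c))).1ᵀ from rfl, det_transpose] at this
        exact this
      · exact det_uni (hup c)
    exact hle (by rw [root_closure]; exact Subgroup.mem_top A)
  exact congrArg Units.val (MonoidHom.mem_ker.1 hdet)

variable [Fintype F]

/-- The homomorphism of a short node. -/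
noncomputable def shortHom (k : ℕ) (hk : 2 * k + 4 ≤ n) : SL2 →* G₀ :=
  (shortGL k hk).codRestrict _ (mem_fixS_of_roots _ (short_th k hk) (fun c => (short_uni k hk c).1)
    (fun c => (short_uni k hk c).2))

/-- The homomorphism of the middle node. -/
noncomputable def midHom (k : ℕ) (hk : 2 * k + 3 = n) (h2 : (2 : F) ≠ 0) : SL2 →* G₀ :=
  (midGL k hk h2).codRestrict _ (mem_fixS_of_roots _ (mid_th k hk h2) (fun c => (mid_uni k hk h2 c).1)
    (fun c => (mid_uni k hk h2 c).2))

/-- The equations of a fixed element. -/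
theorem gram_entry {u : GL (Fin n) F} (hu : u ∈ G₀) (i j : Fin n) :
    ∑ z, u.1 i z * u.1 j (Fin.rev z) = if j = Fin.rev i then 1 else 0 := by
  have h := (th_eq_iff _ _ _).1 (mem_fixS.1 hu).1
  rw [RingEquiv.coe_refl, Matrix.map_id] at h
  have h' := congrFun (congrFun h i) j
  rw [Matrix.mul_apply, ← Equiv.sum_comp Fin.revPerm] at h'
  have hg : ∀ z, (u.1 * CfsgLib.TwistBN.gram (1 : Fin n → Fˣ)) i (Fin.rev z) = u.1 i z := fun z => by
    rw [mul_gram, Fin.rev_rev]; simp
  simp only [Fin.revPerm_apply, hg, Matrix.transpose_apply] at h'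
  simpa [CfsgLib.TwistBN.gram] using h'

theorem short_pair {u : GL (Fin n) F} (hu : u ∈ G₀) (hU : u ∈ uni F n) {k : ℕ}
    (hk : 2 * k + 4 ≤ n) (hbd : BD k u.1) :
    u.1 ⟨n - 2 - k, by omega⟩ ⟨n - 1 - k, by omega⟩ = -u.1 ⟨k, by omega⟩ ⟨k + 1, by omega⟩ := by
  have h := gram_entry hu ⟨k, by omega⟩ ⟨n - 2 - k, by omega⟩
  rw [if_neg (by simp only [Fin.ext_iff, Fin.val_rev]; omega),
    Finset.sum_eq_add (⟨k, by omega⟩ : Fin n) ⟨k + 1, by omega⟩ (by simp [Fin.ext_iff]) (fun z _ hz => by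
      have := z.isLt
      have h1 := hbd ⟨k, by omega⟩ z (by
        simp only [Ne, Fin.ext_iff] at hz
        rw [Ne, blk_eq_iff (by omega)]
        push Not
        simp only
        omega)
      rw [h1, zero_mul]) (by simp) (by simp)] at h
  rw [(mem_uni.1 hU).2, one_mul] at h
  have e1 : Fin.rev (⟨k, by omega⟩ : Fin n) = ⟨n - 1 - k, by omega⟩ := by
    simp only [Fin.ext_iff, Fin.val_rev]; omega
  have e2 : Fin.rev (⟨k + 1, by omega⟩ : Fin n) = ⟨n - 2 - k, by omega⟩ := by
    simp only [Fin.ext_iff, Fin.val_rev]; omega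
  rw [e1, e2, (mem_uni.1 hU).2, mul_one] at h
  linear_combination h

theorem short_onto {u : GL (Fin n) F} (hu : u ∈ G₀) (hU : u ∈ uni F n) {k : ℕ} (hk : 2 * k + 4 ≤ n)
    (hbd : BD k u.1) : shortGL k hk (root (true, u.1 ⟨k, by omega⟩ ⟨k + 1, by omega⟩)) = u := by
  have p0 : k < n := by omega
  have p1 : k + 1 < n := by omega
  have p2 : k + 2 < n := by omega
  have p3 : n - 2 - k < n := by omega
  have p4 : n - 1 - k < n := by omega
  refine Units.ext (Matrix.ext fun i j => ?_)
  set x := u.1 ⟨k, p0⟩ ⟨k + 1, p1⟩ with hx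
  rcases lt_trichotomy i j with hij | rfl | hij
  · by_cases hb : blk k i = blk k j
    · rw [blk_eq_iff (by omega)] at hb
      rw [Fin.lt_def] at hij
      rcases hb with h | ⟨a, b⟩ | ⟨a, b⟩ | ⟨a, b⟩ | ⟨a, b⟩ | ⟨c, a, b⟩ | ⟨c, a, b⟩ <;> try omega
      · obtain rfl : i = ⟨k, p0⟩ := Fin.ext a
        obtain rfl : j = ⟨k + 1, p1⟩ := Fin.ext b
        rw [shortGL_val]
        simp [shortAct, root_val, Pi.single_apply, Fin.ext_iff, hx]
      · obtain rfl : i = ⟨n - 2 - k, p3⟩ := Fin.ext a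
        obtain rfl : j = ⟨n - 1 - k, p4⟩ := Fin.ext b
        rw [shortGL_val, short_pair hu hU hk hbd]
        simp only [shortAct, root_val, Bool.false_eq_true, if_true, if_false, Pi.single_apply, Fin.ext_iff]
        split_ifs <;> first | omega | simp [hx]
    · rw [short_bd k hk _ i j hb, hbd i j hb]
  · rw [(mem_uni.1 (short_uni k hk x).1).2, (mem_uni.1 hU).2]
  · rw [(mem_uni.1 (short_uni k hk x).1).1 _ _ hij, (mem_uni.1 hU).1 _ _ hij]

theorem mid_rel {u : GL (Fin n) F} (hu : u ∈ G₀) (hU : u ∈ uni F n) {k : ℕ}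
    (hk : 2 * k + 3 = n) (hbd : BD k u.1) :
    u.1 ⟨k + 1, by omega⟩ ⟨k + 2, by omega⟩ = -u.1 ⟨k, by omega⟩ ⟨k + 1, by omega⟩ ∧
      2 * u.1 ⟨k, by omega⟩ ⟨k + 2, by omega⟩ = -(u.1 ⟨k, by omega⟩ ⟨k + 1, by omega⟩ ^ 2) := by
  set a : Fin n := ⟨k, by omega⟩ with ha
  set b : Fin n := ⟨k + 1, by omega⟩ with hb
  set c : Fin n := ⟨k + 2, by omega⟩ with hc
  have hsum : ∀ j, (∑ z, u.1 a z * u.1 j (Fin.rev z)) =
      u.1 a a * u.1 j c + u.1 a b * u.1 j b + u.1 a c * u.1 j a := by
    intro j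
    have e1 : Fin.rev a = c := by simp only [Fin.ext_iff, Fin.val_rev, ha, hc]; omega
    have e2 : Fin.rev b = b := by simp only [Fin.ext_iff, Fin.val_rev, hb]; omega
    have e3 : Fin.rev c = a := by rw [← e1, Fin.rev_rev]
    rw [← Finset.sum_subset (Finset.subset_univ ({a, b, c} : Finset (Fin n))) fun z _ hz => ?_]
    · rw [Finset.sum_insert (by simp [Fin.ext_iff, ha, hb, hc]),
        Finset.sum_insert (by simp [Fin.ext_iff, hb, hc]), Finset.sum_singleton, e1, e2, e3]
      ring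
    · have := z.isLt
      simp only [Finset.mem_insert, Finset.mem_singleton, Fin.ext_iff, ha, hb, hc] at hz
      rw [hbd a z (by rw [Ne, blk_eq_iff (by omega)]; push Not; simp only [ha]; omega), zero_mul]
  have hab : a < b := Fin.lt_def.2 (by show k < k + 1; omega)
  have d : ∀ i, u.1 i i = 1 := (mem_uni.1 hU).2
  constructor
  · have h := gram_entry hu a b
    rw [hsum, if_neg (by simp only [Fin.ext_iff, Fin.val_rev, ha, hb]; omega), d, d,
      (mem_uni.1 hU).1 b a hab] at h
    linear_combination h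
  · have h := gram_entry hu a a
    rw [hsum, if_neg (by simp only [Fin.ext_iff, Fin.val_rev, ha]; omega), d] at h
    linear_combination h

theorem mid_onto (h2 : (2 : F) ≠ 0) {u : GL (Fin n) F} (hu : u ∈ G₀) (hU : u ∈ uni F n) {k : ℕ}
    (hk : 2 * k + 3 = n) (hbd : BD k u.1) :
    midGL k hk h2 (root (true, -u.1 ⟨k, by omega⟩ ⟨k + 1, by omega⟩)) = u := by
  obtain ⟨r1, r2⟩ := mid_rel hu hU hk hbd
  have p0 : k < n := by omega
  have p1 : k + 1 < n := by omega
  have p2 : k + 2 < n := by omega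
  have p3 : n - 2 - k < n := by omega
  have p4 : n - 1 - k < n := by omega
  refine Units.ext (Matrix.ext fun i j => ?_)
  set x := u.1 ⟨k, p0⟩ ⟨k + 1, p1⟩ with hx
  rcases lt_trichotomy i j with hij | rfl | hij
  · by_cases hb : blk k i = blk k j
    · rw [blk_eq_iff (by omega)] at hb
      rw [Fin.lt_def] at hij
      have hcase : (i.val = k ∧ j.val = k + 1) ∨ (i.val = k + 1 ∧ j.val = k + 2) ∨
          (i.val = k ∧ j.val = k + 2) := by omega
      rcases hcase with ⟨a, b⟩ | ⟨a, b⟩ | ⟨a, b⟩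
      · obtain rfl : i = ⟨k, p0⟩ := Fin.ext a
        obtain rfl : j = ⟨k + 1, p1⟩ := Fin.ext b
        rw [midGL_val]
        simp [midAct, root_val, Pi.single_apply, Fin.ext_iff, hx]
      · obtain rfl : i = ⟨k + 1, p1⟩ := Fin.ext a
        obtain rfl : j = ⟨k + 2, p2⟩ := Fin.ext b
        rw [midGL_val, r1]
        simp [midAct, root_val, Pi.single_apply, Fin.ext_iff]
      · obtain rfl : i = ⟨k, p0⟩ := Fin.ext a
        obtain rfl : j = ⟨k + 2, p2⟩ := Fin.ext b
        rw [midGL_val]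
        simp [midAct, root_val, Pi.single_apply, Fin.ext_iff]
        field_simp
        linear_combination -r2
    · rw [mid_bd k hk h2 _ i j hb, hbd i j hb]
  · rw [(mem_uni.1 (mid_uni k hk h2 (-x)).1).2, (mem_uni.1 hU).2]
  · rw [(mem_uni.1 (mid_uni k hk h2 (-x)).1).1 _ _ hij, (mem_uni.1 hU).1 _ _ hij]

theorem short_tpose (k : ℕ) (hk : 2 * k + 4 ≤ n) (c : F) :
    tpose (shortGL k hk (root (true, c))) = shortGL k hk (root (false, c)) := by
  refine Units.ext (Matrix.ext fun i j => ?_)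
  show (shortGL k hk (root (true, c))).1 j i = _
  rw [shortGL_val, shortGL_val]
  simp only [shortAct, root_val, Bool.false_eq_true, if_true, if_false, Pi.single_apply, Fin.ext_iff]
  split_ifs <;> first | omega | simp

theorem mid_tpose (k : ℕ) (hk : 2 * k + 3 = n) (h2 : (2 : F) ≠ 0) (c : F) :
    tpose (midGL k hk h2 (root (true, c))) = midGL k hk h2 (root (false, c * (2 : F)⁻¹)) := by
  refine Units.ext (Matrix.ext fun i j => ?_)
  show (midGL k hk h2 (root (true, c))).1 j i = _
  rw [midGL_val, midGL_val]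
  simp only [midAct, root_val, Bool.false_eq_true, if_true, if_false, Pi.single_apply, Fin.ext_iff]
  split_ifs <;> first | omega | (simp; field_simp) | simp

theorem tpose_tpose (u : GL (Fin n) F) : tpose (tpose u) = u :=
  Units.ext (Matrix.transpose_transpose _)

variable {p : ℕ} [Fact p.Prime] [CharP F p] (C : Ctx (1 : Fin n → Fˣ) (RingEquiv.refl F))
  {n₀ : fixS (1 : Fin n → Fˣ) (RingEquiv.refl F)} (hn₀ : Mono Fin.revPerm (n₀ : GL (Fin n) F).1)
  (h : Opp (bnPair C) p (unipU (1 : Fin n → Fˣ) (RingEquiv.refl F)) n₀)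

include hn₀ h

theorem short_rankOne {k : ℕ} (hk : 2 * k + 4 ≤ n) :
    RankOne F (unipU (1 : Fin n → Fˣ) (RingEquiv.refl F)) n₀ (sRep C k (by omega)) (shortHom k hk) := by
  refine rankOne_twisted C hn₀ h (by omega) _ (fun c => ⟨(short_uni k hk c).1, short_bd k hk _⟩)
    (fun u hu hU hbd => ⟨_, short_onto hu hU hk hbd⟩)
    (fun c => ⟨(short_uni k hk c).2, short_bd k hk _⟩) (fun u hu hU hbd => ?_) fun g hg => ?_
  · have h1 := short_onto (tpose_mem_fixS (fun _ => by simp) hu) hU hk fun i j hij => hbd j i hij.symm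
    refine ⟨(tpose u).1 ⟨k, by omega⟩ ⟨k + 1, by omega⟩, ?_⟩
    show shortGL k hk _ = u
    rw [← short_tpose, h1, tpose_tpose]
  · have e : ∀ i j, (shortGL k hk g).1 i j = (1 : Matrix (Fin n) (Fin n) F) i j := fun i j =>
      congrArg (fun x : G₀ => (x : GL (Fin n) F).1 i j) hg
    have h00 := e ⟨k, by omega⟩ ⟨k, by omega⟩
    have h01 := e ⟨k, by omega⟩ ⟨k + 1, by omega⟩
    have h10 := e ⟨k + 1, by omega⟩ ⟨k, by omega⟩
    have h11 := e ⟨k + 1, by omega⟩ ⟨k + 1, by omega⟩
    simp [shortGL_val, shortAct, Pi.single_apply, Fin.ext_iff, Matrix.one_apply] at h00 h01 h10 h11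
    rw [show g = 1 from Subtype.ext (Matrix.ext fun i j => by
      fin_cases i <;> fin_cases j <;> simp [h00, h01, h10, h11])]
    exact one_mem _

theorem mid_rankOne (h2 : (2 : F) ≠ 0) {k : ℕ} (hk : 2 * k + 3 = n) :
    RankOne F (unipU (1 : Fin n → Fˣ) (RingEquiv.refl F)) n₀ (sRep C k (by omega)) (midHom k hk h2) := by
  refine rankOne_twisted C hn₀ h (by omega) _ (fun c => ⟨(mid_uni k hk h2 c).1, mid_bd k hk h2 _⟩)
    (fun u hu hU hbd => ⟨_, mid_onto h2 hu hU hk hbd⟩)
    (fun c => ⟨(mid_uni k hk h2 c).2, mid_bd k hk h2 _⟩) (fun u hu hU hbd => ?_) fun g hg => ?_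
  · have h1 := mid_onto h2 (tpose_mem_fixS (fun _ => by simp) hu) hU hk fun i j hij => hbd j i hij.symm
    refine ⟨-(tpose u).1 ⟨k, by omega⟩ ⟨k + 1, by omega⟩ * (2 : F)⁻¹, ?_⟩
    show midGL k hk h2 _ = u
    rw [← mid_tpose, h1, tpose_tpose]
  · have e : ∀ i j, (midGL k hk h2 g).1 i j = (1 : Matrix (Fin n) (Fin n) F) i j := fun i j =>
      congrArg (fun x : G₀ => (x : GL (Fin n) F).1 i j) hg
    have hb : g.1 0 1 * g.1 0 1 = 0 := by
      have := e ⟨k, by omega⟩ ⟨k + 2, by omega⟩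
      simp [midGL_val, midAct, Pi.single_apply, Fin.ext_iff, Matrix.one_apply, h2] at this
      simp [this]
    have hc : g.1 1 0 * g.1 1 0 = 0 := by
      have := e ⟨k + 2, by omega⟩ ⟨k, by omega⟩
      simp [midGL_val, midAct, Pi.single_apply, Fin.ext_iff, Matrix.one_apply, h2] at this
      simp [this]
    have ha : g.1 0 0 * g.1 0 0 = 1 := by
      have := e ⟨k, by omega⟩ ⟨k, by omega⟩
      simpa [midGL_val, midAct, Pi.single_apply, Fin.ext_iff, Matrix.one_apply] using this
    have hb' := mul_self_eq_zero.1 hb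
    have hc' := mul_self_eq_zero.1 hc
    have hd := g.det_coe
    rw [Matrix.det_fin_two, hb', zero_mul, sub_zero] at hd
    have hda : g.1 1 1 = g.1 0 0 := by linear_combination g.1 0 0 * hd - g.1 1 1 * ha
    refine Matrix.SpecialLinearGroup.mem_center_iff.2 ⟨g.1 0 0, ?_, Matrix.ext fun i j => ?_⟩
    · rw [Fintype.card_fin, pow_two, ha]
    · fin_cases i <;> fin_cases j <;> simp [hb', hc', hda]

end CfsgLib.Known.SplitLift.Odd
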