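import Cfsg.Agent.Lib.Known.SplitLift.OddNodes
import Cfsg.Agent.Lib.TwistBN.PlusPair

/-!
# The rank one groups of the hyperbolic orthogonal groups
-/

set_option autoImplicit false
set_option linter.unusedSectionVars false
set_option linter.unusedSimpArgs false
set_option maxHeartbeats 1000000

namespace CfsgLib.Known.SplitLift.Plus

open Matrix CfsgLib.TwistBN CfsgLib.TwistBN.Plus CfsgLib.PronormalPSL CfsgLib.PronormalPSU
open CfsgLib.Fusion.UniTri CfsgLib.GLUnipotent
open Cfsg.Agent.S2426 (root)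
open CfsgLib.Known.SplitLift.Odd

variable {F : Type*} [Field F] [Finite F] {m : ℕ}

/-- Permutations agreeing with the identity or the middle swap. -/
def Mild (π : Equiv.Perm (Fin (2 * m))) : Prop := π = 1 ∨ (π = rho m ∧ 1 ≤ m)

/-- The data of the long element. -/
structure Long {p : ℕ} [Fact p.Prime] [CharP F p] (n₀ : GP F m) : Prop where
  opp : Opp (TwistBN.Plus.bnPair F m) p ((uni F (2 * m)).subgroupOf (GP F m)) n₀
  perm : ∃ π π' : Equiv.Perm (Fin (2 * m)), (n₀ : GL (Fin (2 * m)) F) = pP F π ∧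
    π = π' * Fin.revPerm ∧ Mild π' ∧ rho m * π * rho m = π

theorem long_perm : ∃ π : Equiv.Perm (Fin (2 * m)), RevC π ∧ Equiv.Perm.sign π = 1 ∧
    rho m * π * rho m = π ∧ (∃ π', π = π' * Fin.revPerm ∧ Mild π') ∧
    ∀ u ∈ uni F (2 * m) ⊓ oGL F m, (pP F π)⁻¹ * u * pP F π ∈ BO F m → u = 1 := by
  let π : Equiv.Perm (Fin (2 * m)) :=
    if Equiv.Perm.sign (Fin.revPerm : Equiv.Perm (Fin (2 * m))) = 1 then Fin.revPerm
    else rho m * Fin.revPerm
  have hπ : π = Fin.revPerm ∨ (π = rho m * Fin.revPerm ∧ 1 ≤ m) := by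
    by_cases h : Equiv.Perm.sign (Fin.revPerm : Equiv.Perm (Fin (2 * m))) = 1
    · exact Or.inl (if_pos h)
    · refine Or.inr ⟨if_neg h, Nat.one_le_iff_ne_zero.2 fun h0 => h ?_⟩
      subst h0
      rw [show (Fin.revPerm : Equiv.Perm (Fin (2 * 0))) = 1 from
        Equiv.ext fun i => absurd i.isLt (by omega)]
      exact map_one _
  have hπR : RevC π := by
    rcases hπ with e | ⟨e, -⟩ <;> rw [e]
    · exact revC_rev
    · exact rho_revC.mul revC_rev
  have hs : Equiv.Perm.sign π = 1 := by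
    by_cases h : Equiv.Perm.sign (Fin.revPerm : Equiv.Perm (Fin (2 * m))) = 1
    · rwa [show π = Fin.revPerm from if_pos h]
    · rcases hπ with e | ⟨-, hm⟩
      · exact absurd (e.symm.trans (if_neg h)) (fun e' => h (by
          have := congrArg Equiv.Perm.sign e'
          rw [map_mul] at this
          rcases Int.units_eq_one_or (Equiv.Perm.sign (rho m)) with e1 | e1
          · exfalso
            have hm0 : m = 0 := by
              by_contra hm0
              rw [sign_rho (by omega)] at e1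
              exact absurd e1 (by decide)
            subst hm0
            exact h (by rw [show (Fin.revPerm : Equiv.Perm (Fin (2 * 0))) = 1 from
              Equiv.ext fun i => absurd i.isLt (by omega)]; exact map_one _)
          · rw [e1, neg_one_mul] at this
            rcases Int.units_eq_one_or (Equiv.Perm.sign (Fin.revPerm : Equiv.Perm (Fin (2 * m)))) with e2 | e2
            · exact e2
            · rw [e2] at this; exact absurd this (by decide)))
      · rw [show π = rho m * Fin.revPerm from if_neg h, map_mul, sign_rho hm,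
          (Int.units_eq_one_or _).resolve_left h]
        rfl
  refine ⟨π, hπR, hs, ?_, ?_, fun u huo hB' => ?_⟩
  · have hc : rho m * Fin.revPerm * rho m = (Fin.revPerm : Equiv.Perm (Fin (2 * m))) := Equiv.ext fun i => by
      simp only [Equiv.Perm.mul_apply, Fin.revPerm_apply]
      rw [← rho_revC, Fin.rev_inj]
      exact Equiv.Perm.congr_fun rho_sq i
    rcases hπ with e | ⟨e, -⟩ <;> rw [e]
    · exact hc
    · rw [show rho m * (rho m * Fin.revPerm) * rho m = rho m * (rho m * Fin.revPerm * rho m) by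
        simp only [mul_assoc], hc]
  · rcases hπ with e | ⟨e, hm⟩
    · exact ⟨1, by rw [e, one_mul], Or.inl rfl⟩
    · exact ⟨rho m, e, Or.inr ⟨rfl, hm⟩⟩
  obtain ⟨hu, huo⟩ := huo
  have hz : ∀ i j, j < i → u.1 (π i) (π j) = 0 := by
    intro i j hij
    have h0' := upper_zero hB'.1 hij
    rw [conj_apply (mono_permGL (F := F) π)] at h0'
    exact (mul_eq_zero.1 ((mul_eq_zero.1 h0').resolve_right ((mono_permGL (F := F) π).ne_zero j))).resolve_left
      (left_ne_zero_of_mul_eq_one (inv_mul_diag (mono_permGL (F := F) π) i))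
  refine Units.ext (Matrix.ext fun a b => ?_)
  by_cases hab : a = b
  · subst hab
    rw [Units.val_one, one_apply_eq]
    exact (mem_uni.1 hu).2 a
  rw [Units.val_one, one_apply_ne hab]
  rcases lt_or_gt_of_ne hab with hlt | hgt
  swap
  · exact (mem_uni.1 hu).1 a b hgt
  obtain ⟨i, rfl⟩ := π.surjective a
  obtain ⟨j, rfl⟩ := π.surjective b
  by_cases hij : j < i
  · exact hz i j hij
  have hij' : i < j := lt_of_le_of_ne (not_lt.1 hij) fun e => hab (congrArg π e)
  rcases hπ with e | ⟨e, hm⟩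
  · rw [e, Fin.revPerm_apply, Fin.revPerm_apply] at hlt
    exact absurd (Fin.rev_lt_rev.1 hlt) (not_lt.2 hij'.le)
  · rw [e, Equiv.Perm.mul_apply, Equiv.Perm.mul_apply, Fin.revPerm_apply, Fin.revPerm_apply] at hlt ⊢
    have hji : Fin.rev j < Fin.rev i := Fin.rev_lt_rev.2 hij'
    set x := Fin.rev i
    set y := Fin.rev j
    have hx := rho_val x
    have hy := rho_val y
    have := x.isLt
    rw [Fin.lt_def] at hlt hji
    have hval : x.val = m ∧ y.val = m - 1 := by
      split_ifs at hx hy <;> omega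
    have hB2 := rho_conj_BO (uni_BO (F := F) (m := m) ⟨hu, huo⟩)
    have h0 := upper_zero hB2.1 (show y < x by rw [Fin.lt_def]; omega)
    have e' := conj_apply (mono_permGL (F := F) (rho m)) (u : GL (Fin (2 * m)) F) x y
    rw [pP_inv rho_sq] at e'
    simp only [Subgroup.coe_subtype, pP] at h0 e'
    rw [e'] at h0
    exact (mul_eq_zero.1 ((mul_eq_zero.1 h0).resolve_right ((mono_permGL (F := F) (rho m)).ne_zero y))).resolve_left
      (left_ne_zero_of_mul_eq_one (by
        have := inv_mul_diag (mono_permGL (F := F) (rho m)) x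
        rwa [pP_inv rho_sq] at this))

variable {p : ℕ} [Fact p.Prime] [CharP F p]

theorem exists_long : ∃ n₀ : GP F m, Long (p := p) n₀ := by
  obtain ⟨π, hπR, hs, hc, ⟨π', e, hπ'⟩, h⟩ := long_perm (F := F) (m := m)
  exact ⟨⟨pP F π, pP_mem_GP hπR hs⟩, ⟨TwistBN.Plus.split p, ⟨π, mono_permGL π⟩, fun u hu hB =>
    Subtype.ext (h _ ⟨hu, GP_le u.2⟩ hB)⟩, π, π', rfl, e, hπ', hc⟩

/-- The element of a permutation. -/
def pT (T : Equiv.Perm (Fin (2 * m))) (hR : RevC T) (hs : Equiv.Perm.sign T = 1) : GP F m :=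
  ⟨pP F T, pP_mem_GP hR hs⟩

/-- The long permutations preserve the order inside blocks. -/
theorem mild_lt {π' : Equiv.Perm (Fin (2 * m))} (hπ' : Mild π') {k : ℕ} (hk : k + 1 < m) {a b : Fin (2 * m)}
    (hab : a < b) (hb : blk k (π' a) = blk k (π' b)) : π' a < π' b := by
  rcases hπ' with rfl | ⟨rfl, -⟩
  · simpa using hab
  · refine rho_lt hab fun e => ?_
    subst e
    rw [← rho_revC] at hb
    have h := (blk_eq_iff (n := 2 * m) (by omega) _ _).1 hb
    rw [Fin.val_rev] at h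
    omega

variable {n₀ : GP F m} (hl : Long (p := p) n₀)

include hl

/-- The root group of a node. -/
theorem mem_X_plus {k : ℕ} (hk : k + 1 < m) {u : GP F m} :
    u ∈ X ((uni F (2 * m)).subgroupOf (GP F m))
      (pT (tPerm k (by omega)) (tPerm_revC (by omega)) (sign_tPerm hk) * n₀) ↔
      (u : GL (Fin (2 * m)) F) ∈ uni F (2 * m) ∧ BD k (u : GL (Fin (2 * m)) F).1 := by
  obtain ⟨π, π', hn₀, hπe, hπ', -⟩ := hl.perm
  have hk' : 2 * k + 2 ≤ 2 * m := by omega
  set T := tPerm (n := 2 * m) k hk'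
  set s : GP F m := pT T (tPerm_revC hk') (sign_tPerm hk)
  have hm0 : Mono (T * π) ((s * n₀ : GP F m) : GL (Fin (2 * m)) F).1 := by
    rw [Subgroup.coe_mul, hn₀]
    exact mono_mul (mono_permGL T) (mono_permGL π)
  have key : ∀ v : GP F m, (v : GL (Fin (2 * m)) F) ∈ uni F (2 * m) → BD k (v : GL (Fin (2 * m)) F).1 →
      (s * n₀)⁻¹ * v * (s * n₀) ∈ (TwistBN.Plus.bnPair F m).B := by
    intro v hv hbd
    refine (show _ ∧ _ from ⟨uni_le_upper ?_, GP_le ((s * n₀)⁻¹ * v * (s * n₀)).2⟩)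
    refine conj_uni hm0 hv (mem_upat.2 fun i j hij => ?_)
    rw [hπe, Equiv.Perm.mul_apply, Equiv.Perm.mul_apply, Equiv.Perm.mul_apply, Equiv.Perm.mul_apply,
      Fin.revPerm_apply, Fin.revPerm_apply]
    by_cases hb : blk k (π' (Fin.rev i)) = blk k (π' (Fin.rev j))
    · exact (mem_uni.1 hv).1 _ _ (tPerm_lt hk' (mild_lt hπ' hk (Fin.rev_lt_rev.2 hij) hb) hb)
    · exact hbd _ _ (by rw [blk_tPerm, blk_tPerm]; exact hb)
  rw [mem_X hl.opp]
  constructor
  · rintro ⟨hu, hB⟩
    refine ⟨hu, ?_⟩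
    obtain ⟨uP, uO, hPU, hPo, hOU, hOo, hObd, hP, e⟩ :=
      exists_o_split hk (u := (u : GL (Fin (2 * m)) F)) ⟨hu, GP_le u.2⟩
    set vP : GP F m := ⟨uP, BO_le_GP (uni_BO ⟨hPU, hPo⟩)⟩
    set vO : GP F m := ⟨uO, BO_le_GP (uni_BO ⟨hOU, hOo⟩)⟩
    have eu : u = vP * vO := Subtype.ext e
    have hB' : (s * n₀)⁻¹ * vP * (s * n₀) ∈ (TwistBN.Plus.bnPair F m).B := by
      rw [show (s * n₀)⁻¹ * vP * (s * n₀) =
        ((s * n₀)⁻¹ * (vP * vO) * (s * n₀)) * ((s * n₀)⁻¹ * vO * (s * n₀))⁻¹ by group, ← eu]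
      exact mul_mem hB (inv_mem (key vO hOU hObd))
    have hsU : s⁻¹ * vP * s ∈ (uni F (2 * m)).subgroupOf (GP F m) :=
      conj_refl hk' (mono_permGL T) (u := ⟨uP, hPU⟩) hP
    have h1 := hl.opp.opp _ hsU (by
      rwa [show n₀⁻¹ * (s⁻¹ * vP * s) * n₀ = (s * n₀)⁻¹ * vP * (s * n₀) by group])
    have : vP = 1 := by
      rw [show vP = s * (s⁻¹ * vP * s) * s⁻¹ by group, h1]; group
    rw [eu, this, one_mul]
    exact hObd
  · rintro ⟨hu, hbd⟩
    exact And.intro hu (key u hu hbd)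

/-- A lower block diagonal element is a conjugate of a root element. -/
theorem exists_lower_plus {k : ℕ} (hk : k + 1 < m) {v : GL (Fin (2 * m)) F} (hvo : v ∈ oGL F m)
    (hv : tpose v ∈ uni F (2 * m)) (hbd : BD k v.1) :
    ∃ x ∈ X ((uni F (2 * m)).subgroupOf (GP F m))
      (pT (tPerm k (by omega)) (tPerm_revC (by omega)) (sign_tPerm hk) * n₀),
      v = pP F (tPerm k (by omega)) * (x : GL (Fin (2 * m)) F) * (pP F (tPerm k (by omega)))⁻¹ := by
  have hk' : 2 * k + 2 ≤ 2 * m := by omega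
  set T := tPerm (n := 2 * m) k hk'
  set P := pP F T
  have hP : Mono T P.1 := mono_permGL T
  have hlow : ∀ i j : Fin (2 * m), i < j → v.1 i j = 0 := fun i j hij => (mem_uni.1 hv).1 j i hij
  have hdia : ∀ i, v.1 i i = 1 := fun i => (mem_uni.1 hv).2 i
  have hxo : P⁻¹ * v * P ∈ oGL F m :=
    mul_mem (mul_mem (inv_mem (perm_mem (tPerm_revC hk'))) hvo) (perm_mem (tPerm_revC hk'))
  have hxu : P⁻¹ * v * P ∈ uni F (2 * m) := by
    refine mem_uni.2 ⟨fun i j hij => ?_, fun i => ?_⟩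
    · rw [conj_apply hP]
      by_cases hb : blk k j = blk k i
      · rw [hlow _ _ (tPerm_lt hk' hij hb), mul_zero, zero_mul]
      · rw [hbd _ _ (by rw [blk_tPerm, blk_tPerm]; exact Ne.symm hb), mul_zero, zero_mul]
    · rw [conj_apply hP, hdia, mul_one]
      exact inv_mul_diag hP i
  have hxb : BD k (P⁻¹ * v * P).1 := fun i j hij => by
    rw [conj_apply hP, hbd _ _ (by rwa [blk_tPerm, blk_tPerm]), mul_zero, zero_mul]
  exact ⟨⟨_, BO_le_GP (uni_BO ⟨hxu, hxo⟩)⟩, (mem_X_plus hl hk).2 ⟨hxu, hxb⟩, by group⟩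

/-- The conjugate of a root element is lower block diagonal. -/
theorem lower_of_X_plus {k : ℕ} (hk : k + 1 < m) {x : GP F m}
    (hx : x ∈ X ((uni F (2 * m)).subgroupOf (GP F m))
      (pT (tPerm k (by omega)) (tPerm_revC (by omega)) (sign_tPerm hk) * n₀)) :
    tpose (pP F (tPerm k (by omega)) * (x : GL (Fin (2 * m)) F) * (pP F (tPerm k (by omega)))⁻¹) ∈
      uni F (2 * m) ∧
    BD k (pP F (tPerm (n := 2 * m) k (by omega)) * (x : GL (Fin (2 * m)) F) *
      (pP F (tPerm k (by omega)))⁻¹).1 := by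
  have hk' : 2 * k + 2 ≤ 2 * m := by omega
  set T := tPerm (n := 2 * m) k hk'
  set P := pP F T
  have hP : Mono T (P⁻¹).1 := mono_tPerm_inv hk' (mono_permGL T)
  obtain ⟨hu, hbd⟩ := (mem_X_plus hl hk).1 hx
  have e : ∀ i j, (P * (x : GL (Fin (2 * m)) F) * P⁻¹).1 i j =
      ((P⁻¹)⁻¹ * (x : GL (Fin (2 * m)) F) * P⁻¹).1 i j := fun i j => by rw [inv_inv]
  refine ⟨mem_uni.2 ⟨fun i j hij => ?_, fun i => ?_⟩, fun i j hij => ?_⟩
  · show (P * (x : GL (Fin (2 * m)) F) * P⁻¹).1 j i = 0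
    rw [e, conj_apply hP]
    by_cases hb : blk k j = blk k i
    · rw [(mem_uni.1 hu).1 _ _ (tPerm_lt hk' hij hb), mul_zero, zero_mul]
    · rw [hbd _ _ (by rwa [blk_tPerm, blk_tPerm]), mul_zero, zero_mul]
  · show (P * (x : GL (Fin (2 * m)) F) * P⁻¹).1 i i = 1
    rw [e, conj_apply hP, (mem_uni.1 hu).2, mul_one]
    exact inv_mul_diag hP i
  · rw [e, conj_apply hP, hbd _ _ (by rwa [blk_tPerm, blk_tPerm]), mul_zero, zero_mul]

omit hl in
theorem short_o [Fintype F] {k : ℕ} (hk : k + 1 < m) (A : Matrix.SpecialLinearGroup (Fin 2) F) :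
    shortGL (n := 2 * m) k (by omega) A ∈ oGL F m :=
  bd_mem hk (short_bd k _ A) (short_th k _ A)

theorem short_GP [Fintype F] {k : ℕ} (hk : k + 1 < m) (A : Matrix.SpecialLinearGroup (Fin 2) F) :
    shortGL (n := 2 * m) k (by omega) A ∈ GP F m := by
  have hle : Subgroup.closure (Set.range (root : Bool × F → _)) ≤
      (GP F m).comap (shortGL (n := 2 * m) k (by omega)) := by
    rw [Subgroup.closure_le]
    rintro _ ⟨⟨b, c⟩, rfl⟩
    show shortGL (n := 2 * m) k _ (root (b, c)) ∈ GP F m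
    cases b
    · obtain ⟨x, -, e⟩ := exists_lower_plus hl hk (short_o hk _) (short_uni k _ c).2 (short_bd k _ _)
      rw [e]
      exact mul_mem (mul_mem (pP_mem_GP (tPerm_revC (by omega)) (sign_tPerm hk)) x.2)
        (inv_mem (pP_mem_GP (tPerm_revC (by omega)) (sign_tPerm hk)))
    · exact BO_le_GP (uni_BO ⟨(short_uni k _ c).1, short_o hk _⟩)
  exact hle (by rw [root_closure]; exact Subgroup.mem_top A)

/-- Rank one data of an outer node. -/
theorem rankOne_short [Fintype F] {k : ℕ} (hk : k + 1 < m) :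
    RankOne F ((uni F (2 * m)).subgroupOf (GP F m)) n₀
      (pT (tPerm k (by omega)) (tPerm_revC (by omega)) (sign_tPerm hk))
      ((shortGL (n := 2 * m) k (by omega)).codRestrict (GP F m) (short_GP hl hk)) := by
  have hk4 : 2 * k + 4 ≤ 2 * m := by omega
  have hfix : ∀ {u : GL (Fin (2 * m)) F}, u ∈ oGL F m → u ∈ uni F (2 * m) →
      u ∈ fixS (1 : Fin (2 * m) → Fˣ) (RingEquiv.refl F) := fun ho hu =>
    mem_fixS.2 ⟨th_of_mem ho, det_uni hu⟩
  constructor
  · exact fun c => (mem_X_plus hl hk).2 ⟨(short_uni k hk4 c).1, short_bd k hk4 _⟩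
  · intro x hx
    obtain ⟨hu, hbd⟩ := (mem_X_plus hl hk).1 hx
    exact ⟨_, Subtype.ext (short_onto (hfix (GP_le x.2) hu) hu hk4 hbd)⟩
  · intro c
    obtain ⟨x, hx, e⟩ := exists_lower_plus hl hk (short_o hk (root (false, c))) (short_uni k _ c).2
      (short_bd k _ _)
    exact ⟨x, hx, Subtype.ext e⟩
  · intro x hx
    set v : GL (Fin (2 * m)) F :=
      pP F (tPerm k (by omega)) * (x : GL (Fin (2 * m)) F) * (pP F (tPerm k (by omega)))⁻¹
    obtain ⟨hu, hbd⟩ := lower_of_X_plus hl hk hx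
    have hvo : v ∈ oGL F m := mul_mem (mul_mem (perm_mem (tPerm_revC (by omega))) (GP_le x.2))
      (inv_mem (perm_mem (tPerm_revC (by omega))))
    have hvf : v ∈ fixS (1 : Fin (2 * m) → Fˣ) (RingEquiv.refl F) := by
      have := tpose_mem_fixS (d := (1 : Fin (2 * m) → Fˣ)) (σ := RingEquiv.refl F) (fun _ => by simp)
        (g := tpose v) ?_
      · rwa [tpose_tpose] at this
      · refine mem_fixS.2 ⟨?_, det_uni hu⟩
        refine th_of_mem (bd_mem hk (fun i j hij => hbd j i hij.symm) ?_)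
        exact (mem_fixS.1 (tpose_mem_fixS (fun _ => by simp) (mem_fixS.2 ⟨th_of_mem hvo, by
          have := det_uni hu
          rwa [show (tpose v).1 = v.1ᵀ from rfl, det_transpose] at this⟩))).1
    refine ⟨(tpose v).1 ⟨k, by omega⟩ ⟨k + 1, by omega⟩, Subtype.ext ?_⟩
    show shortGL (n := 2 * m) k _ _ = v
    rw [← short_tpose, short_onto (tpose_mem_fixS (fun _ => by simp) hvf) hu hk4
      (fun i j hij => hbd j i hij.symm), tpose_tpose]
  · intro g hg
    have e : ∀ i j, (shortGL (n := 2 * m) k hk4 g).1 i j = (1 : Matrix (Fin (2 * m)) (Fin (2 * m)) F) i j :=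
      fun i j => congrArg (fun x : GP F m => (x : GL (Fin (2 * m)) F).1 i j) hg
    have h00 := e ⟨k, by omega⟩ ⟨k, by omega⟩
    have h01 := e ⟨k, by omega⟩ ⟨k + 1, by omega⟩
    have h10 := e ⟨k + 1, by omega⟩ ⟨k, by omega⟩
    have h11 := e ⟨k + 1, by omega⟩ ⟨k + 1, by omega⟩
    simp [shortGL_val, shortAct, Pi.single_apply, Fin.ext_iff, Matrix.one_apply] at h00 h01 h10 h11
    rw [show g = 1 from Subtype.ext (Matrix.ext fun i j => by
      fin_cases i <;> fin_cases j <;> simp [h00, h01, h10, h11])]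
    exact one_mem _

omit hl in
theorem rho_conj_uni {x : GL (Fin (2 * m)) F} (hx : x ∈ uni F (2 * m) ⊓ oGL F m) :
    pP F (rho m) * x * pP F (rho m) ∈ uni F (2 * m) ⊓ oGL F m := by
  obtain ⟨hxB, hxo⟩ := rho_conj_BO (uni_BO hx)
  refine ⟨mem_uni.2 ⟨fun i j hij => upper_zero hxB hij, fun i => ?_⟩, hxo⟩
  have e := conj_apply (mono_permGL (F := F) (rho m)) x i i
  rw [pP_inv rho_sq] at e
  rw [e, (mem_uni.1 hx.1).2, mul_one]
  have := inv_mul_diag (mono_permGL (F := F) (rho m)) i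
  rwa [pP_inv rho_sq] at this

omit hl in
theorem rho_conj_GP {x : GL (Fin (2 * m)) F} (hx : x ∈ GP F m) :
    pP F (rho m) * x * pP F (rho m) ∈ GP F m := by
  obtain ⟨b, hb, π, hπ, hs, b', hb', rfl⟩ := exists_cell_GP hx
  rw [show pP F (rho m) * (b * pP F π * b') * pP F (rho m) =
    (pP F (rho m) * b * pP F (rho m)) * pP F (rho m * π * rho m) * (pP F (rho m) * b' * pP F (rho m)) by
      simp only [pP_mul, mul_assoc, pP_rho_cancel]]
  refine mul_mem (mul_mem (BO_le_GP (rho_conj_BO hb))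
    (pP_mem_GP ((rho_revC.mul hπ).mul rho_revC) ?_)) (BO_le_GP (rho_conj_BO hb'))
  rw [map_mul, map_mul, hs, mul_one]
  exact Int.units_mul_self _

omit hl in
/-- Conjugation by the swap. -/
def rhoConj : GP F m →* GP F m :=
  MonoidHom.mk' (fun x => ⟨pP F (rho m) * x * pP F (rho m), rho_conj_GP x.2⟩) fun x y => Subtype.ext (by
    show pP F (rho m) * (x * y : GL (Fin (2 * m)) F) * pP F (rho m) =
      pP F (rho m) * x * pP F (rho m) * (pP F (rho m) * y * pP F (rho m))
    simp only [mul_assoc, pP_rho_cancel])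

omit hl in
theorem rhoConj_sq (x : GP F m) : rhoConj (rhoConj x) = x := Subtype.ext (by
  show pP F (rho m) * (pP F (rho m) * x * pP F (rho m)) * pP F (rho m) = x
  simp only [mul_assoc, pP_rho_cancel, pP_rho_cancel', mul_one])

/-- Conjugation by the swap permutes the root groups. -/
theorem mem_X_rho {s : GP F m} {x : GP F m} :
    x ∈ X ((uni F (2 * m)).subgroupOf (GP F m)) (rhoConj s * n₀) ↔
      rhoConj x ∈ X ((uni F (2 * m)).subgroupOf (GP F m)) (s * n₀) := by
  obtain ⟨π, π', hn₀, hπe, hπ', hc⟩ := hl.perm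
  have hn : rhoConj n₀ = n₀ := Subtype.ext (by
    show pP F (rho m) * (n₀ : GL (Fin (2 * m)) F) * pP F (rho m) = _
    rw [hn₀, ← pP_mul, ← pP_mul, hc])
  have hU : ∀ x : GP F m, x ∈ (uni F (2 * m)).subgroupOf (GP F m) →
      rhoConj x ∈ (uni F (2 * m)).subgroupOf (GP F m) := fun x hx =>
    (rho_conj_uni ⟨hx, GP_le x.2⟩).1
  have hB : ∀ x : GP F m, x ∈ (TwistBN.Plus.bnPair F m).B → rhoConj x ∈ (TwistBN.Plus.bnPair F m).B :=
    fun x hx => rho_conj_BO hx
  rw [mem_X hl.opp, mem_X hl.opp]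
  constructor
  · rintro ⟨h1, h2⟩
    refine ⟨hU _ h1, ?_⟩
    have := hB _ h2
    rwa [map_mul, map_mul, map_inv, map_mul, rhoConj_sq, hn] at this
  · rintro ⟨h1, h2⟩
    refine ⟨rhoConj_sq x ▸ hU _ h1, ?_⟩
    have := hB _ h2
    rwa [map_mul, map_mul, map_inv, map_mul, rhoConj_sq, hn] at this

/-- Rank one data of a conjugate node. -/
theorem rankOne_rho [Fintype F] {s : GP F m} {φ : Matrix.SpecialLinearGroup (Fin 2) F →* GP F m}
    (hφ : RankOne F ((uni F (2 * m)).subgroupOf (GP F m)) n₀ s φ) :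
    RankOne F ((uni F (2 * m)).subgroupOf (GP F m)) n₀ (rhoConj s) (rhoConj.comp φ) := by
  constructor
  · exact fun c => (mem_X_rho hl).2 (by rw [MonoidHom.comp_apply, rhoConj_sq]; exact hφ.up c)
  · intro x hx
    obtain ⟨c, hc⟩ := hφ.onto _ ((mem_X_rho hl).1 hx)
    exact ⟨c, by rw [MonoidHom.comp_apply, hc, rhoConj_sq]⟩
  · intro c
    obtain ⟨x, hx, e⟩ := hφ.down c
    refine ⟨rhoConj x, (mem_X_rho hl).2 (by rwa [rhoConj_sq]), ?_⟩
    rw [MonoidHom.comp_apply, e, map_mul, map_mul, map_inv]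
  · intro x hx
    obtain ⟨c, hc⟩ := hφ.onto' _ ((mem_X_rho hl).1 hx)
    refine ⟨c, ?_⟩
    rw [MonoidHom.comp_apply, hc, map_mul, map_mul, map_inv, rhoConj_sq]
  · exact fun g hg => hφ.faithful g (by
      have := congrArg rhoConj hg
      rwa [MonoidHom.comp_apply, rhoConj_sq, map_one] at this)

/-- Every node has rank one data over the field. -/
theorem exists_rankOne [Fintype F] {s : GP F m} (hs : s ∈ (TwistBN.Plus.bnPair F m).S) :
    ∃ φ : Matrix.SpecialLinearGroup (Fin 2) F →* GP F m,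
      RankOne F ((uni F (2 * m)).subgroupOf (GP F m)) n₀ s φ := by
  obtain ⟨⟨i, hi⟩, rfl⟩ := hs
  dsimp only
  by_cases h : i.val + 1 < m
  · have e : (⟨pP F (tD (⟨i, hi⟩ : Idx m)), refl_mem_GP _⟩ : GP F m) =
        pT (tPerm i.val (by omega)) (tPerm_revC (by omega)) (sign_tPerm h) :=
      Subtype.ext (by show pP F (tD _) = _; rw [tD, dif_pos h]; rfl)
    rw [e]
    exact ⟨_, rankOne_short hl h⟩
  · have hk : m - 2 + 1 < m := by omega
    have e : (⟨pP F (tD (⟨i, hi⟩ : Idx m)), refl_mem_GP _⟩ : GP F m) =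
        rhoConj (pT (tPerm (m - 2) (by omega)) (tPerm_revC (by omega)) (sign_tPerm hk)) :=
      Subtype.ext (by
        show pP F (tD _) = pP F (rho m) * pP F (tPerm (m - 2) _) * pP F (rho m)
        rw [tD, dif_neg h, tRho, pP_mul, pP_mul])
    rw [e]
    exact ⟨_, rankOne_rho hl (rankOne_short hl hk)⟩

end CfsgLib.Known.SplitLift.Plus
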