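import Cfsg.Agent.Lib.Known.SplitLift.PlusNodes
import Cfsg.Agent.Lib.TwistBN.MinusPair

/-!
# The rank one groups of the elliptic orthogonal groups
-/

set_option autoImplicit false
set_option linter.unusedSectionVars false
set_option linter.unusedSimpArgs false
set_option maxHeartbeats 1000000

namespace CfsgLib.Known.SplitLift.Minus

open Matrix CfsgLib.TwistBN CfsgLib.TwistBN.Plus CfsgLib.TwistBN.Minus CfsgLib.PronormalPSL CfsgLib.PronormalPSU
open CfsgLib.Fusion.UniTri CfsgLib.GLUnipotent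
open Cfsg.Agent.S2426 (root root_val)
open CfsgLib.Known.SplitLift.Odd
open CfsgLib.Known.SplitLift.Plus (Mild long_perm mild_lt)

variable {F : Type*} [Field F] [Finite F] {m : ℕ} {σ : F ≃+* F}

/-- The data of the long element. -/
structure Long {p : ℕ} [Fact p.Prime] [CharP F p] (n₀ : GM m σ) : Prop where
  opp : Opp (TwistBN.Minus.bnPair m σ) p ((uni F (2 * m)).subgroupOf (GM m σ)) n₀
  perm : ∃ π π' : Equiv.Perm (Fin (2 * m)), (n₀ : GL (Fin (2 * m)) F) = pP F π ∧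
    π = π' * Fin.revPerm ∧ Mild π'

variable {p : ℕ} [Fact p.Prime] [CharP F p]

theorem exists_long : ∃ n₀ : GM m σ, Long (p := p) n₀ := by
  obtain ⟨π, hπR, hs, hc, ⟨π', e, hπ'⟩, h⟩ := long_perm (F := F) (m := m)
  exact ⟨⟨pP F π, pP_mem_GM σ hπR hc hs⟩, ⟨TwistBN.Minus.split p, ⟨π, mono_permGL π⟩, fun u hu hB =>
    Subtype.ext (h _ ⟨hu, GM_le_oGL u.2⟩ hB.1)⟩, π, π', rfl, e, hπ'⟩

/-- Mirrored entries next to the diagonal. -/
theorem pair_neg {u : GL (Fin (2 * m)) F} (hu : u ∈ uni F (2 * m) ⊓ oGL F m) {k : ℕ} (hk : k + 1 < m) :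
    u.1 ⟨2 * m - 2 - k, by omega⟩ ⟨2 * m - 1 - k, by omega⟩ = -u.1 ⟨k, by omega⟩ ⟨k + 1, by omega⟩ := by
  haveI := Fintype.ofFinite F
  obtain ⟨hU, huo⟩ := hu
  have h := gram_entry (mem_fixS.2 ⟨th_of_mem huo, det_uni hU⟩) ⟨k, by omega⟩ ⟨2 * m - 2 - k, by omega⟩
  rw [if_neg (by simp only [Fin.ext_iff, Fin.val_rev]; omega),
    Finset.sum_eq_add (⟨k, by omega⟩ : Fin (2 * m)) ⟨k + 1, by omega⟩ (by simp [Fin.ext_iff]) (fun z _ hz => by
      simp only [Ne, Fin.ext_iff] at hz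
      rcases lt_or_ge z.val k with hlt | hge
      · rw [(mem_uni.1 hU).1 _ z (Fin.lt_def.2 hlt), zero_mul]
      · rw [(mem_uni.1 hU).1 _ (Fin.rev z) (Fin.lt_def.2 (by rw [Fin.val_rev]; dsimp only; omega)), mul_zero])
      (by simp) (by simp)] at h
  rw [(mem_uni.1 hU).2, one_mul] at h
  have e1 : Fin.rev (⟨k, by omega⟩ : Fin (2 * m)) = ⟨2 * m - 1 - k, by omega⟩ := by
    simp only [Fin.ext_iff, Fin.val_rev]; omega
  have e2 : Fin.rev (⟨k + 1, by omega⟩ : Fin (2 * m)) = ⟨2 * m - 2 - k, by omega⟩ := by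
    simp only [Fin.ext_iff, Fin.val_rev]; omega
  rw [e1, e2, (mem_uni.1 hU).2, mul_one] at h
  linear_combination h

/-- A trivial node coordinate. -/
theorem prU_eq_one {u : GL (Fin (2 * m)) F} (hu : u ∈ uni F (2 * m) ⊓ oGL F m) {k : ℕ} (hk : k + 1 < m)
    (h0 : u.1 ⟨k, by omega⟩ ⟨k + 1, by omega⟩ = 0) : prU k ⟨u, hu.1⟩ = 1 := by
  have hpair := pair_neg hu hk
  rw [h0, neg_zero] at hpair
  have p0 : k < 2 * m := by omega
  have p1 : k + 1 < 2 * m := by omega
  have p3 : 2 * m - 2 - k < 2 * m := by omega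
  have p4 : 2 * m - 1 - k < 2 * m := by omega
  refine Subtype.ext (Units.ext (Matrix.ext fun i j => ?_))
  rw [prU_apply]
  show _ = (1 : Matrix (Fin (2 * m)) (Fin (2 * m)) F) i j
  split_ifs with hb
  · rw [blk_eq_iff (by omega)] at hb
    rcases lt_trichotomy i j with hij | rfl | hij
    · rw [one_apply_ne hij.ne]
      rw [Fin.lt_def] at hij
      have := j.isLt
      rcases (show (i.val = k ∧ j.val = k + 1) ∨ (i.val = 2 * m - 2 - k ∧ j.val = 2 * m - 1 - k) by omega)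
        with ⟨a, b⟩ | ⟨a, b⟩
      · rw [show i = ⟨k, p0⟩ from Fin.ext a, show j = ⟨k + 1, p1⟩ from Fin.ext b]
        exact h0
      · rw [show i = ⟨2 * m - 2 - k, p3⟩ from Fin.ext a, show j = ⟨2 * m - 1 - k, p4⟩ from Fin.ext b]
        exact hpair
    · rw [one_apply_eq]; exact (mem_uni.1 hu.1).2 i
    · rw [one_apply_ne hij.ne']; exact (mem_uni.1 hu.1).1 i j hij
  · rw [one_apply_ne fun e => hb (by rw [e])]

theorem psi_pP_conj {T : Equiv.Perm (Fin (2 * m))} (hT : T * T = 1) (hc : rho m * T * rho m = T)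
    (x : GL (Fin (2 * m)) F) :
    psi m σ (pP F T * x * pP F T) = pP F T * psi m σ x * pP F T := by
  rw [map_mul, map_mul, psi_pP, hc]

theorem rho_val_iff {c : ℕ} (h1 : c ≠ m - 1) (h2 : c ≠ m) (x : Fin (2 * m)) :
    (rho m x).val = c ↔ x.val = c := by
  rw [rho_val]
  split_ifs <;> omega

theorem rho_val_eq (x y : Fin (2 * m)) : (rho m x).val = (rho m y).val ↔ x.val = y.val := by
  rw [← Fin.ext_iff, ← Fin.ext_iff]; exact (rho m).injective.eq_iff

theorem blk_rho {k : ℕ} (hk : k + 2 < m) (i j : Fin (2 * m)) :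
    blk k (rho m i) = blk k (rho m j) ↔ blk k i = blk k j := by
  rw [blk_eq_iff (by omega), blk_eq_iff (by omega)]
  simp only [rho_val_eq, rho_val_iff (m := m) (show k ≠ m - 1 by omega) (show k ≠ m by omega),
    rho_val_iff (m := m) (show k + 1 ≠ m - 1 by omega) (show k + 1 ≠ m by omega),
    rho_val_iff (m := m) (show 2 * m - 2 - k ≠ m - 1 by omega) (show 2 * m - 2 - k ≠ m by omega),
    rho_val_iff (m := m) (show 2 * m - 1 - k ≠ m - 1 by omega) (show 2 * m - 1 - k ≠ m by omega),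
    show ¬ 2 * k + 3 = 2 * m by omega, false_and]

theorem psi_short {k : ℕ} (hk : k + 2 < m) {A : Matrix.SpecialLinearGroup (Fin 2) F}
    (hA : ∀ i j, σ (A.1 i j) = A.1 i j) :
    psi m σ (shortGL (n := 2 * m) k (by omega) A) = shortGL k (by omega) A := by
  refine Units.ext (Matrix.ext fun i j => ?_)
  rw [psi_apply, shortGL_val, shortGL_val]
  have a1 := rho_val_iff (m := m) (show k ≠ m - 1 by omega) (show k ≠ m by omega)
  have a2 := rho_val_iff (m := m) (show k + 1 ≠ m - 1 by omega) (show k + 1 ≠ m by omega)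
  have a3 := rho_val_iff (m := m) (show 2 * m - 2 - k ≠ m - 1 by omega) (show 2 * m - 2 - k ≠ m by omega)
  have a4 := rho_val_iff (m := m) (show 2 * m - 1 - k ≠ m - 1 by omega) (show 2 * m - 1 - k ≠ m by omega)
  simp only [shortAct, Pi.single_apply, Fin.ext_iff, a1, a2, a3, a4, eq_comm (a := k) (b := (rho m j).val),
    eq_comm (a := k + 1) (b := (rho m j).val), eq_comm (a := 2 * m - 2 - k) (b := (rho m j).val),
    eq_comm (a := 2 * m - 1 - k) (b := (rho m j).val), eq_comm (a := k) (b := j.val),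
    eq_comm (a := k + 1) (b := j.val), eq_comm (a := 2 * m - 2 - k) (b := j.val),
    eq_comm (a := 2 * m - 1 - k) (b := j.val), rho_val_eq]
  split_ifs <;> simp [hA]

/-- The block part of a fixed element is fixed. -/
theorem psi_prU {k : ℕ} (hk : k + 2 < m) (u : uni F (2 * m))
    (hu : psi m σ (u : GL (Fin (2 * m)) F) = u) :
    psi m σ (prU k u : GL (Fin (2 * m)) F) = (prU k u : GL (Fin (2 * m)) F) := by
  refine Units.ext (Matrix.ext fun i j => ?_)
  rw [psi_apply, prU_apply, prU_apply]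
  by_cases h : blk k i = blk k j
  · rw [if_pos h, if_pos ((blk_rho hk i j).2 h), ← psi_apply]
    exact congrArg (fun g : GL (Fin (2 * m)) F => g.1 i j) hu
  · rw [if_neg h, if_neg (fun e => h ((blk_rho hk i j).1 e)), map_zero]

theorem mem_borel {x : GM m σ} (h : (x : GL (Fin (2 * m)) F) ∈ uni F (2 * m)) :
    x ∈ (TwistBN.Minus.bnPair m σ).B :=
  show (x : GL (Fin (2 * m)) F) ∈ BM m σ from ⟨⟨uni_le_upper h, GM_le_oGL x.2⟩, x.2.2⟩

/-- Block diagonal unipotent elements are moved into the group by a node and the long element. -/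
theorem node_long_uni {k : ℕ} (hk : k + 1 < m) {π' T : Equiv.Perm (Fin (2 * m))} (hπ' : Mild π')
    (hT : ∀ a b : Fin (2 * m), a < b → blk k a = blk k b → T b < T a)
    (hTb : ∀ a b : Fin (2 * m), blk k (T a) = blk k (T b) ↔ blk k a = blk k b)
    {g v : GL (Fin (2 * m)) F} (hg : Mono (T * (π' * Fin.revPerm)) g.1) (hv : v ∈ uni F (2 * m))
    (hbd : BD k v.1) : g⁻¹ * v * g ∈ uni F (2 * m) := by
  refine conj_uni hg hv (mem_upat.2 fun i j hij => ?_)
  simp only [Equiv.Perm.mul_apply, Fin.revPerm_apply]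
  by_cases hb : blk k (π' (Fin.rev i)) = blk k (π' (Fin.rev j))
  · exact (mem_uni.1 hv).1 _ _ (hT _ _ (mild_lt hπ' hk (Fin.rev_lt_rev.2 hij) hb) hb)
  · exact hbd _ _ fun e => hb ((hTb _ _).1 e)

variable {n₀ : GM m σ} (hl : Long (p := p) n₀)

include hl

/-- The root group of an outer node. -/
theorem mem_X_outer {k : ℕ} (hk : k + 2 < m) {s : GM m σ}
    (hs : (s : GL (Fin (2 * m)) F) = pP F (tPerm k (by omega))) {u : GM m σ} :
    u ∈ X ((uni F (2 * m)).subgroupOf (GM m σ)) (s * n₀) ↔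
      (u : GL (Fin (2 * m)) F) ∈ uni F (2 * m) ∧ BD k (u : GL (Fin (2 * m)) F).1 := by
  obtain ⟨π, π', hn₀, hπe, hπ'⟩ := hl.perm
  have hk' : 2 * k + 2 ≤ 2 * m := by omega
  set T := tPerm (n := 2 * m) k hk'
  have hm0 : Mono (T * π) ((s * n₀ : GM m σ) : GL (Fin (2 * m)) F).1 := by
    rw [Subgroup.coe_mul, hn₀, hs]
    exact mono_mul (mono_permGL T) (mono_permGL π)
  have key : ∀ v : GM m σ, (v : GL (Fin (2 * m)) F) ∈ uni F (2 * m) → BD k (v : GL (Fin (2 * m)) F).1 →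
      (s * n₀)⁻¹ * v * (s * n₀) ∈ (TwistBN.Minus.bnPair m σ).B := fun v hv hbd =>
    mem_borel (node_long_uni (T := T) (by omega) hπ' (fun a b h hb => tPerm_lt hk' h hb)
      (fun a b => by rw [blk_tPerm, blk_tPerm]) (hπe ▸ hm0) hv hbd)
  rw [mem_X hl.opp]
  constructor
  · rintro ⟨hu, hB⟩
    refine ⟨hu, ?_⟩
    have huo : (u : GL (Fin (2 * m)) F) ∈ oGL F m := GM_le_oGL u.2
    set uu : uni F (2 * m) := ⟨_, hu⟩
    have hOo : (prU k uu : GL (Fin (2 * m)) F) ∈ oGL F m := prU_oGL (by omega) (u := uu) huo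
    have hOf : psi m σ (prU k uu : GL (Fin (2 * m)) F) = (prU k uu : GL (Fin (2 * m)) F) :=
      psi_prU hk uu u.2.2
    set vO : GM m σ := ⟨_, BM_le_GM (UM_le_BM ⟨⟨(prU k uu).2, hOo⟩, hOf⟩)⟩
    set vP : GM m σ := u * vO⁻¹ with hvP
    have eu : u = vP * vO := by rw [hvP, inv_mul_cancel_right]
    have hPU : (vP : GL (Fin (2 * m)) F) ∈ uni F (2 * m) := mul_mem hu (inv_mem (prU k uu).2)
    have hP : prU k ⟨_, hPU⟩ = 1 := by
      show prU k (uu * (prU k uu)⁻¹) = 1
      rw [map_mul, map_inv, prU_prU, mul_inv_cancel]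
    have hB' : (s * n₀)⁻¹ * vP * (s * n₀) ∈ (TwistBN.Minus.bnPair m σ).B := by
      rw [show (s * n₀)⁻¹ * vP * (s * n₀) =
        ((s * n₀)⁻¹ * (vP * vO) * (s * n₀)) * ((s * n₀)⁻¹ * vO * (s * n₀))⁻¹ by group, ← eu]
      exact mul_mem hB (inv_mem (key vO (prU k uu).2 (bd_prU k _)))
    have hsU : s⁻¹ * vP * s ∈ (uni F (2 * m)).subgroupOf (GM m σ) := by
      show (s : GL (Fin (2 * m)) F)⁻¹ * (vP : GL (Fin (2 * m)) F) * (s : GL (Fin (2 * m)) F) ∈ uni F (2 * m)
      rw [hs]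
      exact conj_refl hk' (mono_permGL T) (u := ⟨_, hPU⟩) hP
    have h1 := hl.opp.opp _ hsU (by
      rwa [show n₀⁻¹ * (s⁻¹ * vP * s) * n₀ = (s * n₀)⁻¹ * vP * (s * n₀) by group])
    have : vP = 1 := by
      rw [show vP = s * (s⁻¹ * vP * s) * s⁻¹ by group, h1]; group
    rw [eu, this, one_mul]
    exact bd_prU k _
  · rintro ⟨hu, hbd⟩
    exact And.intro hu (key u hu hbd)

omit hl in
theorem tpose_mem_oGL {v : GL (Fin (2 * m)) F} {k : ℕ} (hk : k + 1 < m) (hv : v ∈ oGL F m)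
    (hbd : BD k v.1) (hd : v.1.det = 1) : tpose v ∈ oGL F m := by
  refine bd_mem hk (fun i j hij => hbd j i hij.symm) ?_
  exact (mem_fixS.1 (tpose_mem_fixS (fun _ => by simp) (mem_fixS.2 ⟨th_of_mem hv, hd⟩))).1

omit hl in
/-- Upper block diagonal elements of the hyperbolic group are root elements. -/
theorem up_eq [Fintype F] {k : ℕ} (hk : k + 1 < m) {x : GL (Fin (2 * m)) F} (hxo : x ∈ oGL F m)
    (hx : x ∈ uni F (2 * m)) (hbd : BD k x.1) :
    shortGL (n := 2 * m) k (by omega) (root (true, x.1 ⟨k, by omega⟩ ⟨k + 1, by omega⟩)) = x :=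
  short_onto (mem_fixS.2 ⟨th_of_mem hxo, det_uni hx⟩) hx (by omega) hbd

omit hl in
/-- Lower block diagonal elements of the hyperbolic group are root elements. -/
theorem low_eq [Fintype F] {k : ℕ} (hk : k + 1 < m) {x : GL (Fin (2 * m)) F} (hxo : x ∈ oGL F m)
    (hx : tpose x ∈ uni F (2 * m)) (hbd : BD k x.1) :
    shortGL (n := 2 * m) k (by omega) (root (false, x.1 ⟨k + 1, by omega⟩ ⟨k, by omega⟩)) = x := by
  have hd : x.1.det = 1 := by
    have := det_uni hx
    rwa [show (tpose x).1 = x.1ᵀ from rfl, det_transpose] at this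
  have h := up_eq hk (tpose_mem_oGL hk hxo hbd hd) hx (fun i j hij => hbd j i hij.symm)
  rw [← short_tpose]
  exact (congrArg tpose h).trans (tpose_tpose x)

omit hl in
/-- A node turns block diagonal unipotent elements over. -/
theorem conj_uni_to_low {k : ℕ} {T : Equiv.Perm (Fin (2 * m))}
    (hT : ∀ a b : Fin (2 * m), a < b → blk k a = blk k b → T b < T a)
    (hTb : ∀ a b : Fin (2 * m), blk k (T a) = blk k (T b) ↔ blk k a = blk k b) (hTsq : T * T = 1)
    {x : GL (Fin (2 * m)) F} (hx : x ∈ uni F (2 * m)) (hbd : BD k x.1) :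
    tpose (pP F T * x * pP F T) ∈ uni F (2 * m) ∧ BD k (pP F T * x * pP F T).1 := by
  refine ⟨mem_uni.2 ⟨fun i j hij => ?_, fun i => ?_⟩, fun i j hij => ?_⟩
  · show (pP F T * x * pP F T).1 j i = 0
    rw [pP_conj_apply hTsq]
    by_cases hb : blk k j = blk k i
    · exact (mem_uni.1 hx).1 _ _ (hT _ _ hij hb)
    · exact hbd _ _ fun e => hb ((hTb _ _).1 e)
  · show (pP F T * x * pP F T).1 i i = 1
    rw [pP_conj_apply hTsq]
    exact (mem_uni.1 hx).2 _
  · rw [pP_conj_apply hTsq]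
    exact hbd _ _ fun e => hij ((hTb _ _).1 e)

omit hl in
/-- A node turns lower block diagonal elements over. -/
theorem conj_low_to_uni {k : ℕ} {T : Equiv.Perm (Fin (2 * m))}
    (hT : ∀ a b : Fin (2 * m), a < b → blk k a = blk k b → T b < T a)
    (hTb : ∀ a b : Fin (2 * m), blk k (T a) = blk k (T b) ↔ blk k a = blk k b) (hTsq : T * T = 1)
    {x : GL (Fin (2 * m)) F} (hx : tpose x ∈ uni F (2 * m)) (hbd : BD k x.1) :
    pP F T * x * pP F T ∈ uni F (2 * m) ∧ BD k (pP F T * x * pP F T).1 := by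
  refine ⟨mem_uni.2 ⟨fun i j hij => ?_, fun i => ?_⟩, fun i j hij => ?_⟩
  · rw [pP_conj_apply hTsq]
    by_cases hb : blk k j = blk k i
    · exact (mem_uni.1 hx).1 _ _ (hT _ _ hij hb)
    · exact hbd _ _ fun e => hb ((hTb _ _).1 e).symm
  · rw [pP_conj_apply hTsq]
    exact (mem_uni.1 hx).2 _
  · rw [pP_conj_apply hTsq]
    exact hbd _ _ fun e => hij ((hTb _ _).1 e)

omit hl in
theorem coe_conj {T : Equiv.Perm (Fin (2 * m))} (hTsq : T * T = 1) {s : GM m σ}
    (hs : (s : GL (Fin (2 * m)) F) = pP F T) (x : GM m σ) :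
    ((s * x * s⁻¹ : GM m σ) : GL (Fin (2 * m)) F) = pP F T * x * pP F T := by
  rw [Subgroup.coe_mul, Subgroup.coe_mul, Subgroup.coe_inv, hs, pP_inv hTsq]

variable {k₀ : Type*} [Field k₀] [Fintype k₀] [Algebra k₀ F]

omit hl in
/-- A homomorphism lands in the fixed group when its root images do. -/
theorem range_le_GM {L : Type*} [Field L] [Fintype L] {φ : Matrix.SpecialLinearGroup (Fin 2) L →* GL (Fin (2 * m)) F}
    (h : ∀ b c, φ (root (b, c)) ∈ GM m σ) (g : Matrix.SpecialLinearGroup (Fin 2) L) : φ g ∈ GM m σ := by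
  have hle : Subgroup.closure (Set.range (root : Bool × L → _)) ≤ (GM m σ).comap φ := by
    rw [Subgroup.closure_le]
    rintro _ ⟨⟨b, c⟩, rfl⟩
    exact h b c
  exact hle (by rw [root_closure]; exact Subgroup.mem_top g)

omit hl in
theorem mem_GM_of_conj {T : Equiv.Perm (Fin (2 * m))} (hTsq : T * T = 1) {s : GM m σ}
    (hs : (s : GL (Fin (2 * m)) F) = pP F T) {v : GL (Fin (2 * m)) F}
    (hv : pP F T * v * pP F T ∈ UM m σ) : v ∈ GM m σ := by
  have h := mul_mem (mul_mem s.2 (BM_le_GM (UM_le_BM hv))) (inv_mem s.2)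
  rwa [hs, pP_inv hTsq, show pP F T * (pP F T * v * pP F T) * pP F T =
    (pP F T * pP F T) * v * (pP F T * pP F T) by simp only [mul_assoc], pP_sq hTsq, one_mul, mul_one] at h

/-- Rank one data of an outer node over the fixed field. -/
theorem rankOne_outer [Fintype F] (hfix : ∀ x, σ x = x ↔ ∃ y, algebraMap k₀ F y = x) {k : ℕ}
    (hk : k + 2 < m) {s : GM m σ} (hs : (s : GL (Fin (2 * m)) F) = pP F (tPerm k (by omega))) :
    ∃ φ : Matrix.SpecialLinearGroup (Fin 2) k₀ →* GM m σ,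
      RankOne k₀ ((uni F (2 * m)).subgroupOf (GM m σ)) n₀ s φ := by
  have hk4 : 2 * k + 4 ≤ 2 * m := by omega
  have hk' : 2 * k + 2 ≤ 2 * m := by omega
  set T := tPerm (n := 2 * m) k hk'
  have hTsq : T * T = 1 := tPerm_sq hk'
  have hTR : RevC T := tPerm_revC hk'
  have hT : ∀ a b : Fin (2 * m), a < b → blk k a = blk k b → T b < T a := fun a b h hb => tPerm_lt hk' h hb
  have hTb : ∀ a b : Fin (2 * m), blk k (T a) = blk k (T b) ↔ blk k a = blk k b := fun a b => by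
    rw [blk_tPerm, blk_tPerm]
  have hTf : pP F T ∈ fixP m σ := pP_fixP (rho_comm_tPerm hk)
  set em := Matrix.SpecialLinearGroup.map (n := Fin 2) (algebraMap k₀ F)
  set ψ₀ := (shortGL (n := 2 * m) k hk4).comp em
  have hroot : ∀ b c, em (root (b, c)) = root (b, algebraMap k₀ F c) := fun b c => Subtype.ext (by
    refine Matrix.ext fun i j => ?_
    cases b <;> fin_cases i <;> fin_cases j <;> simp [em, root_val, Matrix.map_apply])
  have hψfix : ∀ g, psi m σ (ψ₀ g) = ψ₀ g := fun g => psi_short hk fun i j => (hfix _).2 ⟨_, rfl⟩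
  have ho : ∀ g, ψ₀ g ∈ oGL F m := fun g => bd_mem (by omega) (short_bd k hk4 _) (short_th k hk4 _)
  have hmem : ∀ g, ψ₀ g ∈ GM m σ := range_le_GM fun b c => by
    cases b
    · refine mem_GM_of_conj hTsq hs ⟨⟨(conj_low_to_uni hT hTb hTsq ?_ (short_bd k hk4 _)).1,
        mul_mem (mul_mem (perm_mem hTR) (ho _)) (perm_mem hTR)⟩, mul_mem (mul_mem hTf (hψfix _)) hTf⟩
      rw [hroot]; exact (short_uni k hk4 _).2
    · refine BM_le_GM (UM_le_BM ⟨⟨?_, ho _⟩, hψfix _⟩)
      show shortGL (n := 2 * m) k hk4 (em _) ∈ _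
      rw [hroot]; exact (short_uni k hk4 _).1
  have hsc : ∀ x : GM m σ, ((s * x * s⁻¹ : GM m σ) : GL (Fin (2 * m)) F) = pP F T * x * pP F T :=
    coe_conj hTsq hs
  refine ⟨ψ₀.codRestrict (GM m σ) hmem, ?_⟩
  constructor
  · intro c
    refine (mem_X_outer hl hk hs).2 ⟨?_, short_bd k hk4 _⟩
    show shortGL (n := 2 * m) k hk4 (em _) ∈ _
    rw [hroot]; exact (short_uni k hk4 _).1
  · intro x hx
    obtain ⟨hu, hbd⟩ := (mem_X_outer hl hk hs).1 hx
    have h := up_eq (by omega) (GM_le_oGL x.2) hu hbd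
    have hent : σ ((x : GL (Fin (2 * m)) F).1 ⟨k, by omega⟩ ⟨k + 1, by omega⟩) =
        (x : GL (Fin (2 * m)) F).1 ⟨k, by omega⟩ ⟨k + 1, by omega⟩ := by
      have := congrArg (fun g : GL (Fin (2 * m)) F => g.1 ⟨k, by omega⟩ ⟨k + 1, by omega⟩) x.2.2
      simp only [psi_apply] at this
      rwa [show rho m ⟨k, by omega⟩ = (⟨k, by omega⟩ : Fin (2 * m)) from
          Fin.ext ((rho_val_iff (m := m) (show k ≠ m - 1 by omega) (show k ≠ m by omega) _).2 rfl),
        show rho m ⟨k + 1, by omega⟩ = (⟨k + 1, by omega⟩ : Fin (2 * m)) from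
          Fin.ext ((rho_val_iff (m := m) (show k + 1 ≠ m - 1 by omega) (show k + 1 ≠ m by omega) _).2 rfl)] at this
    obtain ⟨c, hc⟩ := (hfix _).1 hent
    refine ⟨c, Subtype.ext ?_⟩
    show shortGL (n := 2 * m) k hk4 (em _) = _
    rw [hroot, hc, h]
  · intro c
    set y : GM m σ := ⟨_, hmem (root (false, c))⟩
    refine ⟨s⁻¹ * y * s, (mem_X_outer hl hk hs).2 ?_, by
      show y = s * (s⁻¹ * y * s) * s⁻¹
      group⟩
    rw [Subgroup.coe_mul, Subgroup.coe_mul, Subgroup.coe_inv, hs, pP_inv hTsq]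
    refine conj_low_to_uni hT hTb hTsq ?_ (short_bd k hk4 _)
    show tpose (shortGL (n := 2 * m) k hk4 (em _)) ∈ _
    rw [hroot]; exact (short_uni k hk4 _).2
  · intro x hx
    obtain ⟨hu, hbd⟩ := (mem_X_outer hl hk hs).1 hx
    obtain ⟨hv, hvb⟩ := conj_uni_to_low hT hTb hTsq hu hbd
    set v : GL (Fin (2 * m)) F := pP F T * (x : GL (Fin (2 * m)) F) * pP F T
    have h := low_eq (by omega) (mul_mem (mul_mem (perm_mem hTR) (GM_le_oGL x.2)) (perm_mem hTR)) hv hvb
    have hvf : psi m σ v = v := mul_mem (mul_mem hTf x.2.2) hTf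
    have hent : σ (v.1 ⟨k + 1, by omega⟩ ⟨k, by omega⟩) = v.1 ⟨k + 1, by omega⟩ ⟨k, by omega⟩ := by
      have := congrArg (fun g : GL (Fin (2 * m)) F => g.1 ⟨k + 1, by omega⟩ ⟨k, by omega⟩) hvf
      simp only [psi_apply] at this
      rwa [show rho m ⟨k, by omega⟩ = (⟨k, by omega⟩ : Fin (2 * m)) from
          Fin.ext ((rho_val_iff (m := m) (show k ≠ m - 1 by omega) (show k ≠ m by omega) _).2 rfl),
        show rho m ⟨k + 1, by omega⟩ = (⟨k + 1, by omega⟩ : Fin (2 * m)) from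
          Fin.ext ((rho_val_iff (m := m) (show k + 1 ≠ m - 1 by omega) (show k + 1 ≠ m by omega) _).2 rfl)] at this
    obtain ⟨c, hc⟩ := (hfix _).1 hent
    refine ⟨c, Subtype.ext ?_⟩
    rw [hsc]
    show shortGL (n := 2 * m) k hk4 (em _) = v
    rw [hroot, hc, h]
  · intro g hg
    have e : ∀ i j, (shortGL (n := 2 * m) k hk4 (em g)).1 i j = (1 : Matrix (Fin (2 * m)) (Fin (2 * m)) F) i j :=
      fun i j => congrArg (fun x : GM m σ => (x : GL (Fin (2 * m)) F).1 i j) hg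
    have h00 := e ⟨k, by omega⟩ ⟨k, by omega⟩
    have h01 := e ⟨k, by omega⟩ ⟨k + 1, by omega⟩
    have h10 := e ⟨k + 1, by omega⟩ ⟨k, by omega⟩
    have h11 := e ⟨k + 1, by omega⟩ ⟨k + 1, by omega⟩
    simp [shortGL_val, shortAct, Pi.single_apply, Fin.ext_iff, Matrix.one_apply, em, Matrix.map_apply] at h00 h01 h10 h11
    rw [show g = 1 from Subtype.ext (Matrix.ext fun i j => by
      fin_cases i <;> fin_cases j <;> simp <;>
        first | exact h00 | exact h01 | exact h10 | exact h11)]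
    exact one_mem _

/-! ### The middle node -/

omit hl in
theorem tRho_block (hm : 2 ≤ m) {a b : Fin (2 * m)} :
    (blk (m - 2) (tRho m hm a) = blk (m - 2) (tRho m hm b) ↔ blk (m - 2) a = blk (m - 2) b) ∧
      (a < b → blk (m - 2) a = blk (m - 2) b → tRho m hm a < tRho m hm b) := by
  have ha := tRho_val hm a
  have hb := tRho_val hm b
  have := a.isLt
  have := b.isLt
  rw [blk_eq_iff (by omega), blk_eq_iff (by omega), Fin.lt_def, Fin.lt_def]
  simp only [show 2 * m - 2 - (m - 2) = m by omega, show 2 * m - 1 - (m - 2) = m + 1 by omega,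
    show m - 2 + 1 = m - 1 by omega, show ¬ 2 * (m - 2) + 3 = 2 * m by omega, false_and, or_false]
  generalize (tRho m hm a).val = x at ha ⊢
  generalize (tRho m hm b).val = y at hb ⊢
  have ha' : (a.val = m - 2 ∧ x = m) ∨ (a.val = m ∧ x = m - 2) ∨ (a.val = m - 1 ∧ x = m + 1) ∨
      (a.val = m + 1 ∧ x = m - 1) ∨
      ((a.val < m - 2 ∨ m + 1 < a.val) ∧ x = a.val) := by split_ifs at ha <;> omega
  have hb' : (b.val = m - 2 ∧ y = m) ∨ (b.val = m ∧ y = m - 2) ∨ (b.val = m - 1 ∧ y = m + 1) ∨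
      (b.val = m + 1 ∧ y = m - 1) ∨
      ((b.val < m - 2 ∨ m + 1 < b.val) ∧ y = b.val) := by split_ifs at hb <;> omega
  clear ha hb
  rcases ha' with ⟨a1, rfl⟩ | ⟨a1, rfl⟩ | ⟨a1, rfl⟩ | ⟨a1, rfl⟩ | ⟨a1, rfl⟩ <;>
    rcases hb' with ⟨b1, rfl⟩ | ⟨b1, rfl⟩ | ⟨b1, rfl⟩ | ⟨b1, rfl⟩ | ⟨b1, rfl⟩ <;> omega

omit hl in
theorem tMid_block (hm : 2 ≤ m) :
    (∀ a b : Fin (2 * m), a < b → blk (m - 2) a = blk (m - 2) b → tMid m hm b < tMid m hm a) ∧
      ∀ a b : Fin (2 * m), blk (m - 2) (tMid m hm a) = blk (m - 2) (tMid m hm b) ↔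
        blk (m - 2) a = blk (m - 2) b := by
  refine ⟨fun a b h hb => ?_, fun a b => ?_⟩
  · rw [tMid, Equiv.Perm.mul_apply, Equiv.Perm.mul_apply]
    exact tPerm_lt (show 2 * (m - 2) + 2 ≤ 2 * m by omega) ((tRho_block hm).2 h hb) ((tRho_block hm).1.2 hb)
  · rw [tMid, Equiv.Perm.mul_apply, Equiv.Perm.mul_apply, blk_tPerm, blk_tPerm]
    exact (tRho_block hm).1

omit hl in
/-- The image of a matrix in the second factor. -/
theorem psi_short_val {k : ℕ} (hk : 2 * k + 4 ≤ 2 * m) (A : Matrix.SpecialLinearGroup (Fin 2) F) (i j : Fin (2 * m)) :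
    (psi m σ (shortGL (n := 2 * m) k hk A)).1 i j =
      shortAct k hk (Matrix.of fun a b => σ (A.1 a b)) ((Pi.single j 1 : Fin (2 * m) → F) ∘ rho m) (rho m i) := by
  have hc : ((Pi.single j 1 : Fin (2 * m) → F) ∘ rho m) = Pi.single (rho m j) 1 := funext fun x => by
    simp only [Function.comp_apply, Pi.single_apply]
    refine if_congr ⟨fun h => ?_, fun h => ?_⟩ rfl rfl
    · rw [← h, ← Equiv.Perm.mul_apply, rho_sq, Equiv.Perm.one_apply]
    · rw [h, ← Equiv.Perm.mul_apply, rho_sq, Equiv.Perm.one_apply]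
  rw [psi_apply, shortGL_val, hc]
  simp only [shortAct, Pi.single_apply, Matrix.of_apply, apply_ite σ, map_add, map_sub, map_neg, map_mul,
    map_one, map_zero]

omit hl in
/-- The action of the second factor. -/
def actB (hm : 2 ≤ m) (A : Matrix (Fin 2) (Fin 2) F) (v : Fin (2 * m) → F) (i : Fin (2 * m)) : F :=
  shortAct (n := 2 * m) (m - 2) (by omega) A (v ∘ rho m) (rho m i)

omit hl in
theorem isLinear_actB (hm : 2 ≤ m) (A : Matrix (Fin 2) (Fin 2) F) : IsLinearMap F (actB (m := m) hm A) := by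
  have h := isLinear_short (n := 2 * m) (m - 2) (by omega) A
  refine ⟨fun v w => funext fun i => ?_, fun c v => funext fun i => ?_⟩
  · show shortAct _ _ A ((v + w) ∘ rho m) (rho m i) = _
    rw [show (v + w) ∘ rho m = v ∘ rho m + w ∘ rho m from rfl, h.map_add]; rfl
  · show shortAct _ _ A ((c • v) ∘ rho m) (rho m i) = _
    rw [show (c • v) ∘ rho m = c • (v ∘ rho m) from rfl, h.map_smul]; rfl

omit hl in
theorem act_comm (hm : 2 ≤ m) (A B : Matrix (Fin 2) (Fin 2) F) :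
    shortAct (n := 2 * m) (m - 2) (by omega) A ∘ actB hm B =
      actB hm B ∘ shortAct (n := 2 * m) (m - 2) (by omega) A := by
  funext v i
  have p0 : m - 2 < 2 * m := by omega
  have p1 : m - 1 < 2 * m := by omega
  have p2 : m < 2 * m := by omega
  have p3 : m + 1 < 2 * m := by omega
  have r0 : rho m ⟨m - 2, p0⟩ = (⟨m - 2, p0⟩ : Fin (2 * m)) := Fin.ext (by rw [rho_val]; dsimp only; split_ifs <;> omega)
  have r1 : rho m ⟨m - 1, p1⟩ = (⟨m, p2⟩ : Fin (2 * m)) := Fin.ext (by rw [rho_val]; dsimp only; split_ifs <;> omega)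
  have r2 : rho m ⟨m, p2⟩ = (⟨m - 1, p1⟩ : Fin (2 * m)) := Fin.ext (by rw [rho_val]; dsimp only; split_ifs <;> omega)
  have r3 : rho m ⟨m + 1, p3⟩ = (⟨m + 1, p3⟩ : Fin (2 * m)) := Fin.ext (by rw [rho_val]; dsimp only; split_ifs <;> omega)
  have e1 : m - 2 + 1 = m - 1 := by omega
  have e2 : 2 * m - 2 - (m - 2) = m := by omega
  have e3 : 2 * m - 1 - (m - 2) = m + 1 := by omega
  have n01 : ¬ m - 1 = m - 2 := by omega
  have n02 : ¬ m = m - 2 := by omega
  have n03 : ¬ m + 1 = m - 2 := by omega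
  have n12 : ¬ m = m - 1 := by omega
  have n13 : ¬ m + 1 = m - 1 := by omega
  have n23 : ¬ m + 1 = m := by omega
  by_cases h0 : i.val = m - 2
  · rw [show i = ⟨m - 2, p0⟩ from Fin.ext h0]
    simp only [Function.comp_apply, actB, shortAct, e1, e2, e3, r0, r1, r2, r3, if_true, n01, n02, n03, n12, n13, n23, if_false]
    ring
  by_cases h1 : i.val = m - 1
  · rw [show i = ⟨m - 1, p1⟩ from Fin.ext h1]
    simp only [Function.comp_apply, actB, shortAct, e1, e2, e3, r0, r1, r2, r3, if_true, n01, n02, n03, n12, n13, n23, if_false]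
    ring
  by_cases h2 : i.val = m
  · rw [show i = ⟨m, p2⟩ from Fin.ext h2]
    simp only [Function.comp_apply, actB, shortAct, e1, e2, e3, r0, r1, r2, r3, if_true, n01, n02, n03, n12, n13, n23, if_false]
    ring
  by_cases h3 : i.val = m + 1
  · rw [show i = ⟨m + 1, p3⟩ from Fin.ext h3]
    simp only [Function.comp_apply, actB, shortAct, e1, e2, e3, r0, r1, r2, r3, if_true, n01, n02, n03, n12, n13, n23, if_false]
    ring
  · have ri : rho m i = i := Fin.ext (by rw [rho_val, if_neg h1, if_neg h2])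
    simp only [Function.comp_apply, actB, shortAct, e1, e2, e3, ri, h0, h1, h2, h3, if_false]

omit hl in
theorem psi_short_mat (hm : 2 ≤ m) (A : Matrix.SpecialLinearGroup (Fin 2) F) :
    (psi m σ (shortGL (n := 2 * m) (m - 2) (by omega) A)).1 =
      matOf (actB hm (Matrix.of fun a b => σ (A.1 a b))) :=
  Matrix.ext fun i j => psi_short_val _ A i j

omit hl in
theorem short_psi_comm (hm : 2 ≤ m) (A B : Matrix.SpecialLinearGroup (Fin 2) F) :
    shortGL (n := 2 * m) (m - 2) (by omega) A * psi m σ (shortGL (n := 2 * m) (m - 2) (by omega) B) =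
      psi m σ (shortGL (n := 2 * m) (m - 2) (by omega) B) * shortGL (n := 2 * m) (m - 2) (by omega) A := by
  refine Units.ext ?_
  rw [Units.val_mul, Units.val_mul, psi_short_mat hm]
  show matOf _ * _ = _ * matOf _
  rw [matOf_mul (isLinear_short _ _ _) (isLinear_actB hm _),
    matOf_mul (isLinear_actB hm _) (isLinear_short _ _ _), act_comm hm]

omit hl in
/-- The homomorphism of the middle node. -/
noncomputable def midGM (hm : 2 ≤ m) (σ : F ≃+* F) : Matrix.SpecialLinearGroup (Fin 2) F →* GL (Fin (2 * m)) F :=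
  MonoidHom.mk' (fun A => shortGL (n := 2 * m) (m - 2) (by omega) A *
    psi m σ (shortGL (n := 2 * m) (m - 2) (by omega) A)) fun A B => by
    rw [map_mul, map_mul]
    set a := shortGL (n := 2 * m) (m - 2) (by omega) A
    set b := shortGL (n := 2 * m) (m - 2) (by omega) B
    calc a * b * (psi m σ a * psi m σ b) = a * (b * psi m σ a) * psi m σ b := by group
      _ = a * (psi m σ a * b) * psi m σ b := by rw [short_psi_comm hm B A]
      _ = _ := by group

omit hl in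
theorem psi_psi (hσ : ∀ x, σ (σ x) = x) (g : GL (Fin (2 * m)) F) : psi m σ (psi m σ g) = g := by
  refine Units.ext (Matrix.ext fun i j => ?_)
  rw [psi_apply, psi_apply, hσ, ← Equiv.Perm.mul_apply, ← Equiv.Perm.mul_apply, rho_sq]
  rfl

omit hl in
theorem midGM_fix (hm : 2 ≤ m) (hσ : ∀ x, σ (σ x) = x) (A : Matrix.SpecialLinearGroup (Fin 2) F) :
    psi m σ (midGM hm σ A) = midGM hm σ A := by
  show psi m σ (_ * psi m σ _) = _ * psi m σ _
  rw [map_mul, psi_psi hσ]
  exact (short_psi_comm hm A A).symm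

omit hl in
theorem midGM_uni [Fintype F] (hm : 2 ≤ m) (hσ : ∀ x, σ (σ x) = x) (c : F) :
    midGM hm σ (root (true, c)) ∈ UM m σ := by
  have h1 : shortGL (n := 2 * m) (m - 2) (by omega) (root (true, c)) ∈ uni F (2 * m) ⊓ oGL F m :=
    ⟨(short_uni _ _ c).1, bd_mem (by omega) (short_bd _ _ _) (short_th _ _ _)⟩
  exact ⟨mul_mem h1 (psi_uni h1), midGM_fix hm hσ _⟩

omit hl in
/-- The node turns over the images of the root elements. -/
theorem midGM_turn [Fintype F] (hm : 2 ≤ m) (b : Bool) (c : F) :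
    ∃ c', pP F (tMid m hm) * midGM hm σ (root (b, c)) * pP F (tMid m hm) =
      midGM hm σ (root (!b, c')) := by
  have hk : m - 2 + 1 < m := by omega
  set T := tMid m hm
  have hTsq : T * T = 1 := tMid_sq hm
  have hTR : RevC T := (tPerm_revC (by omega)).mul (tRho_revC hm)
  set a := shortGL (n := 2 * m) (m - 2) (by omega) (root (b, c))
  have hao : pP F T * a * pP F T ∈ oGL F m :=
    mul_mem (mul_mem (perm_mem hTR) (bd_mem hk (short_bd _ _ _) (short_th _ _ _))) (perm_mem hTR)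
  have key : ∃ c', pP F T * a * pP F T = shortGL (n := 2 * m) (m - 2) (by omega) (root (!b, c')) := by
    cases b
    · obtain ⟨h1, h2⟩ := conj_low_to_uni (tMid_block hm).1 (tMid_block hm).2 hTsq
        (short_uni (n := 2 * m) (m - 2) (by omega) c).2 (short_bd _ _ _)
      exact ⟨_, (up_eq hk hao h1 h2).symm⟩
    · obtain ⟨h1, h2⟩ := conj_uni_to_low (tMid_block hm).1 (tMid_block hm).2 hTsq
        (short_uni (n := 2 * m) (m - 2) (by omega) c).1 (short_bd _ _ _)
      exact ⟨_, (low_eq hk hao h1 h2).symm⟩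
  obtain ⟨c', hc'⟩ := key
  refine ⟨c', ?_⟩
  show pP F T * (a * psi m σ a) * pP F T = _ * psi m σ _
  rw [← hc', psi_pP_conj hTsq (rho_comm_tMid hm)]
  calc pP F T * (a * psi m σ a) * pP F T
      = pP F T * a * (pP F T * pP F T) * psi m σ a * pP F T := by rw [pP_sq hTsq, mul_one, mul_assoc]; simp only [mul_assoc]
    _ = _ := by simp only [mul_assoc]

/-- The root group of the middle node is covered. -/
theorem mem_X_mid [Fintype F] (hm : 2 ≤ m) (hσ : ∀ x, σ (σ x) = x) {s : GM m σ}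
    (hs : (s : GL (Fin (2 * m)) F) = pP F (tMid m hm)) {u : GM m σ} :
    u ∈ X ((uni F (2 * m)).subgroupOf (GM m σ)) (s * n₀) ↔
      ∃ c, (u : GL (Fin (2 * m)) F) = midGM hm σ (root (true, c)) := by
  obtain ⟨π, π', hn₀, hπe, hπ'⟩ := hl.perm
  have hk : m - 2 + 1 < m := by omega
  have hm0 : Mono (tMid m hm * (π' * Fin.revPerm)) ((s * n₀ : GM m σ) : GL (Fin (2 * m)) F).1 := by
    rw [Subgroup.coe_mul, hn₀, hs, ← hπe]
    exact mono_mul (mono_permGL _) (mono_permGL π)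
  have key : ∀ c (v : GM m σ), (v : GL (Fin (2 * m)) F) = midGM hm σ (root (true, c)) →
      (s * n₀)⁻¹ * v * (s * n₀) ∈ (TwistBN.Minus.bnPair m σ).B := by
    intro c v hv
    refine mem_borel ?_
    set g : GL (Fin (2 * m)) F := ((s * n₀ : GM m σ) : GL (Fin (2 * m)) F) with hgdef
    have hgo : g ∈ oGL F m := GM_le_oGL (s * n₀).2
    have hgf : psi m σ g = g := (s * n₀).2.2
    set a := shortGL (n := 2 * m) (m - 2) (by omega) (root (true, c))
    have ha : g⁻¹ * a * g ∈ uni F (2 * m) ⊓ oGL F m :=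
      ⟨node_long_uni hk hπ' (tMid_block hm).1 (tMid_block hm).2 hm0 (short_uni _ _ c).1 (short_bd _ _ _),
        (oGL F m).mul_mem ((oGL F m).mul_mem ((oGL F m).inv_mem hgo) (bd_mem hk (short_bd _ _ _) (short_th _ _ _))) hgo⟩
    have e : (((s * n₀)⁻¹ * v * (s * n₀) : GM m σ) : GL (Fin (2 * m)) F) =
        (g⁻¹ * a * g) * psi m σ (g⁻¹ * a * g) := by
      rw [map_mul, map_mul, map_inv, hgf, Subgroup.coe_mul, Subgroup.coe_mul, Subgroup.coe_inv, hv, ← hgdef]
      show g⁻¹ * (a * psi m σ a) * g = _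
      group
    rw [e]
    exact mul_mem ha.1 (psi_uni ha).1
  rw [mem_X hl.opp]
  constructor
  · rintro ⟨hu, hB⟩
    have huo : (u : GL (Fin (2 * m)) F) ∈ oGL F m := GM_le_oGL u.2
    have p0 : m - 2 < 2 * m := by omega
    have p1 : m - 2 + 1 < 2 * m := by omega
    set c := (u : GL (Fin (2 * m)) F).1 ⟨m - 2, p0⟩ ⟨m - 2 + 1, p1⟩
    refine ⟨c, ?_⟩
    obtain ⟨hcU, hcf⟩ := midGM_uni (σ := σ) hm hσ c
    set vc : GM m σ := ⟨midGM hm σ (root (true, c)), BM_le_GM (UM_le_BM ⟨hcU, hcf⟩)⟩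
    set v : GM m σ := u * vc⁻¹ with hvdef
    have hvU : (v : GL (Fin (2 * m)) F) ∈ uni F (2 * m) := mul_mem hu (inv_mem hcU.1)
    have hvB : (s * n₀)⁻¹ * v * (s * n₀) ∈ (TwistBN.Minus.bnPair m σ).B := by
      rw [show (s * n₀)⁻¹ * v * (s * n₀) =
        ((s * n₀)⁻¹ * u * (s * n₀)) * ((s * n₀)⁻¹ * vc * (s * n₀))⁻¹ by rw [hvdef]; group]
      exact mul_mem hB (inv_mem (key c vc rfl))
    -- the node coordinate vanishes
    have hv0 : (v : GL (Fin (2 * m)) F).1 ⟨m - 2, p0⟩ ⟨m - 2 + 1, p1⟩ = 0 := by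
      have hadd : ∀ x y : GL (Fin (2 * m)) F, x ∈ uni F (2 * m) → y ∈ uni F (2 * m) →
          (x * y).1 ⟨m - 2, p0⟩ ⟨m - 2 + 1, p1⟩ = x.1 ⟨m - 2, p0⟩ ⟨m - 2 + 1, p1⟩ + y.1 ⟨m - 2, p0⟩ ⟨m - 2 + 1, p1⟩ := by
        intro x y hx hy
        rw [Units.val_mul, Matrix.mul_apply,
          Finset.sum_eq_add (⟨m - 2, p0⟩ : Fin (2 * m)) ⟨m - 2 + 1, p1⟩ (by simp [Fin.ext_iff]) (fun z _ hz => by
            simp only [Ne, Fin.ext_iff] at hz
            rcases lt_or_ge z.val (m - 2) with hlt | hge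
            · rw [(mem_uni.1 hx).1 _ z (Fin.lt_def.2 hlt), zero_mul]
            · rw [(mem_uni.1 hy).1 z _ (Fin.lt_def.2 (by dsimp only; omega)), mul_zero]) (by simp) (by simp),
          (mem_uni.1 hx).2, (mem_uni.1 hy).2, one_mul, mul_one, add_comm]
      set a := shortGL (n := 2 * m) (m - 2) (by omega) (root (true, c))
      have ha : a ∈ uni F (2 * m) := (short_uni _ _ c).1
      have haa : a.1 ⟨m - 2, p0⟩ ⟨m - 2 + 1, p1⟩ = c := by
        simp [a, shortGL_val, shortAct, root_val, Pi.single_apply, Fin.ext_iff]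
      have hψa : (psi m σ a).1 ⟨m - 2, p0⟩ ⟨m - 2 + 1, p1⟩ = 0 := by
        rw [psi_apply, show a.1 (rho m ⟨m - 2, p0⟩) (rho m ⟨m - 2 + 1, p1⟩) = 0 from short_bd _ _ _ _ _ (by
          rw [Ne, blk_eq_iff (by omega), rho_val, rho_val]; dsimp only; split_ifs <;> omega), map_zero]
      have h2 : c = (v : GL (Fin (2 * m)) F).1 ⟨m - 2, p0⟩ ⟨m - 2 + 1, p1⟩ + (c + 0) := by
        conv_rhs => rw [← hψa]; arg 2; arg 1; rw [← haa]
        rw [← hadd _ _ ha (psi_uni ⟨ha, bd_mem hk (short_bd _ _ _) (short_th _ _ _)⟩).1,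
          show a * psi m σ a = midGM hm σ (root (true, c)) from rfl, ← hadd _ _ hvU hcU.1]
        show c = ((v * vc : GM m σ) : GL (Fin (2 * m)) F).1 _ _
        rw [hvdef, inv_mul_cancel_right]
      linear_combination -h2
    have hvo : (v : GL (Fin (2 * m)) F) ∈ oGL F m := GM_le_oGL v.2
    set A := tPerm (n := 2 * m) (m - 2) (by omega)
    have hP1 : prU (m - 2) ⟨_, hvU⟩ = 1 := prU_eq_one ⟨hvU, hvo⟩ hk hv0
    have hw : pP F A * (v : GL (Fin (2 * m)) F) * pP F A ∈ uni F (2 * m) ⊓ oGL F m := by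
      refine ⟨?_, mul_mem (mul_mem (perm_mem (tPerm_revC _)) hvo) (perm_mem (tPerm_revC _))⟩
      have := conj_refl (k := m - 2) (show 2 * (m - 2) + 2 ≤ 2 * m by omega) (mono_permGL A) (u := ⟨_, hvU⟩) hP1
      rwa [pP_inv (tPerm_sq _)] at this
    set w := pP F A * (v : GL (Fin (2 * m)) F) * pP F A with hwdef
    have hw' : pP F (rho m) * w * pP F (rho m) ∈ uni F (2 * m) ⊓ oGL F m :=
      SplitLift.Plus.rho_conj_uni hw
    have hv1 : (v : GL (Fin (2 * m)) F).1 ⟨m - 2, p0⟩ ⟨m, by omega⟩ = 0 := by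
      have := congrArg (fun g : GL (Fin (2 * m)) F => g.1 ⟨m - 2, p0⟩ ⟨m, by omega⟩) v.2.2
      simp only [psi_apply] at this
      rw [show rho m ⟨m - 2, p0⟩ = (⟨m - 2, p0⟩ : Fin (2 * m)) from Fin.ext (by rw [rho_val]; dsimp only; split_ifs <;> omega),
        show rho m ⟨m, by omega⟩ = (⟨m - 2 + 1, p1⟩ : Fin (2 * m)) from Fin.ext (by rw [rho_val]; dsimp only; split_ifs <;> omega),
        hv0, map_zero] at this
      exact this.symm
    have hw0 : (pP F (rho m) * w * pP F (rho m)).1 ⟨m - 2, p0⟩ ⟨m - 2 + 1, p1⟩ = 0 := by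
      rw [pP_conj_apply rho_sq, hwdef, pP_conj_apply (tPerm_sq _)]
      have hp := pair_neg (SplitLift.Plus.rho_conj_uni ⟨hvU, hvo⟩) hk
      rw [pP_conj_apply rho_sq, pP_conj_apply rho_sq] at hp
      have ei : A (rho m ⟨m - 2, p0⟩) = rho m ⟨2 * m - 2 - (m - 2), by omega⟩ := Fin.ext (by
        rw [tPerm_last_val (by omega), rho_val, rho_val]; dsimp only; split_ifs <;> omega)
      have ej : A (rho m ⟨m - 2 + 1, p1⟩) = rho m ⟨2 * m - 1 - (m - 2), by omega⟩ := Fin.ext (by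
        rw [tPerm_last_val (by omega), rho_val, rho_val]; dsimp only; split_ifs <;> omega)
      rw [ei, ej, hp,
        show rho m ⟨m - 2, p0⟩ = (⟨m - 2, p0⟩ : Fin (2 * m)) from Fin.ext (by rw [rho_val]; dsimp only; split_ifs <;> omega),
        show rho m ⟨m - 2 + 1, p1⟩ = (⟨m, by omega⟩ : Fin (2 * m)) from Fin.ext (by rw [rho_val]; dsimp only; split_ifs <;> omega),
        hv1, neg_zero]
    have hP2 : prU (m - 2) ⟨_, hw'.1⟩ = 1 := prU_eq_one hw' hk hw0
    have hz : pP F A * (pP F (rho m) * w * pP F (rho m)) * pP F A ∈ uni F (2 * m) ⊓ oGL F m := by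
      refine ⟨?_, mul_mem (mul_mem (perm_mem (tPerm_revC _)) hw'.2) (perm_mem (tPerm_revC _))⟩
      have := conj_refl (k := m - 2) (show 2 * (m - 2) + 2 ≤ 2 * m by omega) (mono_permGL A) (u := ⟨_, hw'.1⟩) hP2
      rwa [pP_inv (tPerm_sq _)] at this
    have hsU : s⁻¹ * v * s ∈ (uni F (2 * m)).subgroupOf (GM m σ) := by
      show (s : GL (Fin (2 * m)) F)⁻¹ * (v : GL (Fin (2 * m)) F) * (s : GL (Fin (2 * m)) F) ∈ uni F (2 * m)
      have h := (SplitLift.Plus.rho_conj_uni hz).1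
      rw [hs, pP_inv (tMid_sq hm)]
      have e : pP F (tMid m hm) * (v : GL (Fin (2 * m)) F) * pP F (tMid m hm) =
          pP F (rho m) * (pP F A * (pP F (rho m) * w * pP F (rho m)) * pP F A) * pP F (rho m) := by
        have hB1 : pP F (tMid m hm) = pP F (rho m) * pP F A * pP F (rho m) * pP F A := by
          rw [← pP_mul, ← pP_mul, ← pP_mul, tMid, last_comm, tRho]
        have hB2 : pP F (tMid m hm) = pP F A * pP F (rho m) * pP F A * pP F (rho m) := by
          rw [← pP_mul, ← pP_mul, ← pP_mul, tMid, tRho]; simp only [A, mul_assoc]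
        conv_lhs => arg 2; rw [hB2]
        rw [hB1, hwdef]
        simp only [mul_assoc]
      rw [e]
      exact h
    have h1 := hl.opp.opp _ hsU (by
      rwa [show n₀⁻¹ * (s⁻¹ * v * s) * n₀ = (s * n₀)⁻¹ * v * (s * n₀) by group])
    have h2 : v = 1 := by
      rw [show v = s * (s⁻¹ * v * s) * s⁻¹ by group, h1]; group
    rw [show u = vc by rw [← inv_mul_cancel_right u vc, ← hvdef, h2, one_mul]]
  · rintro ⟨c, hu⟩
    exact And.intro (show (u : GL (Fin (2 * m)) F) ∈ uni F (2 * m) by rw [hu]; exact (midGM_uni hm hσ c).1.1)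
      (key c u hu)

/-- Rank one data of the middle node over the extension field. -/
theorem rankOne_mid [Fintype F] (hm : 2 ≤ m) (hσ : ∀ x, σ (σ x) = x) {s : GM m σ}
    (hs : (s : GL (Fin (2 * m)) F) = pP F (tMid m hm)) :
    ∃ φ : Matrix.SpecialLinearGroup (Fin 2) F →* GM m σ,
      RankOne F ((uni F (2 * m)).subgroupOf (GM m σ)) n₀ s φ := by
  have hTsq := tMid_sq hm
  have hmem : ∀ g, midGM hm σ g ∈ GM m σ := range_le_GM fun b c => by
    cases b
    · obtain ⟨c', hc'⟩ := midGM_turn (σ := σ) hm false c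
      refine mem_GM_of_conj hTsq hs ?_
      rw [hc']; exact midGM_uni hm hσ c'
    · exact BM_le_GM (UM_le_BM (midGM_uni hm hσ c))
  have hsc := coe_conj (σ := σ) hTsq hs
  refine ⟨(midGM hm σ).codRestrict (GM m σ) hmem, ?_⟩
  constructor
  · exact fun c => (mem_X_mid hl hm hσ hs).2 ⟨c, rfl⟩
  · intro x hx
    obtain ⟨c, hc⟩ := (mem_X_mid hl hm hσ hs).1 hx
    exact ⟨c, Subtype.ext hc.symm⟩
  · intro c
    set y : GM m σ := ⟨_, hmem (root (false, c))⟩
    refine ⟨s⁻¹ * y * s, (mem_X_mid hl hm hσ hs).2 ?_, by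
      show y = s * (s⁻¹ * y * s) * s⁻¹
      group⟩
    obtain ⟨c', hc'⟩ := midGM_turn (σ := σ) hm false c
    refine ⟨c', ?_⟩
    rw [Subgroup.coe_mul, Subgroup.coe_mul, Subgroup.coe_inv, hs, pP_inv hTsq]
    exact hc'
  · intro x hx
    obtain ⟨c, hc⟩ := (mem_X_mid hl hm hσ hs).1 hx
    obtain ⟨c', hc'⟩ := midGM_turn (σ := σ) hm true c
    refine ⟨c', Subtype.ext ?_⟩
    rw [hsc, hc]
    exact hc'.symm
  · intro g hg
    have h1 : shortGL (n := 2 * m) (m - 2) (by omega) g *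
        psi m σ (shortGL (n := 2 * m) (m - 2) (by omega) g) = 1 := congrArg Subtype.val hg
    refine Subgroup.mem_center_iff.2 fun h => ?_
    have hc := short_psi_comm (σ := σ) hm h g
    rw [← inv_eq_of_mul_eq_one_right h1] at hc
    have h2 : shortGL (n := 2 * m) (m - 2) (by omega) (h * g) =
        shortGL (n := 2 * m) (m - 2) (by omega) (g * h) := by
      rw [map_mul, map_mul]
      set a := shortGL (n := 2 * m) (m - 2) (by omega) h
      set b := shortGL (n := 2 * m) (m - 2) (by omega) g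
      calc a * b = b * (b⁻¹ * a) * b := by group
        _ = b * (a * b⁻¹) * b := by rw [hc]
        _ = b * a := by group
    have e := fun i j => congrArg (fun x : GL (Fin (2 * m)) F => x.1 i j) h2
    have h00 := e ⟨m - 2, by omega⟩ ⟨m - 2, by omega⟩
    have h01 := e ⟨m - 2, by omega⟩ ⟨m - 2 + 1, by omega⟩
    have h10 := e ⟨m - 2 + 1, by omega⟩ ⟨m - 2, by omega⟩
    have h11 := e ⟨m - 2 + 1, by omega⟩ ⟨m - 2 + 1, by omega⟩
    simp [-map_mul, shortGL_val, shortAct, Pi.single_apply, Fin.ext_iff] at h00 h01 h10 h11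
    refine Subtype.ext (Matrix.ext fun i j => ?_)
    fin_cases i <;> fin_cases j <;> simp <;> first | exact h00 | exact h01 | exact h10 | exact h11

end CfsgLib.Known.SplitLift.Minus
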