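import Cfsg.Agent.Lib.Known.SplitLift.Root

/-!
# Rank one subgroups of a split Tits system
-/

set_option autoImplicit false
set_option linter.unusedSectionVars false

namespace CfsgLib.Known.SplitLift

open CfsgLib.Chev.BN CfsgLib.BNSteinberg

variable {G : Type*} [Group G] [Finite G] {P : Cfsg.BNPair G} {p : ℕ} {U : Subgroup G}
  {n₀ : G} (h : Opp P p U n₀)

/-- The subgroup generated by a root group and its opposite. -/
def Lv (U : Subgroup G) (n₀ s : G) : Subgroup G :=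
  Subgroup.closure ((X U (s * n₀) : Set G) ∪ (fun x => s * x * s⁻¹) '' (X U (s * n₀) : Set G))

include h

/-- The reflection opposite to `s`. -/
theorem exists_opp_s {s : G} (hs : s ∈ P.S) :
    ∃ s' ∈ P.S, Eqv P s' (n₀⁻¹ * s * n₀) := by
  have hm : n₀⁻¹ * s * n₀ ∈ P.N := mul_mem (mul_mem (inv_mem h.mem) (s_mem_N hs)) h.mem
  have e : Eqv P n₀ n₀⁻¹ := (long h).eqv subset_rfl (mem_NJ_S h h.mem)
    (mem_NJ_S h (inv_mem h.mem)) (le_of_eq (len_inv h.mem).symm)
  have hl : len P (n₀⁻¹ * s * n₀) = 0 + 1 := by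
    rw [len_congr ((e.symm.mul_right (s_mem_N hs)).mul_right h.mem), mul_assoc]
    have h1 := len_right h (mul_mem (s_mem_N hs) h.mem)
    have h2 := len_s_n₀ h hs
    omega
  obtain ⟨t, ht, m, hm', hm0, he⟩ := exists_cons hm hl
  refine ⟨t, ht, Eqv.trans ?_ he⟩
  have : Eqv P 1 m := eqv_one_iff.2 ⟨(len_eq_zero_iff hm').1 hm0, hm'⟩
  simpa using this.mul_left t

/-- A rank one subgroup meets `B` in the root group times the torus. -/
theorem exists_mem_inter {s s' y : G} (hs : s ∈ P.S) (hs' : s' ∈ P.S)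
    (e : Eqv P s' (n₀⁻¹ * s * n₀)) (hy : y ∈ P.B)
    (hy' : (s * n₀)⁻¹ * y * (s * n₀) ∈ P.parabolic {s'}) :
    ∃ x ∈ X U (s * n₀), ∃ t ∈ P.B ⊓ P.N, y = x * t := by
  set c := s * n₀ with hc
  have hsN := s_mem_N hs
  have hcN : c ∈ P.N := mul_mem hsN h.mem
  have hS : ({s'} : Set G) ⊆ P.S := by simpa using hs'
  have hcy : c⁻¹ * y * c ∈ P.B := by
    by_contra hne
    obtain ⟨v, hv, hvc⟩ := parabolic_cell hS hy'
    obtain ⟨l, hl, hred, he⟩ := exists_red_subset (P := P) hS hv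
    match l, hl, hred, he with
    | [], _, _, he =>
      rw [List.prod_nil, eqv_one_iff] at he
      obtain ⟨b, hb, b', hb', ex⟩ := mem_cell.1 hvc
      exact hne (by rw [ex]; exact mul_mem (mul_mem hb he.1) hb')
    | [a], hl, _, he =>
      obtain rfl : a = s' := Set.mem_singleton_iff.1 (hl a (by simp))
      rw [List.prod_singleton] at he
      rw [← he.cell_eq] at hvc
      have e2 : Eqv P (c * a) n₀ := by
        refine (e.mul_left c).trans ?_
        rw [hc, show s * n₀ * (n₀⁻¹ * s * n₀) = s * (s * n₀) by group]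
        exact eqv_twice hs h.mem
      have hlc : len P c + 1 = len P n₀ := len_s_n₀ h hs
      have h5 := cell_mul hcN (s_mem_N hs') (by rw [len_congr e2, len_s hs']; omega)
        (mem_cell_self c) hvc
      rw [show c * (c⁻¹ * y * c) = y * c by group] at h5
      have := len_congr (eqv_of_mem_cells (mul_mem hcN (s_mem_N hs')) hcN h5
        (mul_mem_cell hy (mem_cell_self c)))
      rw [len_congr e2] at this
      omega
    | a :: b :: r, hl, hred, _ =>
      obtain rfl : a = s' := Set.mem_singleton_iff.1 (hl a (by simp))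
      obtain rfl : b = a := Set.mem_singleton_iff.1 (hl b (by simp))
      have hrw : IsWord P r := fun z hz => hred.1 z (by simp [hz])
      have h6 := hred.2
      rw [List.prod_cons, List.prod_cons, len_congr (eqv_twice hs' hrw.prod_mem)] at h6
      have := len_le_of_word hrw (Eqv.refl (P := P) r.prod)
      simp only [List.length_cons] at h6
      omega
  obtain ⟨u, hu, t, ht, rfl⟩ := h.split.decomp y hy
  refine ⟨u, (mem_X h).2 ⟨hu, ?_⟩, t, ht, rfl⟩
  rw [show c⁻¹ * u * c = (c⁻¹ * (u * t) * c) * (c⁻¹ * t * c)⁻¹ by group]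
  exact mul_mem hcy (inv_mem (conj_mem_H' hcN ht).1)

theorem Lv_le_parabolic {s : G} (_hs : s ∈ P.S) : Lv U n₀ s ≤ P.parabolic {s} := by
  rw [Lv, Subgroup.closure_le]
  have hB := B_le_parabolic (P := P) ({s} : Set G)
  have hsP : s ∈ P.parabolic {s} := J_subset_parabolic (Set.mem_singleton s)
  rintro g (hg | ⟨x, hx, rfl⟩)
  · exact hB (h.split.le ((mem_X h).1 hg).1)
  · exact mul_mem (mul_mem hsP (hB (h.split.le ((mem_X h).1 hx).1))) (inv_mem hsP)

theorem Lv_le_opp {s s' : G} (e : Eqv P s' (n₀⁻¹ * s * n₀)) {y : G} (hy : y ∈ Lv U n₀ s) :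
    (s * n₀)⁻¹ * y * (s * n₀) ∈ P.parabolic {s'} := by
  suffices hle : Lv U n₀ s ≤ (P.parabolic {s'}).map (MulAut.conj (s * n₀)).toMonoidHom by
    obtain ⟨z, hz, rfl⟩ := hle hy
    show (s * n₀)⁻¹ * (s * n₀ * z * (s * n₀)⁻¹) * (s * n₀) ∈ _
    rwa [show (s * n₀)⁻¹ * (s * n₀ * z * (s * n₀)⁻¹) * (s * n₀) = z by group]
  have hB := B_le_parabolic (P := P) ({s'} : Set G)
  have ht : n₀⁻¹ * s * n₀ ∈ P.parabolic {s'} := by
    have := mul_mem (J_subset_parabolic (P := P) (Set.mem_singleton s')) (hB e.1)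
    rwa [mul_inv_cancel_left] at this
  rw [Lv, Subgroup.closure_le]
  rintro g (hg | ⟨x, hx, rfl⟩)
  · refine ⟨(s * n₀)⁻¹ * g * (s * n₀), hB ((mem_X h).1 hg).2, ?_⟩
    show s * n₀ * ((s * n₀)⁻¹ * g * (s * n₀)) * (s * n₀)⁻¹ = g
    group
  · refine ⟨(n₀⁻¹ * s * n₀) * ((s * n₀)⁻¹ * x * (s * n₀)) * (n₀⁻¹ * s * n₀)⁻¹,
      mul_mem (mul_mem ht (hB ((mem_X h).1 hx).2)) (inv_mem ht), ?_⟩
    show s * n₀ * (n₀⁻¹ * s * n₀ * ((s * n₀)⁻¹ * x * (s * n₀)) * (n₀⁻¹ * s * n₀)⁻¹) * (s * n₀)⁻¹ = _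
    group

/-- The Bruhat decomposition of a rank one subgroup, for any representative of the reflection. -/
theorem Lv_decomp {s a y : G} (hs : s ∈ P.S) (ha : Eqv P s a) (hy : y ∈ Lv U n₀ s) :
    (∃ x ∈ X U (s * n₀), ∃ t ∈ P.B ⊓ P.N, y = x * t) ∨
      ∃ x ∈ X U (s * n₀), ∃ x' ∈ X U (s * n₀), ∃ t ∈ P.B ⊓ P.N, y = x * a * x' * t := by
  obtain ⟨s', hs', e⟩ := exists_opp_s h hs
  by_cases hyB : y ∈ P.B
  · exact Or.inl (exists_mem_inter h hs hs' e hyB (Lv_le_opp h e hy))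
  refine Or.inr ?_
  have hS : ({s} : Set G) ⊆ P.S := by simpa using hs
  obtain ⟨v, hv, hvc⟩ := parabolic_cell hS (Lv_le_parabolic h hs hy)
  obtain ⟨l, hl, hred, he⟩ := exists_red_subset (P := P) hS hv
  match l, hl, hred, he with
  | [], _, _, he =>
    rw [List.prod_nil, eqv_one_iff] at he
    obtain ⟨b, hb, b', hb', ex⟩ := mem_cell.1 hvc
    exact absurd (by rw [ex]; exact mul_mem (mul_mem hb he.1) hb') hyB
  | [c], hl, _, he =>
    obtain rfl : c = s := Set.mem_singleton_iff.1 (hl c (by simp))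
    rw [List.prod_singleton] at he
    rw [← he.cell_eq] at hvc
    obtain ⟨u, hu, eu⟩ := orbit_cell (s_mem_N hs) h.split hvc
    obtain ⟨x, hx, hxu⟩ := exists_X h hs hu
    have hB : a⁻¹ * x⁻¹ * y ∈ P.B := by
      rw [show a⁻¹ * x⁻¹ * y = (a⁻¹ * c) * (c⁻¹ * (x⁻¹ * u) * c) * ((u * c)⁻¹ * y) by group]
      exact mul_mem (mul_mem ha.symm.1 hxu) (QuotientGroup.eq.1 eu)
    have hcP : (c * n₀)⁻¹ * c * (c * n₀) ∈ P.parabolic {s'} := by
      rw [show (c * n₀)⁻¹ * c * (c * n₀) = n₀⁻¹ * c * n₀ by group]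
      have := mul_mem (J_subset_parabolic (P := P) (Set.mem_singleton s'))
        (B_le_parabolic (P := P) {s'} e.1)
      rwa [mul_inv_cancel_left] at this
    have haP : (c * n₀)⁻¹ * a * (c * n₀) ∈ P.parabolic {s'} := by
      rw [show (c * n₀)⁻¹ * a * (c * n₀) =
        ((c * n₀)⁻¹ * c * (c * n₀)) * ((c * n₀)⁻¹ * (c⁻¹ * a) * (c * n₀)) by group]
      exact mul_mem hcP (B_le_parabolic (P := P) {s'}
        (conj_mem_H' (mul_mem (s_mem_N hs) h.mem) ha).1)
    have hxP := Lv_le_opp h e (Subgroup.subset_closure (Or.inl hx) : x ∈ Lv U n₀ c)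
    obtain ⟨x', hx', t, ht, ex⟩ := exists_mem_inter h hs hs' e hB (by
      rw [show (c * n₀)⁻¹ * (a⁻¹ * x⁻¹ * y) * (c * n₀) = ((c * n₀)⁻¹ * a * (c * n₀))⁻¹ *
        ((c * n₀)⁻¹ * x * (c * n₀))⁻¹ * ((c * n₀)⁻¹ * y * (c * n₀)) by group]
      exact mul_mem (mul_mem (inv_mem haP) (inv_mem hxP)) (Lv_le_opp h e hy))
    refine ⟨x, hx, x', hx', t, ht, ?_⟩
    rw [mul_assoc _ x', ← ex]
    group
  | c :: b :: r, hl, hred, _ =>
    obtain rfl : c = s := Set.mem_singleton_iff.1 (hl c (by simp))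
    obtain rfl : b = c := Set.mem_singleton_iff.1 (hl b (by simp))
    have hrw : IsWord P r := fun z hz => hred.1 z (by simp [hz])
    have h6 := hred.2
    rw [List.prod_cons, List.prod_cons, len_congr (eqv_twice hs hrw.prod_mem)] at h6
    have := len_le_of_word hrw (Eqv.refl (P := P) r.prod)
    simp only [List.length_cons] at h6
    omega

/-- A rank one subgroup contains a representative of its reflection. -/
theorem exists_Lv_rep {s : G} (hs : s ∈ P.S) : ∃ a ∈ Lv U n₀ s, Eqv P s a := by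
  obtain ⟨b, hb, hne⟩ := exists_not_mem_sB (P := P) hs
  obtain ⟨u, hu, t, ht, rfl⟩ := h.split.decomp b hb
  obtain ⟨x, hx, hxu⟩ := exists_X h hs hu
  have hxne : s⁻¹ * x * s ∉ P.B := fun hc => hne (by
    rw [show s⁻¹ * (u * t) * s = (s⁻¹ * x * s) * (s⁻¹ * (x⁻¹ * u) * s) * (s⁻¹ * t * s) by group]
    exact mul_mem (mul_mem hc hxu) (conj_mem_H' (s_mem_N hs) ht).1)
  have hy : s * x * s⁻¹ ∈ Lv U n₀ s := Subgroup.subset_closure (Or.inr ⟨x, hx, rfl⟩)
  have hyB : s * x * s⁻¹ ∉ P.B := fun hc => hxne (by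
    rw [show s⁻¹ * x * s = (s * s)⁻¹ * (s * x * s⁻¹) * (s * s) by group]
    exact mul_mem (mul_mem (inv_mem (sq_mem_H hs).1) hc) (sq_mem_H hs).1)
  rcases Lv_decomp h hs (Eqv.refl s) hy with ⟨x₁, hx₁, t₁, ht₁, e⟩ | ⟨x₁, hx₁, x₂, hx₂, t₁, ht₁, e⟩
  · exact absurd (by rw [e]; exact mul_mem (h.split.le ((mem_X h).1 hx₁).1) ht₁.1) hyB
  · refine ⟨s * t₁, ?_, by simpa [Eqv] using ht₁⟩
    have hx₃ : t₁⁻¹ * x₂ * t₁ ∈ X U (s * n₀) := by
      have := torus_X h (inv_mem ht₁) (mul_mem (s_mem_N hs) h.mem) hx₂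
      rwa [inv_inv] at this
    rw [show s * t₁ = x₁⁻¹ * (x₁ * s * x₂ * t₁) * (t₁⁻¹ * x₂ * t₁)⁻¹ by group, ← e]
    exact mul_mem (mul_mem (inv_mem (Subgroup.subset_closure (Or.inl hx₁))) hy)
      (inv_mem (Subgroup.subset_closure (Or.inl hx₃)))

/-- Exchange, in the form needed for lifting. -/
theorem exchange_split {s : G} (hs : s ∈ P.S) {l : List G} (hl : Red P l)
    (hdown : len P (s * l.prod) < l.length) :
    ∃ m t r, l = m ++ t :: r ∧ t ∈ P.S ∧ Red P (m ++ r) ∧ Eqv P (s * l.prod) (m ++ r).prod ∧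
      Eqv P (s * m.prod) (m.prod * t) ∧ len P m.prod < len P (m.prod * t) := by
  obtain ⟨i, hi, he⟩ := exchange hs hl hdown
  have hsplit : l = l.take i ++ l[i] :: l.drop (i + 1) := by
    rw [List.getElem_cons_drop, List.take_append_drop]
  rw [List.eraseIdx_eq_take_drop_succ] at he
  set m := l.take i with hm
  set r := l.drop (i + 1) with hr
  set t := l[i] with ht
  have htS : t ∈ P.S := hl.1 t (List.getElem_mem hi)
  have hmw : IsWord P m := hl.1.sublist (List.take_sublist i l)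
  have hrw : IsWord P r := hl.1.sublist (List.drop_sublist (i + 1) l)
  have hcancel : Eqv P (s * m.prod) (m.prod * t) := by
    have e1 : Eqv P (s * (m.prod * (t * r.prod))) (m.prod * r.prod) := by
      rw [hsplit, List.prod_append, List.prod_cons] at he
      rwa [List.prod_append] at he
    have e2 := e1.mul_right (inv_mem hrw.prod_mem)
    rw [show s * (m.prod * (t * r.prod)) * r.prod⁻¹ = s * m.prod * t by group,
      mul_inv_cancel_right] at e2
    have e3 := e2.mul_right (s_mem_N htS)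
    exact (eqv_twice_right htS).symm.trans e3
  have hlm : m.length = i := by rw [hm, List.length_take]; omega
  have hpre : len P (m.prod * t) = m.length + 1 := by
    have h1 := hl.2
    rw [hsplit, List.prod_append, List.prod_cons, List.length_append, List.length_cons,
      ← mul_assoc] at h1
    have h2 := len_mul_le_add (mul_mem hmw.prod_mem (s_mem_N htS)) hrw.prod_mem
    have h3 := len_le_of_word hrw (Eqv.refl (P := P) r.prod)
    have h4 := len_le_of_word hmw (Eqv.refl (P := P) m.prod)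
    have h5 := len_mul_right_le htS hmw.prod_mem
    omega
  refine ⟨m, t, r, hsplit, htS, ⟨fun x hx => (List.mem_append.1 hx).elim (hmw x) (hrw x), ?_⟩, he,
    hcancel, ?_⟩
  · have hrw' : IsWord P (m ++ r) := fun x hx => (List.mem_append.1 hx).elim (hmw x) (hrw x)
    have h2 := len_le_of_word hrw' (Eqv.refl (P := P) (m ++ r).prod)
    have h4 := len_le_mul hs hl.1.prod_mem
    have hlen : l.length = (m ++ r).length + 1 := by
      rw [hsplit]; simp only [List.length_append, List.length_cons]; omega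
    have := hl.2
    rw [← len_congr he]
    omega
  · have := len_le_of_word hmw (Eqv.refl (P := P) m.prod)
    omega

end CfsgLib.Known.SplitLift
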