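import Cfsg.Agent.Lib.Known.SplitLift.Levi

/-!
# Unique lifts of unipotent elements
-/

set_option autoImplicit false
set_option linter.unusedSectionVars false

namespace CfsgLib.Known.SplitLift

open CfsgLib.Chev.BN CfsgLib.BNSteinberg

universe u v

variable {E : Type v} {G : Type u} [Group E] [Group G]

/-- `e` is an element of `p`-power order over `g`. -/
def IsLift (σ : E →* G) (p : ℕ) (g : G) (e : E) : Prop := σ e = g ∧ ∃ k : ℕ, e ^ p ^ k = 1

open _root_.Classical in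
/-- The lift of an element of `p`-power order. -/
noncomputable def li (σ : E →* G) (p : ℕ) (g : G) : E :=
  if hg : ∃ e, IsLift σ p g e then hg.choose else 1

variable (σ : E →* G) {p : ℕ}

/-- The standing assumptions on the extension. -/
structure Cov (σ : E →* G) (p : ℕ) : Prop where
  surj : Function.Surjective σ
  cen : σ.ker ≤ Subgroup.center E
  coprime : (Nat.card σ.ker).Coprime p

variable {σ} (hc : Cov σ p)

include hc

theorem lift_unique {g : G} {e e' : E} (h1 : IsLift σ p g e) (h2 : IsLift σ p g e') : e = e' := by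
  obtain ⟨k, hk⟩ := h1.2
  obtain ⟨k', hk'⟩ := h2.2
  have hz : e⁻¹ * e' ∈ σ.ker := by simp [MonoidHom.mem_ker, h1.1, h2.1]
  have hcomm : Commute e (e⁻¹ * e') := Subgroup.mem_center_iff.1 (hc.cen hz) e
  have hz1 : (e⁻¹ * e') ^ p ^ (k + k') = 1 := by
    have h3 := hcomm.mul_pow (p ^ (k + k'))
    rw [mul_inv_cancel_left, pow_add, pow_mul e, hk, one_pow, one_mul] at h3
    rw [pow_add, ← h3, mul_comm (p ^ k), pow_mul, hk', one_pow]
  have hz2 : (e⁻¹ * e') ^ Nat.card σ.ker = 1 := by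
    have := pow_card_eq_one' (G := σ.ker) (x := ⟨_, hz⟩)
    simpa using congrArg Subtype.val this
  have h4 := orderOf_dvd_of_pow_eq_one hz1
  have h5 := orderOf_dvd_of_pow_eq_one hz2
  have h6 : orderOf (e⁻¹ * e') = 1 :=
    Nat.eq_one_of_dvd_coprimes (hc.coprime.pow_right (k + k')) h5 h4
  rwa [orderOf_eq_one_iff, inv_mul_eq_one] at h6

theorem exists_isLift {g : G} {k : ℕ} (hk : g ^ p ^ k = 1) : ∃ e, IsLift σ p g e := by
  obtain ⟨e, rfl⟩ := hc.surj g
  have hz : e ^ p ^ k ∈ σ.ker := by rw [MonoidHom.mem_ker, map_pow]; exact hk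
  obtain ⟨⟨w, hw⟩, hwe⟩ := (powCoprime (hc.coprime.pow_right k)).surjective
    (⟨_, inv_mem hz⟩ : σ.ker)
  have hw' : w ^ p ^ k = (e ^ p ^ k)⁻¹ := by simpa using congrArg Subtype.val hwe
  refine ⟨e * w, by rw [map_mul, MonoidHom.mem_ker.1 hw, mul_one], k, ?_⟩
  rw [Commute.mul_pow (Subgroup.mem_center_iff.1 (hc.cen hw) e), hw', mul_inv_cancel]

theorem isLift_li {g : G} {k : ℕ} (hk : g ^ p ^ k = 1) : IsLift σ p g (li σ p g) := by
  have h := exists_isLift hc hk
  rw [li, dif_pos h]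
  exact h.choose_spec

theorem eq_li {g : G} {e : E} (he : IsLift σ p g e) : e = li σ p g := by
  obtain ⟨k, hk⟩ := he.2
  refine lift_unique hc he (isLift_li hc (k := k) ?_)
  rw [← he.1, ← map_pow, hk, map_one]

theorem li_one : li σ p 1 = (1 : E) := (eq_li hc ⟨map_one σ, 0, one_pow _⟩).symm

theorem conj_li {g : G} {k : ℕ} (hk : g ^ p ^ k = 1) (e : E) :
    e * li σ p g * e⁻¹ = li σ p (σ e * g * (σ e)⁻¹) := by
  obtain ⟨h1, j, hj⟩ := isLift_li hc hk
  refine eq_li hc ⟨by rw [map_mul, map_mul, map_inv, h1], j, ?_⟩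
  rw [conj_pow, hj, mul_one, mul_inv_cancel]

omit hc

variable [Finite E] [Finite G] [Fact p.Prime]

include hc in
/-- Lifts multiply on a `p`-subgroup. -/
theorem li_mul {U : Subgroup G} (hU : IsPGroup p U) {a b : G} (ha : a ∈ U) (hb : b ∈ U) :
    li σ p (a * b) = li σ p a * li σ p b := by
  obtain ⟨S⟩ : Nonempty (Sylow p ↥(U.comap σ)) := inferInstance
  let τ : ↥(U.comap σ) →* U := (σ.comp (U.comap σ).subtype).codRestrict U fun x => x.2
  have hτ : Function.Surjective τ := fun y => by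
    obtain ⟨x, hx⟩ := hc.surj y.1
    exact ⟨⟨x, show σ x ∈ U by rw [hx]; exact y.2⟩, Subtype.ext hx⟩
  let S' := S.mapSurjective hτ
  have htop : (S : Subgroup ↥(U.comap σ)).map τ = ⊤ := by
    have h2 : (⊤ : Subgroup U) = (S' : Subgroup U) :=
      S'.is_maximal' (hU.of_equiv Subgroup.topEquiv.symm) le_top
    rw [h2]
    rfl
  have key : ∀ c ∈ U, li σ p c ∈ (S : Subgroup ↥(U.comap σ)).map (U.comap σ).subtype := by
    intro c hcU
    obtain ⟨x, hx, hxc⟩ := (htop ▸ Subgroup.mem_top (⟨c, hcU⟩ : U) :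
      (⟨c, hcU⟩ : U) ∈ (S : Subgroup ↥(U.comap σ)).map τ)
    obtain ⟨k, hk⟩ := S.isPGroup' ⟨x, hx⟩
    refine ⟨x, hx, ?_⟩
    refine eq_li hc ⟨congrArg Subtype.val hxc, k, ?_⟩
    simpa using congrArg (fun z : (S : Subgroup ↥(U.comap σ)) => ((z : ↥(U.comap σ)) : E)) hk
  obtain ⟨x, hx, hxe⟩ := mul_mem (key a ha) (key b hb)
  obtain ⟨k, hk⟩ := S.isPGroup' ⟨x, hx⟩
  obtain ⟨ka, hka⟩ := hU ⟨a, ha⟩
  obtain ⟨kb, hkb⟩ := hU ⟨b, hb⟩
  refine (eq_li hc ⟨?_, k, ?_⟩).symm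
  · rw [map_mul, (isLift_li hc (k := ka) (by simpa using congrArg Subtype.val hka)).1,
      (isLift_li hc (k := kb) (by simpa using congrArg Subtype.val hkb)).1]
  · rw [← hxe]
    simpa using congrArg (fun z : (S : Subgroup ↥(U.comap σ)) => ((z : ↥(U.comap σ)) : E)) hk

section

variable {P : Cfsg.BNPair G} {U : Subgroup G} {n₀ : G} (h : Opp P p U n₀)
include hc h

theorem U_pow {u : G} (hu : u ∈ U) : ∃ k : ℕ, u ^ p ^ k = 1 := by
  obtain ⟨k, hk⟩ := h.split.pgroup ⟨u, hu⟩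
  exact ⟨k, by simpa using congrArg Subtype.val hk⟩

theorem σ_li {u : G} (hu : u ∈ U) : σ (li σ p u) = u :=
  (isLift_li hc (U_pow hc h hu).choose_spec).1

theorem mul_li {u v : G} (hu : u ∈ U) (hv : v ∈ U) : li σ p u * li σ p v = li σ p (u * v) :=
  (li_mul hc h.split.pgroup hu hv).symm

theorem inv_li {u : G} (hu : u ∈ U) : (li σ p u)⁻¹ = li σ p u⁻¹ := by
  refine inv_eq_of_mul_eq_one_right ?_
  rw [mul_li hc h hu (inv_mem hu), mul_inv_cancel, li_one hc]

theorem conj_li_U {u : G} (hu : u ∈ U) (e : E) :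
    e * li σ p u * e⁻¹ = li σ p (σ e * u * (σ e)⁻¹) :=
  conj_li hc (U_pow hc h hu).choose_spec e

end

end CfsgLib.Known.SplitLift
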