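import Cfsg.Agent.Lib.Known.SplitLift.Torus

/-!
# The bound on coprime central extensions of a group with a split Tits system

The kernel times the torus is at most the product of the lifted tori of rank one.
-/

set_option autoImplicit false
set_option linter.unusedSectionVars false

namespace CfsgLib.Known.SplitLift

open CfsgLib.Chev.BN CfsgLib.BNSteinberg
open scoped commutatorElement Pointwise

universe u v

variable {E : Type v} {G : Type u} [Group E] [Group G] (σ : E →* G) (P : Cfsg.BNPair G) (p : ℕ)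
  (U : Subgroup G) (n₀ : G)

/-- The group generated by all lifted rank one groups. -/
def MM : Subgroup E := ⨆ s : P.S, Ms σ p U n₀ s

/-- The lifted cells. -/
def KK : Set E :=
  {g | ∃ u ∈ U, ∃ l, Red P l ∧ ∃ t ∈ TT σ P p U n₀, ∃ u' ∈ U,
    g = li σ p u * wl σ P p U n₀ l * t * li σ p u'}

variable {σ P p U n₀} [Finite E] [Finite G] [Fact p.Prime] (hc : Cov σ p) (h : Opp P p U n₀)

include hc h

theorem one_mem_KK : (1 : E) ∈ KK σ P p U n₀ :=
  ⟨1, one_mem _, [], red_nil, 1, one_mem _, 1, one_mem _, by simp [li_one hc, wl]⟩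

theorem li_mul_KK {u : G} (hu : u ∈ U) {g : E} (hg : g ∈ KK σ P p U n₀) :
    li σ p u * g ∈ KK σ P p U n₀ := by
  obtain ⟨u₁, hu₁, l, hl, t, ht, u', hu', rfl⟩ := hg
  exact ⟨u * u₁, mul_mem hu hu₁, l, hl, t, ht, u', hu', by rw [← mul_li hc h hu hu₁]; group⟩

theorem TT_mul_KK {τ : E} (hτ : τ ∈ TT σ P p U n₀) {g : E} (hg : g ∈ KK σ P p U n₀) :
    τ * g ∈ KK σ P p U n₀ := by
  obtain ⟨u₁, hu₁, l, hl, t, ht, u', hu', rfl⟩ := hg
  have hτT : σ τ ∈ P.B ⊓ P.N := TT_le hc h hτ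
  refine ⟨σ τ * u₁ * (σ τ)⁻¹, h.split.normal _ hτT.1 _ hu₁, l, hl,
    ((wl σ P p U n₀ l)⁻¹ * τ * wl σ P p U n₀ l) * t, mul_mem (wl_conj_TT hc h hl.1 hτ) ht,
    u', hu', ?_⟩
  rw [← conj_li_U hc h hu₁ τ]
  group

/-- A root element passes a word that lengthens the reflection. -/
theorem pass {s : G} (hs : s ∈ P.S) {l : List G} (hl : IsWord P l)
    (hup : len P l.prod < len P (s * l.prod)) {x : G} (hx : x ∈ X U (s * n₀)) :
    ∃ x' ∈ U, li σ p x * wl σ P p U n₀ l = wl σ P p U n₀ l * li σ p x' := by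
  set w := wl σ P p U n₀ l
  have he : Eqv P l.prod (σ w) := wl_eqv hc h hl
  have hwN := he.mem_N hl.prod_mem
  have hx' : (σ w)⁻¹ * x * σ w ∈ U := by
    have h1 := conj_X_mem h (inv_mem hwN) hs (by
      rw [len_inv hwN, len_mul_inv hs hwN, ← len_congr he, ← len_congr (he.mul_left s)]
      exact hup) hx
    rwa [inv_inv] at h1
  refine ⟨_, hx', ?_⟩
  have := conj_li_U hc h hx' w
  rw [show σ w * ((σ w)⁻¹ * x * σ w) * (σ w)⁻¹ = x by group] at this
  rw [← this]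
  group

theorem KK_mul_li {u : G} (hu : u ∈ U) {g : E} (hg : g ∈ KK σ P p U n₀) :
    g * li σ p u ∈ KK σ P p U n₀ := by
  obtain ⟨u₁, hu₁, l, hl, t, ht, u', hu', rfl⟩ := hg
  exact ⟨u₁, hu₁, l, hl, t, ht, u' * u, mul_mem hu' hu, by rw [← mul_li hc h hu' hu]; group⟩

theorem nn_mul_KK {s : G} (hs : s ∈ P.S) {g : E} (hg : g ∈ KK σ P p U n₀) :
    nn σ P p U n₀ s * g ∈ KK σ P p U n₀ := by
  obtain ⟨u, hu, l, hl, t, ht, u', hu', rfl⟩ := hg
  set n := nn σ P p U n₀ s with hn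
  obtain ⟨hn1, hn2⟩ := nn_spec hc h hs
  have hnN := σ_nn_mem hc h hs
  obtain ⟨x, hx, hq⟩ := exists_X h hs (inv_mem hu)
  set q := u * x with hq'
  have hxU := X_U hc h hx
  have hqU : q ∈ U := mul_mem hu hxU
  have hq1 : s⁻¹ * q * s ∈ P.B := by
    have := inv_mem hq
    rwa [show (s⁻¹ * (x⁻¹ * u⁻¹) * s)⁻¹ = s⁻¹ * q * s by rw [hq']; group] at this
  have hconj : σ n * q * (σ n)⁻¹ ∈ U := by
    have e : Eqv P s (σ n)⁻¹ := (eqv_inv_self hs).trans (eqv_inv (s_mem_N hs) hn2)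
    have hB : σ n * q * (σ n)⁻¹ ∈ P.B := by
      rw [show σ n * q * (σ n)⁻¹ = (s⁻¹ * (σ n)⁻¹)⁻¹ * (s⁻¹ * q * s) * (s⁻¹ * (σ n)⁻¹) by group]
      exact mul_mem (mul_mem (inv_mem e.1) hq1) e.1
    have := h.split.conj_U (g := (σ n)⁻¹) hqU (by rwa [inv_inv])
    rwa [inv_inv] at this
  have hux : li σ p u = li σ p q * li σ p x⁻¹ := by
    rw [mul_li hc h hqU (inv_mem hxU), hq', mul_inv_cancel_right]
  have hxi : x⁻¹ ∈ X U (s * n₀) := inv_mem hx
  suffices hgoal : n * (li σ p x⁻¹ * wl σ P p U n₀ l * t) ∈ KK σ P p U n₀ by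
    have := li_mul_KK hc h hconj (KK_mul_li hc h hu' hgoal)
    rw [← conj_li_U hc h hqU n] at this
    rw [hux]
    convert this using 1
    group
  rcases len_up_or_down hs hl.1.prod_mem with hup | hdown
  · obtain ⟨x', hx', e⟩ := pass hc h hs hl.1 (by omega) hxi
    have ht' : σ t⁻¹ ∈ P.B ⊓ P.N := TT_le hc h (inv_mem ht)
    refine ⟨1, one_mem _, s :: l, ⟨hl.1.cons hs, ?_⟩, t, ht,
      σ t⁻¹ * x' * (σ t⁻¹)⁻¹, h.split.normal _ ht'.1 _ hx', ?_⟩
    · rw [List.prod_cons, hup, hl.2, List.length_cons]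
    · rw [← conj_li_U hc h hx' t⁻¹, li_one hc, e, wl_cons hc h, ← hn]
      group
  · obtain ⟨l', hl', he', τ₁, hτ₁, e₁⟩ := wl_down hc h hs hl (by rw [← hl.2]; omega)
    have hup' : len P l'.prod < len P (s * l'.prod) := by
      rw [len_congr he', len_congr (he'.mul_left s),
        len_congr (eqv_twice hs hl.1.prod_mem)]
      omega
    rw [show n * (li σ p x⁻¹ * wl σ P p U n₀ l * t) =
      (n * li σ p x⁻¹ * n⁻¹) * wl σ P p U n₀ l' * (τ₁ * t) by
        rw [← hn] at e₁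
        rw [mul_assoc _ (wl σ P p U n₀ l') (τ₁ * t), ← mul_assoc (wl σ P p U n₀ l'), ← e₁]
        group]
    have hy : n * li σ p x⁻¹ * n⁻¹ ∈ Ms σ p U n₀ s := conj_mem_Ms hc h hs hn2 hxi
    have hyL : σ (n * li σ p x⁻¹ * n⁻¹) ∈ Lv U n₀ s := by
      rw [← map_Ms hc h hs]; exact ⟨_, hy, rfl⟩
    set y := n * li σ p x⁻¹ * n⁻¹
    have hT2 : τ₁ * t ∈ TT σ P p U n₀ := mul_mem hτ₁ ht
    rcases Lv_decomp h hs hn2 hyL with ⟨x₁, hx₁, t₁, ht₁, e⟩ | ⟨x₁, hx₁, x₂, hx₂, t₁, ht₁, e⟩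
    · have hτ₂ : (li σ p x₁)⁻¹ * y ∈ tau σ P p U n₀ s := by
        refine Subgroup.mem_inf.2 ⟨mul_mem (inv_mem (li_mem_Ms hc h hx₁)) hy, ?_⟩
        show σ (_ * _) ∈ P.B ⊓ P.N
        rwa [map_mul, map_inv, σ_li hc h (X_U hc h hx₁), e, inv_mul_cancel_left]
      have := li_mul_KK hc h (X_U hc h hx₁) (TT_mul_KK hc h (tau_le hc h hs hτ₂)
        (⟨1, one_mem _, l', hl', τ₁ * t, hT2, 1, one_mem _, rfl⟩ : _ ∈ KK σ P p U n₀))
      convert this using 1
      rw [li_one hc]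
      group
    · have hτ₂ : (li σ p x₁ * n * li σ p x₂)⁻¹ * y ∈ tau σ P p U n₀ s := by
        refine Subgroup.mem_inf.2 ⟨mul_mem (inv_mem (mul_mem (mul_mem (li_mem_Ms hc h hx₁) hn1)
          (li_mem_Ms hc h hx₂))) hy, ?_⟩
        show σ (_ * _) ∈ P.B ⊓ P.N
        rwa [map_mul, map_inv, map_mul, map_mul, σ_li hc h (X_U hc h hx₁),
          σ_li hc h (X_U hc h hx₂), e, ← hn, inv_mul_cancel_left]
      set τ₂ := (li σ p x₁ * n * li σ p x₂)⁻¹ * y with hτ₂'
      set τ₃ := (wl σ P p U n₀ l')⁻¹ * τ₂ * wl σ P p U n₀ l' with hτ₃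
      have hT3 : τ₃ * (τ₁ * t) ∈ TT σ P p U n₀ :=
        mul_mem (wl_conj_TT hc h hl'.1 (tau_le hc h hs hτ₂)) hT2
      obtain ⟨x', hx', e'⟩ := pass hc h hs hl'.1 hup' hx₂
      have hT3' : σ (τ₃ * (τ₁ * t))⁻¹ ∈ P.B ⊓ P.N := TT_le hc h (inv_mem hT3)
      refine ⟨x₁, X_U hc h hx₁, s :: l', ⟨hl'.1.cons hs, ?_⟩, τ₃ * (τ₁ * t), hT3,
        σ (τ₃ * (τ₁ * t))⁻¹ * x' * (σ (τ₃ * (τ₁ * t))⁻¹)⁻¹,
        h.split.normal _ hT3'.1 _ hx', ?_⟩
      · have h1 : len P (s * l'.prod) = len P l'.prod + 1 := by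
          rcases len_up_or_down hs hl'.1.prod_mem with a | a <;> omega
        rw [List.prod_cons, h1, hl'.2, List.length_cons]
      · rw [← conj_li_U hc h hx' (τ₃ * (τ₁ * t))⁻¹, wl_cons hc h, ← hn]
        calc y * wl σ P p U n₀ l' * (τ₁ * t)
            = li σ p x₁ * n * (li σ p x₂ * wl σ P p U n₀ l') * (τ₃ * (τ₁ * t)) := by
              rw [hτ₃, hτ₂']; group
          _ = _ := by rw [e']; group

theorem Ms_mul_KK {s : G} (hs : s ∈ P.S) {m : E} (hm : m ∈ Ms σ p U n₀ s) {g : E}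
    (hg : g ∈ KK σ P p U n₀) : m * g ∈ KK σ P p U n₀ := by
  set n := nn σ P p U n₀ s with hn
  obtain ⟨hn1, hn2⟩ := nn_spec hc h hs
  have hninv : ∀ g ∈ KK σ P p U n₀, n⁻¹ * g ∈ KK σ P p U n₀ := fun g hg => by
    rw [show n⁻¹ * g = n * ((n * n)⁻¹ * g) by group]
    exact nn_mul_KK hc h hs (TT_mul_KK hc h (inv_mem (tau_le hc h hs (nn_sq hc h hs))) hg)
  have hgen : ∀ m' ∈ ((fun x => li σ p x) '' (X U (s * n₀) : Set G) ∪
      {y | ∃ e, σ e = s ∧ ∃ x ∈ X U (s * n₀), y = e * li σ p x * e⁻¹}),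
      ∀ g ∈ KK σ P p U n₀, m' * g ∈ KK σ P p U n₀ ∧ m'⁻¹ * g ∈ KK σ P p U n₀ := by
    rintro m' (⟨x, hx, rfl⟩ | ⟨e, he, x, hx, rfl⟩) g hg
    · refine ⟨li_mul_KK hc h (X_U hc h hx) hg, ?_⟩
      rw [inv_li hc h (X_U hc h hx)]
      exact li_mul_KK hc h (inv_mem (X_U hc h hx)) hg
    · set x' := σ (n⁻¹ * e) * x * (σ (n⁻¹ * e))⁻¹ with hx'
      have hH : σ (n⁻¹ * e) ∈ P.B ⊓ P.N := by
        rw [map_mul, map_inv, he]
        exact hn2.symm
      have hx'X : x' ∈ X U (s * n₀) := torus_X h hH (mul_mem (s_mem_N hs) h.mem) hx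
      have he' : e * li σ p x * e⁻¹ = n * li σ p x' * n⁻¹ := by
        rw [hx', ← conj_li_U hc h (X_U hc h hx)]; group
      rw [he', show (n * li σ p x' * n⁻¹)⁻¹ = n * (li σ p x')⁻¹ * n⁻¹ by group,
        inv_li hc h (X_U hc h hx'X), mul_assoc, mul_assoc, mul_assoc, mul_assoc]
      exact ⟨nn_mul_KK hc h hs (li_mul_KK hc h (X_U hc h hx'X) (hninv g hg)),
        nn_mul_KK hc h hs (li_mul_KK hc h (inv_mem (X_U hc h hx'X)) (hninv g hg))⟩
  induction hm using Subgroup.closure_induction_left generalizing g with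
  | one => simpa using hg
  | mul_left a ha b _ ih => rw [mul_assoc]; exact (hgen a ha _ (ih hg)).1
  | inv_mul_cancel a ha b _ ih => rw [mul_assoc]; exact (hgen a ha _ (ih hg)).2

theorem MM_le_KK {m : E} (hm : m ∈ MM σ P p U n₀) : m ∈ KK σ P p U n₀ := by
  suffices hh : ∀ g ∈ KK σ P p U n₀, m * g ∈ KK σ P p U n₀ by
    simpa using hh 1 (one_mem_KK hc h)
  induction hm using Subgroup.iSup_induction' with
  | hp s m hm => exact fun g hg => Ms_mul_KK hc h s.2 hm hg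
  | h1 => simp
  | hmul a b _ _ ha hb => intro g hg; rw [mul_assoc]; exact ha _ (hb g hg)

/-- The generated group meets the torus in the product of the lifted tori. -/
theorem MM_inter_TH {m : E} (hm : m ∈ MM σ P p U n₀) (hT : σ m ∈ P.B ⊓ P.N) :
    m ∈ TT σ P p U n₀ := by
  obtain ⟨u, hu, l, hl, t, ht, u', hu', rfl⟩ := MM_le_KK hc h hm
  have htT : σ t ∈ P.B ⊓ P.N := TT_le hc h ht
  have e : Eqv P l.prod (σ (wl σ P p U n₀ l)) := wl_eqv hc h hl.1
  rw [map_mul, map_mul, map_mul, σ_li hc h hu, σ_li hc h hu'] at hT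
  set w := σ (wl σ P p U n₀ l) with hw
  have hwB : w ∈ P.B := by
    rw [show w = u⁻¹ * (u * w * σ t * u') * u'⁻¹ * (σ t)⁻¹ by group]
    exact mul_mem (mul_mem (mul_mem (inv_mem (h.split.le hu)) hT.1) (inv_mem (h.split.le hu')))
      (inv_mem htT.1)
  have hlen := len_congr e
  rw [(len_eq_zero_iff (e.mem_N hl.1.prod_mem)).2 hwB, hl.2] at hlen
  obtain rfl : l = [] := List.length_eq_zero_iff.1 hlen
  have hwl : wl σ P p U n₀ ([] : List G) = 1 := by simp [wl]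
  rw [hw, hwl, map_one, mul_one] at hT
  set v := u * (σ t * u' * (σ t)⁻¹) with hv
  have hvU : v ∈ U := mul_mem hu (h.split.normal _ htT.1 _ hu')
  have hvT : v ∈ P.B ⊓ P.N := by
    rw [show v = (u * σ t * u') * (σ t)⁻¹ by rw [hv]; group]
    exact mul_mem hT (inv_mem htT)
  obtain ⟨k, hk⟩ := U_pow hc h hvU
  have hv1 := h.split.torus v hvT k hk
  rw [hwl, mul_one]
  rw [show li σ p u * t * li σ p u' = li σ p u * (t * li σ p u' * t⁻¹) * t by group,
    conj_li_U hc h hu', mul_li hc h hu (h.split.normal _ htT.1 _ hu'), ← hv, hv1, li_one hc, one_mul]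
  exact ht

/-- The image of the generated group contains the unipotent part. -/
theorem U_le_map : U ≤ (MM σ P p U n₀).map σ := by
  set V := (MM σ P p U n₀).map σ
  have hn : ∀ s ∈ P.S, ∀ v ∈ V, σ (nn σ P p U n₀ s) * v * (σ (nn σ P p U n₀ s))⁻¹ ∈ V := by
    intro s hs v hv
    have : σ (nn σ P p U n₀ s) ∈ V :=
      ⟨_, le_iSup (fun s : P.S => Ms σ p U n₀ s) ⟨s, hs⟩ (nn_spec hc h hs).1, rfl⟩
    exact mul_mem (mul_mem this hv) (inv_mem this)
  have hX : ∀ s ∈ P.S, X U (s * n₀) ≤ V := fun s hs x hx =>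
    ⟨_, le_iSup (fun s : P.S => Ms σ p U n₀ s) ⟨s, hs⟩ (li_mem_Ms hc h hx),
      σ_li hc h (X_U hc h hx)⟩
  have key : ∀ l, Red P l → ∀ g ∈ cell P (σ (wl σ P p U n₀ l)),
      ∃ v ∈ V, v ∈ U ∧ (σ (wl σ P p U n₀ l) * n₀)⁻¹ * v * (σ (wl σ P p U n₀ l) * n₀) ∈ P.B ∧
        (v * σ (wl σ P p U n₀ l))⁻¹ * g ∈ P.B := by
    intro l
    induction l with
    | nil =>
      intro _ g hg
      refine ⟨1, one_mem _, one_mem _, by simp, ?_⟩
      simp only [wl, List.map_nil, List.prod_nil, map_one, mul_one, inv_one, one_mul] at hg ⊢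
      exact cell_one_subset hg
    | cons s l ih =>
      intro hl g hg
      have hs : s ∈ P.S := hl.1 s (by simp)
      have hl' := hl.tail
      obtain ⟨-, hn2⟩ := nn_spec hc h hs
      set a := σ (nn σ P p U n₀ s) with ha
      set w := σ (wl σ P p U n₀ l) with hw
      have haN : a ∈ P.N := σ_nn_mem hc h hs
      have ew : Eqv P l.prod w := wl_eqv hc h hl'.1
      have hwN : w ∈ P.N := ew.mem_N hl'.1.prod_mem
      have hla : len P a = 1 := by rw [← len_congr hn2, len_s hs]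
      have hlw : len P w = l.length := by rw [← len_congr ew, hl'.2]
      have hlaw : len P (a * w) = len P a + len P w := by
        have e1 : Eqv P (s :: l).prod (a * w) := by
          rw [List.prod_cons]
          exact (hn2.mul_right hl'.1.prod_mem).trans (ew.mul_left a)
        rw [← len_congr e1, hl.2, hla, hlw, List.length_cons]; omega
      rw [wl_cons hc h, map_mul, ← ha, ← hw] at hg ⊢
      obtain ⟨b, hb, b', hb', rfl⟩ := mem_cell.1 hg
      obtain ⟨u₀, hu₀, t₀, ht₀, rfl⟩ := h.split.decomp b hb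
      obtain ⟨x, hx, hxq⟩ := exists_X h hs hu₀
      have hqB : a⁻¹ * (x⁻¹ * u₀) * a ∈ P.B := by
        rw [show a⁻¹ * (x⁻¹ * u₀) * a = (s⁻¹ * a)⁻¹ * (s⁻¹ * (x⁻¹ * u₀) * s) * (s⁻¹ * a) by group]
        exact mul_mem (mul_mem (inv_mem hn2.1) hxq) hn2.1
      obtain ⟨v, hvV, hvU, hvB, hve⟩ := ih hl'
        ((a⁻¹ * (x⁻¹ * u₀) * a) * (a⁻¹ * t₀ * a) * w)
        (mul_mem_cell (mul_mem hqB (conj_mem_H' haN ht₀).1) (mem_cell_self w))
      have hsum := len_left h (mul_mem haN hwN)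
      have hwn := len_left h hwN
      have hN2 := mul_mem (mul_mem haN hwN) h.mem
      -- `v` fixes `a⁻¹`
      have h1 : a * v * a⁻¹ ∈ P.B := by
        have := conv h (inv_mem haN) hN2 (g := v) (by
          rw [show a⁻¹ * (a * w * n₀) = w * n₀ by group, len_inv haN]
          omega) (h.split.le hvU) (by
            rwa [show a⁻¹ * (a * w * n₀) = w * n₀ by group])
        rwa [inv_inv] at this
      have h1U : a * v * a⁻¹ ∈ U := by
        have := h.split.conj_U (g := a⁻¹) hvU (by rwa [inv_inv])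
        rwa [inv_inv] at this
      have h2 : (a * w * n₀)⁻¹ * (a * v * a⁻¹) * (a * w * n₀) ∈ P.B := by
        rwa [show (a * w * n₀)⁻¹ * (a * v * a⁻¹) * (a * w * n₀) = (w * n₀)⁻¹ * v * (w * n₀) by group]
      -- the root element fixes the chamber
      have h3 : (a * w * n₀)⁻¹ * x * (a * w * n₀) ∈ P.B := by
        obtain ⟨hxU, hxB⟩ := (mem_X h).1 hx
        have hbN : n₀⁻¹ * w⁻¹ * (a⁻¹ * s) * n₀ ∈ P.N :=
          mul_mem (mul_mem (mul_mem (inv_mem h.mem) (inv_mem hwN))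
            (mul_mem (inv_mem haN) (s_mem_N hs))) h.mem
        have hlb : len P (n₀⁻¹ * w⁻¹ * (a⁻¹ * s) * n₀) = l.length := by
          have e0 : Eqv P 1 (a⁻¹ * s) := eqv_one_iff.2 hn2.symm
          have e : Eqv P n₀⁻¹ n₀ := (((long h).eqv subset_rfl (mem_NJ_S h h.mem)
            (mem_NJ_S h (inv_mem h.mem)) (le_of_eq (len_inv h.mem).symm))).symm
          rw [← len_congr (((e0.mul_left (n₀⁻¹ * w⁻¹))).mul_right h.mem), mul_one,
            len_congr ((e.mul_right (inv_mem hwN)).mul_right h.mem), mul_assoc]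
          have h4 := len_right h (mul_mem (inv_mem hwN) h.mem)
          have h5 := len_left h (inv_mem hwN)
          rw [len_inv hwN] at h5
          omega
        have e : a * w * n₀ * (n₀⁻¹ * w⁻¹ * (a⁻¹ * s) * n₀) = s * n₀ := by group
        refine conv h hN2 hbN ?_ (h.split.le hxU) (by rwa [e])
        rw [e, hlb]
        have := len_s_n₀ h hs
        omega
      refine ⟨x * (a * v * a⁻¹), mul_mem (hX s hs hx) (hn s hs v hvV),
        mul_mem (X_U hc h hx) h1U, ?_, ?_⟩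
      · rw [show (a * w * n₀)⁻¹ * (x * (a * v * a⁻¹)) * (a * w * n₀) =
          ((a * w * n₀)⁻¹ * x * (a * w * n₀)) * ((a * w * n₀)⁻¹ * (a * v * a⁻¹) * (a * w * n₀)) by
            group]
        exact mul_mem h3 h2
      · rw [show (x * (a * v * a⁻¹) * (a * w))⁻¹ * (u₀ * t₀ * (a * w) * b') =
          ((v * w)⁻¹ * ((a⁻¹ * (x⁻¹ * u₀) * a) * (a⁻¹ * t₀ * a) * w)) * b' by group]
        exact mul_mem hve hb'
  intro u hu
  obtain ⟨l, hl, he⟩ := exists_red (P := P) h.mem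
  have e : Eqv P n₀ (σ (wl σ P p U n₀ l)) := he.symm.trans (wl_eqv hc h hl.1)
  obtain ⟨v, hv, hvU, -, hve⟩ := key l hl (u * n₀)
    (by rw [← e.cell_eq]; exact mul_mem_cell (h.split.le hu) (mem_cell_self n₀))
  have huv : (v⁻¹ * u : G) = 1 := by
    refine h.opp _ (mul_mem (inv_mem hvU) hu) ?_
    rw [show n₀⁻¹ * (v⁻¹ * u) * n₀ =
      (n₀⁻¹ * σ (wl σ P p U n₀ l)) * ((v * σ (wl σ P p U n₀ l))⁻¹ * (u * n₀)) by group]
    exact mul_mem e.1 hve
  rwa [inv_mul_eq_one.1 huv] at hv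

theorem conjT_MM {t : E} (ht : t ∈ TH σ P) {m : E} (hm : m ∈ MM σ P p U n₀) :
    t * m * t⁻¹ ∈ MM σ P p U n₀ := by
  induction hm using Subgroup.iSup_induction' with
  | hp s m hm => exact le_iSup (fun s : P.S => Ms σ p U n₀ s) s (conjT_Ms hc h s.2 ht hm)
  | h1 => simp
  | hmul a b _ _ ha hb =>
    rw [show t * (a * b) * t⁻¹ = (t * a * t⁻¹) * (t * b * t⁻¹) by group]; exact mul_mem ha hb

theorem map_MM_normal : ((MM σ P p U n₀).map σ).Normal := by
  set V := (MM σ P p U n₀).map σ with hV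
  rw [← Subgroup.normalizer_eq_top_iff, eq_top_iff, ← P.sup_eq_top]
  have hTN : P.B ⊓ P.N ≤ Subgroup.normalizer (V : Set G) := by
    intro t ht
    obtain ⟨e, rfl⟩ := hc.surj t
    have key : ∀ e : E, σ e ∈ P.B ⊓ P.N → ∀ v ∈ V, σ e * v * (σ e)⁻¹ ∈ V := by
      rintro e he _ ⟨m, hm, rfl⟩
      exact ⟨_, conjT_MM hc h he hm, by simp⟩
    rw [Subgroup.mem_normalizer_iff]
    refine fun v => ⟨key e ht v, fun hv => ?_⟩
    have := key e⁻¹ (by rw [map_inv]; exact inv_mem ht) _ hv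
    rwa [map_inv, inv_inv, ← mul_assoc, ← mul_assoc, inv_mul_cancel, one_mul,
      inv_mul_cancel_right] at this
  have hle : V ≤ Subgroup.normalizer (V : Set G) := Subgroup.le_normalizer
  refine sup_le (fun b hb => ?_) ?_
  · obtain ⟨u, hu, t, ht, rfl⟩ := h.split.decomp b hb
    exact mul_mem (hle (U_le_map hc h hu)) (hTN ht)
  · rw [← P.closure_sup]
    refine sup_le ((Subgroup.closure_le _).2 fun s hs => ?_) hTN
    obtain ⟨h1, h2⟩ := nn_spec hc h hs
    rw [SetLike.mem_coe, show s = σ (nn σ P p U n₀ s) * (s⁻¹ * σ (nn σ P p U n₀ s))⁻¹ by group]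
    exact mul_mem (hle ⟨_, le_iSup (fun s : P.S => Ms σ p U n₀ s) ⟨s, hs⟩ h1, rfl⟩)
      (inv_mem (hTN h2))

theorem MM_eq_top (hE : commutator E = ⊤)
    (hG : ∀ N : Subgroup G, N.Normal → U ≤ N → N = ⊤) : MM σ P p U n₀ = ⊤ := by
  have hV := hG _ (map_MM_normal hc h) (U_le_map hc h)
  rw [eq_top_iff, ← hE, commutator_def, Subgroup.commutator_le]
  intro a _ b _
  obtain ⟨m, hm, ea⟩ := (hV ▸ Subgroup.mem_top (σ a) : σ a ∈ (MM σ P p U n₀).map σ)
  obtain ⟨m', hm', eb⟩ := (hV ▸ Subgroup.mem_top (σ b) : σ b ∈ (MM σ P p U n₀).map σ)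
  have hz : m⁻¹ * a ∈ Subgroup.center E := hc.cen (by simp [MonoidHom.mem_ker, ea])
  have hz' : m'⁻¹ * b ∈ Subgroup.center E := hc.cen (by simp [MonoidHom.mem_ker, eb])
  have : ⁅a, b⁆ = ⁅m, m'⁆ := by
    have ha' : a = m * (m⁻¹ * a) := by group
    have hb' : b = m' * (m'⁻¹ * b) := by group
    rw [ha', hb', commutatorElement_def, commutatorElement_def]
    set z := m⁻¹ * a
    set z' := m'⁻¹ * b
    calc m * z * (m' * z') * (m * z)⁻¹ * (m' * z')⁻¹
        = m * (z * (m' * z')) * z⁻¹ * m⁻¹ * (z'⁻¹ * m'⁻¹) := by group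
      _ = m * ((m' * z') * z) * z⁻¹ * m⁻¹ * (z'⁻¹ * m'⁻¹) := by
          rw [← Subgroup.mem_center_iff.1 hz (m' * z')]
      _ = m * m' * (z' * m⁻¹) * z'⁻¹ * m'⁻¹ := by group
      _ = m * m' * (m⁻¹ * z') * z'⁻¹ * m'⁻¹ := by rw [← Subgroup.mem_center_iff.1 hz' m⁻¹]
      _ = m * m' * m⁻¹ * m'⁻¹ := by group
  rw [this, commutatorElement_def]
  exact mul_mem (mul_mem (mul_mem hm hm') (inv_mem hm)) (inv_mem hm')

omit hc h in
theorem card_iSup_le {E ι : Type*} [Group E] [Finite E] (C : Subgroup E) (f : ι → Subgroup E)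
    (hle : ∀ i, f i ≤ C) (hn : ∀ i, ∀ t ∈ C, ∀ m ∈ f i, t * m * t⁻¹ ∈ f i) (F : Finset ι) :
    Nat.card ↥(F.sup f) ≤ ∏ i ∈ F, Nat.card (f i) := by
  classical
  induction F using Finset.induction_on with
  | empty => simp
  | insert a F ha ih =>
    rw [Finset.sup_insert, Finset.prod_insert ha]
    refine le_trans ?_ (Nat.mul_le_mul_left _ ih)
    set Y := F.sup f
    have hY : Y ≤ Subgroup.normalizer (f a : Set E) := by
      refine le_trans (Finset.sup_le fun i _ => hle i) fun t ht => ?_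
      rw [Subgroup.mem_normalizer_iff]
      refine fun m => ⟨hn a t ht m, fun hm => ?_⟩
      have := hn a t⁻¹ (inv_mem ht) _ hm
      simpa [mul_assoc] using this
    have hset : ((f a ⊔ Y : Subgroup E) : Set E) = (f a : Set E) * (Y : Set E) :=
      Subgroup.coe_mul_of_right_le_normalizer_left (f a) Y hY
    calc Nat.card ↥(f a ⊔ Y) = Nat.card ((f a : Set E) * (Y : Set E) : Set E) := by
          rw [← hset]; rfl
      _ ≤ Nat.card (f a : Set E) * Nat.card (Y : Set E) := Set.natCard_mul_le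
      _ = _ := rfl

/-- The kernel times the torus is at most the product of the lifted tori. -/
theorem card_ker_mul_le (hE : commutator E = ⊤) (hG : ∀ N : Subgroup G, N.Normal → U ≤ N → N = ⊤)
    [Fintype P.S] :
    Nat.card σ.ker * Nat.card ↥(P.B ⊓ P.N) ≤ ∏ s : P.S, Nat.card (tau σ P p U n₀ s) := by
  have hTT : TH σ P ≤ TT σ P p U n₀ := fun t ht =>
    MM_inter_TH hc h (by rw [MM_eq_top hc h hE hG]; exact Subgroup.mem_top t) ht
  have hcard : Nat.card σ.ker * Nat.card ↥(P.B ⊓ P.N) = Nat.card (TH σ P) := by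
    let τ : ↥(TH σ P) →* ↥(P.B ⊓ P.N) := (σ.comp (TH σ P).subtype).codRestrict _ fun x => x.2
    have hτ : Function.Surjective τ := fun y => by
      obtain ⟨x, hx⟩ := hc.surj y.1
      exact ⟨⟨x, show σ x ∈ P.B ⊓ P.N by rw [hx]; exact y.2⟩, Subtype.ext hx⟩
    have hk : Nat.card τ.ker = Nat.card σ.ker := Nat.card_congr
      { toFun := fun x => ⟨x.1.1, congrArg Subtype.val x.2⟩
        invFun := fun x => ⟨⟨x.1, show σ x.1 ∈ P.B ⊓ P.N by rw [MonoidHom.mem_ker.1 x.2]; exact one_mem _⟩,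
          Subtype.ext x.2⟩
        left_inv := fun _ => rfl
        right_inv := fun _ => rfl }
    rw [Subgroup.card_eq_card_quotient_mul_card_subgroup τ.ker, hk,
      Nat.card_congr (QuotientGroup.quotientKerEquivOfSurjective τ hτ).toEquiv, mul_comm]
  rw [hcard]
  refine le_trans (Nat.le_of_dvd Nat.card_pos (Subgroup.card_dvd_of_le hTT)) ?_
  have e : TT σ P p U n₀ = (Finset.univ : Finset P.S).sup fun s : P.S => tau σ P p U n₀ s :=
    (Finset.sup_univ_eq_iSup _).symm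
  rw [e]
  exact card_iSup_le (TH σ P) _ (fun _ => inf_le_right) (fun s t ht m hm => conjT_tau hc h s.2 ht hm) _

end CfsgLib.Known.SplitLift
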