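import Cfsg.Agent.Lib.Known.SplitLift.Assembly
import Cfsg.Agent.Lib.SplitBN.Basic

/-!
# Rank one data on normal subgroups of index prime to `p`
-/

set_option autoImplicit false
set_option linter.unusedSectionVars false

namespace CfsgLib.Known.SplitLift

open Cfsg.Agent.S2426 (root)
open CfsgLib.Chev.BN CfsgLib.BNSteinberg

universe u w

variable {G : Type u} [Group G] [Finite G] {P : Cfsg.BNPair G} {p : ℕ} {U : Subgroup G} {n₀ : G}
  (h : Opp P p U n₀)

include h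

/-- Root groups only depend on the class of the element. -/
theorem X_congr {g g' : G} (e : Eqv P g g') : X U g = X U g' := by
  ext x
  rw [mem_X h, mem_X h]
  refine and_congr_right fun _ => ?_
  have hiff : (g⁻¹ * g')⁻¹ * (g⁻¹ * x * g) * (g⁻¹ * g') = g'⁻¹ * x * g' := by group
  refine ⟨fun hx => hiff ▸ mul_mem (mul_mem (inv_mem e.1) hx) e.1, fun hx => ?_⟩
  rw [show g⁻¹ * x * g = (g⁻¹ * g') * (g'⁻¹ * x * g') * (g⁻¹ * g')⁻¹ by group]
  exact mul_mem (mul_mem e.1 hx) (inv_mem e.1)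

variable (M : Subgroup G) [M.Normal] (hUM : U ≤ M)

include hUM

/-- The opposite element of a normal subgroup. -/
theorem exists_opp_normal : ∃ r : M, Eqv P n₀ (r : G) ∧
    Opp (SplitBN.normalPair M h.split hUM) p (U.subgroupOf M) r := by
  obtain ⟨r, -, he⟩ := SplitBN.exists_word_rep M h.split hUM h.mem
  refine ⟨r, he, SplitBN.split_normal M h.split hUM, he.mem_N h.mem, fun u hu hB => ?_⟩
  refine Subtype.ext (h.opp _ hu ?_)
  have hh : (r : G)⁻¹ * n₀ ∈ P.B := he.symm.1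
  rw [show n₀⁻¹ * (u : G) * n₀ = ((r : G)⁻¹ * n₀)⁻¹ * ((r : G)⁻¹ * u * r) * ((r : G)⁻¹ * n₀) by group]
  exact mul_mem (mul_mem (inv_mem hh) hB) hh

theorem mem_X_normal {r₀ : M} (h' : Opp (SplitBN.normalPair M h.split hUM) p (U.subgroupOf M) r₀)
    {g x : M} : x ∈ X (U.subgroupOf M) g ↔ (x : G) ∈ X U (g : G) := by
  rw [mem_X h', mem_X h]
  exact Iff.rfl

/-- Rank one data descend to a normal subgroup. -/
theorem RankOne.normal {F : Type w} [Field F] {r₀ : M}
    (h' : Opp (SplitBN.normalPair M h.split hUM) p (U.subgroupOf M) r₀) (he₀ : Eqv P n₀ (r₀ : G))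
    {s : G} (hs : s ∈ P.S) {r : M} (her : Eqv P s (r : G))
    {φ : Matrix.SpecialLinearGroup (Fin 2) F →* G} (hφ : RankOne F U n₀ s φ)
    (hmem : ∀ g, φ g ∈ M) : RankOne F (U.subgroupOf M) r₀ r (φ.codRestrict M hmem) := by
  have hrN : (r : G) ∈ P.N := her.mem_N (s_mem_N hs)
  have hXeq : X U ((r * r₀ : M) : G) = X U (s * n₀) := (X_congr h (by
    rw [Subgroup.coe_mul]
    exact (her.mul_right h.mem).trans (he₀.mul_left _))).symm
  have hX : ∀ x : M, x ∈ X (U.subgroupOf M) (r * r₀) ↔ (x : G) ∈ X U (s * n₀) := fun x => by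
    rw [mem_X_normal h M hUM h', hXeq]
  have hT : s⁻¹ * (r : G) ∈ P.B ⊓ P.N := her
  constructor
  · exact fun c => (hX _).2 (hφ.up c)
  · intro x hx
    obtain ⟨c, hc⟩ := hφ.onto _ ((hX x).1 hx)
    exact ⟨c, Subtype.ext hc⟩
  · intro c
    obtain ⟨x, hx, e⟩ := hφ.down c
    have hxM : x ∈ M := hUM ((mem_X h).1 hx).1
    have hx' := torus_X h (inv_mem hT) (mul_mem (s_mem_N hs) h.mem) hx
    have hyM : (s⁻¹ * (r : G))⁻¹ * x * ((s⁻¹ * (r : G))⁻¹)⁻¹ ∈ M := hUM ((mem_X h).1 hx').1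
    refine ⟨⟨_, hyM⟩, (hX _).2 hx', Subtype.ext ?_⟩
    show φ (root (false, c)) = (r : G) * _ * (r : G)⁻¹
    rw [e]; group
  · intro x hx
    have hx' := torus_X h hT (mul_mem (s_mem_N hs) h.mem) ((hX x).1 hx)
    obtain ⟨c, hc⟩ := hφ.onto' _ hx'
    refine ⟨c, Subtype.ext ?_⟩
    show φ (root (false, c)) = (r : G) * x * (r : G)⁻¹
    rw [hc]; group
  · exact fun g hg => hφ.faithful g (congrArg Subtype.val hg)

end CfsgLib.Known.SplitLift
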