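import Cfsg.Agent.Lib.Known.SplitLift.Main
import Cfsg.Agent.Lib.Known.SL2Multiplier
import Cfsg.Agent.Lib.Tails.SLNine
import Cfsg.Agent.S2426

/-!
# Rank one groups covered by `SL₂`

The lifted torus of a rank one group covered by `SL₂(F)` has at most `|F| - 1` elements.
-/

set_option autoImplicit false
set_option linter.unusedSectionVars false

namespace CfsgLib.Known.SplitLift

open Cfsg.Agent.S2426 (root root_val)
open CfsgLib.Chev.BN CfsgLib.BNSteinberg CfsgLib.Known.SL2Mult
open CfsgLib.Known.SL2Lift (root_add root_zero)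
open scoped commutatorElement

universe u v w

section stem

variable {E : Type u} {G : Type v} [Group E] [Group G]

/-- A stem extension which is stem free on the Sylow subgroups for the primes of its kernel is trivial. -/
theorem ker_eq_one_of_sylow_dvd [Finite E] [Finite G] (σ : E →* G) (hσ : Cfsg.IsStemExtension σ)
    (h : ∀ (p : ℕ) [Fact p.Prime], p ∣ Nat.card G → p ∣ Nat.card σ.ker → ∃ P : Sylow p G,
      ∀ (Δ : Type u) [Group Δ] (τ : Δ →* (P : Subgroup G)), Function.Surjective τ →
        τ.ker ≤ Subgroup.center Δ → ∀ z ∈ commutator Δ, τ z = 1 → z = (1 : Δ)) :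
    ∀ z ∈ σ.ker, z = 1 := by
  classical
  by_contra hne
  push Not at hne
  obtain ⟨z₀, hz₀, hz₀1⟩ := hne
  obtain ⟨p, hp, hdvd⟩ := Nat.exists_prime_and_dvd (mt orderOf_eq_one_iff.mp hz₀1)
  haveI := Fact.mk hp
  set z := z₀ ^ (orderOf z₀ / p) with hz
  have hzo : orderOf z = p := by
    rw [hz, orderOf_pow_of_dvd (Nat.div_ne_zero_iff.mpr ⟨hp.ne_zero,
      Nat.le_of_dvd (orderOf_pos z₀) hdvd⟩) (Nat.div_dvd_of_dvd hdvd),
      Nat.div_div_self hdvd (orderOf_pos z₀).ne']
  have hzk : z ∈ σ.ker := pow_mem hz₀ _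
  have hcase : ∀ (P : Subgroup G), ¬ p ∣ P.index →
      (∀ (Δ : Type u) [Group Δ] (τ : Δ →* P), Function.Surjective τ →
        τ.ker ≤ Subgroup.center Δ → ∀ w ∈ commutator Δ, τ w = 1 → w = (1 : Δ)) → False := by
    intro P hP hPfree
    let R := P.comap σ
    have hidx : R.index = P.index := Subgroup.index_comap_of_surjective _ hσ.1
    let ϕ : R →* Abelianization R := Abelianization.of
    have hzc := hσ.2.1 hzk
    have key : ∀ (k : ℕ) (g₀ : E), g₀⁻¹ * z ^ k * g₀ ∈ R → g₀⁻¹ * z ^ k * g₀ = z ^ k := by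
      intro k g₀ _
      rw [mul_assoc, ← Subgroup.mem_center_iff.mp (pow_mem hzc k) g₀, inv_mul_cancel_left]
    have h1 : MonoidHom.transfer ϕ z = 1 :=
      (Abelianization.commutator_subset_ker (MonoidHom.transfer ϕ)) (hσ.2.2 hzk)
    rw [MonoidHom.transfer_eq_pow ϕ z key] at h1
    have hmem : (⟨z ^ R.index, MonoidHom.transfer_eq_pow_aux z key⟩ : R) ∈ commutator R :=
      (QuotientGroup.eq_one_iff _).mp h1
    let τ : R →* P := (σ.comp R.subtype).codRestrict P fun x => x.2
    have hτs : Function.Surjective τ := fun y => by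
      obtain ⟨x, hx⟩ := hσ.1 y.1
      exact ⟨⟨x, show σ x ∈ P by rw [hx]; exact y.2⟩, Subtype.ext hx⟩
    have hτc : τ.ker ≤ Subgroup.center R := fun x hx => by
      refine Subgroup.mem_center_iff.mpr fun g => Subtype.ext ?_
      exact Subgroup.mem_center_iff.mp (hσ.2.1 (show σ x.1 = 1 from congrArg Subtype.val hx)) g.1
    have hz1 : z ^ R.index = 1 := by
      have := hPfree R τ hτs hτc _ hmem (Subtype.ext (by
        show σ (z ^ R.index) = 1
        rw [map_pow, hzk, one_pow]))
      exact congrArg Subtype.val this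
    rw [← orderOf_dvd_iff_pow_eq_one, hzo, hidx] at hz1
    exact hP hz1
  by_cases hpG : p ∣ Nat.card G
  · obtain ⟨P, hP⟩ := h p hpG (by
      rw [← hzo]
      exact (Subgroup.orderOf_mk z hzk).symm ▸ orderOf_dvd_natCard (⟨z, hzk⟩ : σ.ker))
    exact hcase _ P.not_dvd_index hP
  · refine hcase ⊥ (by rwa [Subgroup.index_bot]) fun Δ _ τ _ hc w hw _ => ?_
    have hall : ∀ a b : Δ, a * b = b * a := fun a b =>
      Subgroup.mem_center_iff.mp (hc (Subsingleton.elim (τ b) 1)) a
    have hbot : commutator Δ ≤ ⊥ := by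
      rw [commutator_def, Subgroup.commutator_le]
      intro u _ v _
      exact Subgroup.mem_bot.mpr (commutatorElement_eq_one_iff_mul_comm.mpr (hall u v))
    exact Subgroup.mem_bot.mp (hbot hw)

end stem

section sl2

variable {F : Type w} [Field F] [Fintype F]

local notation "SL2" => Matrix.SpecialLinearGroup (Fin 2) F

/-- The root elements generate `SL₂`. -/
theorem root_closure : Subgroup.closure (Set.range (root : Bool × F → SL2)) = ⊤ := by
  obtain ⟨e, ht, hf⟩ := Cfsg.Agent.S2426.result (K := F)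
  have he : ∀ p : Bool × F, e (PresentedGroup.of p) = root p := by
    rintro ⟨b, c⟩
    refine Subtype.ext ?_
    rw [root_val]
    cases b
    · simpa using hf c
    · simpa using ht c
  rw [eq_top_iff]
  intro g _
  obtain ⟨y, rfl⟩ := e.surjective g
  have hy : y ∈ Subgroup.closure (Set.range (PresentedGroup.of (rels := _))) := by
    rw [PresentedGroup.closure_range_of]; exact Subgroup.mem_top y
  have := Subgroup.mem_map_of_mem e.toMonoidHom hy
  rw [MonoidHom.map_closure, ← Set.range_comp] at this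
  have hfun : (⇑e.toMonoidHom ∘ PresentedGroup.of) = (root : Bool × F → SL2) := funext he
  rwa [hfun] at this

theorem root_pow (p : ℕ) [CharP F p] (b : Bool) (c : F) : root (b, c) ^ p = (1 : SL2) := by
  have key : ∀ n : ℕ, root (b, c) ^ n = (root (b, (n : F) * c) : SL2) := by
    intro n
    induction n with
    | zero => rw [pow_zero, Nat.cast_zero, zero_mul, root_zero]
    | succ n ih => rw [pow_succ, ih, root_add, Nat.cast_succ, add_mul, one_mul]
  rw [key, CharP.cast_eq_zero, zero_mul, root_zero]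

/-- A stem extension of `SL₂(F)` of order prime to the characteristic is trivial. -/
theorem stem_coprime_trivial {E : Type u} [Group E] [Finite E] (p : ℕ) [Fact p.Prime] [CharP F p]
    (σ : E →* SL2) (hσ : Cfsg.IsStemExtension σ) (hco : (Nat.card σ.ker).Coprime p) :
    ∀ z ∈ σ.ker, z = 1 := by
  classical
  obtain ⟨k, hp, hk⟩ := FiniteField.card F p
  by_cases h9 : Fintype.card F = 9
  · have hp3 : p = 3 := (Nat.prime_dvd_prime_iff_eq hp Nat.prime_three).1
      (hp.dvd_of_dvd_pow (show p ∣ 3 ^ 2 by rw [show (3 : ℕ) ^ 2 = p ^ (k : ℕ) by rw [← hk, h9]; rfl]; exact dvd_pow_self p k.pos.ne'))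
    obtain ⟨⟨Γ, _, _, π, hπ, ⟨e⟩⟩, hbound⟩ := CfsgLib.Schur.Tails.multiplier_SLNine h9
    intro z hz
    have key : ∀ (E' : Type w) [Group E'] [Finite E'] (σ' : E' →* SL2), Cfsg.IsStemExtension σ' →
        ∀ z ∈ σ'.ker, z ^ 3 = 1 := by
      intro E' _ _ σ' hσ' z hz
      obtain ⟨f, hf⟩ := hbound E' σ' hσ'
      obtain ⟨a, ha⟩ := hf ⟨z, hz⟩
      have h3 : a ^ 3 = 1 := Multiplicative.toAdd.injective (by
        rw [toAdd_pow, toAdd_one, nsmul_eq_mul]
        have : ((3 : ℕ) : ZMod 3) = 0 := ZMod.natCast_self 3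
        rw [this, zero_mul])
      have := congrArg Subtype.val (congrArg f h3)
      rw [map_pow, ha, map_one] at this
      simpa using this
    -- move to a type in the universe of `F`
    obtain ⟨n, ⟨eq⟩⟩ := Finite.exists_equiv_fin E
    let eq' : E ≃ {i : ULift.{w} (Fin n) // True} :=
      (eq.trans Equiv.ulift.symm).trans (Equiv.subtypeUnivEquiv fun _ => trivial).symm
    letI : Group {i : ULift.{w} (Fin n) // True} := eq'.symm.group
    let em : {i : ULift.{w} (Fin n) // True} ≃* E := eq'.symm.mulEquiv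
    have h1 := key {i : ULift.{w} (Fin n) // True} (σ.comp em.toMonoidHom)
      (CfsgLib.Schur.Tails.isStem_precomp em hσ).1 (em.symm z) (by simpa [MonoidHom.mem_ker] using hz)
    rw [← map_pow, map_eq_one_iff _ em.symm.injective] at h1
    have h2 : z ^ Nat.card σ.ker = 1 := by
      simpa using congrArg Subtype.val (pow_card_eq_one' (G := σ.ker) (x := ⟨z, hz⟩))
    rw [← orderOf_eq_one_iff]
    subst hp3
    exact Nat.eq_one_of_dvd_coprimes hco (orderOf_dvd_of_pow_eq_one h2) (orderOf_dvd_of_pow_eq_one h1)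
  by_cases h4 : Fintype.card F = 4
  · have hp2 : p = 2 := (Nat.prime_dvd_prime_iff_eq hp Nat.prime_two).1
      (hp.dvd_of_dvd_pow (show p ∣ 2 ^ 2 by rw [show (2 : ℕ) ^ 2 = p ^ (k : ℕ) by rw [← hk, h4]; rfl]; exact dvd_pow_self p k.pos.ne'))
    subst hp2
    have hcard : Nat.card SL2 * (Fintype.card F - 1) =
        (Fintype.card F ^ 2 - 1) * (Fintype.card F ^ 2 - Fintype.card F) := by
      have h := CfsgLib.Classical.card_SL_mul (F := F) rfl 2 (by norm_num)
      rw [mul_comm, h]
      simp [Fin.prod_univ_two]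
    rw [h4] at hcard
    have h60 : Nat.card SL2 = 60 := by omega
    refine ker_eq_one_of_sylow_dvd σ hσ fun r _ hr hrk => ?_
    have hr2 : r ≠ 2 := fun e => by
      subst e
      exact absurd (Nat.eq_one_of_dvd_coprimes hco hrk (dvd_refl 2)) (by norm_num)
    have hr35 : r = 3 ∨ r = 5 := by
      rw [h60, show (60 : ℕ) = 2 ^ 2 * (3 * 5) from rfl] at hr
      have hrp : r.Prime := Fact.out
      rcases hrp.dvd_mul.1 hr with a | a
      · exact absurd ((Nat.prime_dvd_prime_iff_eq hrp Nat.prime_two).1 (hrp.dvd_of_dvd_pow a)) hr2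
      · rcases hrp.dvd_mul.1 a with b | b
        · exact Or.inl ((Nat.prime_dvd_prime_iff_eq hrp Nat.prime_three).1 b)
        · exact Or.inr ((Nat.prime_dvd_prime_iff_eq hrp Nat.prime_five).1 b)
    obtain ⟨P⟩ : Nonempty (Sylow r SL2) := inferInstance
    refine ⟨P, fun Δ _ τ _ hτc => ?_⟩
    obtain ⟨m, hm⟩ := IsPGroup.iff_card.1 P.isPGroup'
    have hdvd : r ^ m ∣ 60 := by rw [← hm, ← h60]; exact Subgroup.card_subgroup_dvd_card _
    have hnd : ¬ r ^ 2 ∣ 60 := by rcases hr35 with rfl | rfl <;> norm_num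
    have hm1 : m ≤ 1 := by
      by_contra hc
      exact hnd ((pow_dvd_pow r (by omega)).trans hdvd)
    haveI : IsCyclic (P : Subgroup SL2) := by
      rcases Nat.le_one_iff_eq_zero_or_eq_one.1 hm1 with rfl | rfl
      · have := (Nat.card_eq_one_iff_unique.1 (hm.trans (pow_zero r))).1
        infer_instance
      · exact isCyclic_of_prime_card (hm.trans (pow_one r))
    exact free_of_cyclic τ hτc
  · intro z hz
    obtain ⟨-, hbound⟩ := sl2_trivial (F := F) h4 h9
    obtain ⟨n, ⟨eq⟩⟩ := Finite.exists_equiv_fin E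
    let eq' : E ≃ {i : ULift.{w} (Fin n) // True} :=
      (eq.trans Equiv.ulift.symm).trans (Equiv.subtypeUnivEquiv fun _ => trivial).symm
    letI : Group {i : ULift.{w} (Fin n) // True} := eq'.symm.group
    let em : {i : ULift.{w} (Fin n) // True} ≃* E := eq'.symm.mulEquiv
    obtain ⟨f, hf⟩ := hbound {i : ULift.{w} (Fin n) // True} (σ.comp em.toMonoidHom)
      (CfsgLib.Schur.Tails.isStem_precomp em hσ).1
    obtain ⟨a, ha⟩ := hf ⟨em.symm z, by simpa [MonoidHom.mem_ker] using hz⟩
    rw [show a = 1 from Subsingleton.elim _ _, map_one] at ha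
    have := congrArg Subtype.val ha
    simpa using this.symm

/-- A coprime central extension splits on unipotent lifts over `SL₂`. -/
theorem exists_root_lift {E : Type u} {G : Type v} [Group E] [Group G] [Finite E] [Finite G]
    (p : ℕ) [Fact p.Prime] [CharP F p] {σ : E →* G} (hc : Cov σ p) (φ : SL2 →* G) :
    ∃ s : SL2 →* E, σ.comp s = φ ∧ ∀ r, s (root r) = li σ p (φ (root r)) := by
  classical
  have hpow : ∀ r : Bool × F, (φ (root r)) ^ p ^ 1 = 1 := fun r => by
    rw [pow_one, ← map_pow, root_pow p, map_one]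
  let S : Set (SL2 × E) := Set.range fun r => (root r, li σ p (φ (root r)))
  let Δ := Subgroup.closure S
  have hΔ : ∀ x ∈ Δ, σ x.2 = φ x.1 := by
    intro x hx
    induction hx using Subgroup.closure_induction with
    | mem x hx => obtain ⟨r, rfl⟩ := hx; exact (isLift_li hc (hpow r)).1
    | one => simp
    | mul a b _ _ ha hb => simp [ha, hb]
    | inv a _ ha => simp [ha]
  let π : Δ →* SL2 := (MonoidHom.fst SL2 E).comp Δ.subtype
  have hπs : Function.Surjective π := by
    rw [← MonoidHom.range_eq_top, eq_top_iff, ← root_closure, Subgroup.closure_le]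
    rintro _ ⟨r, rfl⟩
    exact ⟨⟨_, Subgroup.subset_closure ⟨r, rfl⟩⟩, rfl⟩
  have hker : ∀ x : Δ, x ∈ π.ker → x.1.2 ∈ σ.ker := fun x hx => by
    have := hΔ x.1 x.2
    rw [show x.1.1 = 1 from hx, map_one] at this
    exact this
  let κ : π.ker →* σ.ker :=
    ((MonoidHom.snd SL2 E).comp (Δ.subtype.comp π.ker.subtype)).codRestrict σ.ker fun x => hker x.1 x.2
  have hκ : Function.Injective κ := fun x y e =>
    Subtype.ext (Subtype.ext (Prod.ext (x.2.trans y.2.symm) (congrArg Subtype.val e)))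
  have hco : (Nat.card π.ker).Coprime p :=
    Nat.Coprime.coprime_dvd_left (Subgroup.card_dvd_of_injective κ hκ) hc.coprime
  have hstem : Cfsg.IsStemExtension π := by
    refine ⟨hπs, fun x hx => Subgroup.mem_center_iff.2 fun y => Subtype.ext (Prod.ext ?_ ?_), ?_⟩
    · show y.1.1 * x.1.1 = x.1.1 * y.1.1
      rw [show x.1.1 = 1 from hx, mul_one, one_mul]
    · exact Subgroup.mem_center_iff.1 (hc.cen (hker x hx)) _
    -- the abelianisation is killed by a power of `p`
    intro z hz
    rw [← Abelianization.ker_of, MonoidHom.mem_ker]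
    have h1 : (Abelianization.of z) ^ Nat.card π.ker = 1 := by
      have := congrArg Subtype.val (pow_card_eq_one' (G := π.ker) (x := ⟨z, hz⟩))
      rw [← map_pow, ← map_one (Abelianization.of (G := Δ))]
      exact congrArg _ (by simpa using this)
    have h2 : ∀ y : Δ, (Abelianization.of y) ^ p = 1 := by
      rintro ⟨y, hy⟩
      induction hy using Subgroup.closure_induction with
      | mem y hy =>
        obtain ⟨r, rfl⟩ := hy
        rw [← map_pow]
        convert map_one (Abelianization.of (G := Δ))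
        refine Subtype.ext (Prod.ext (root_pow p r.1 r.2) ?_)
        show li σ p (φ (root r)) ^ p = 1
        refine lift_unique hc (g := 1) ⟨?_, ?_⟩ ⟨map_one σ, 0, one_pow _⟩
        · rw [map_pow, (isLift_li hc (hpow r)).1, ← map_pow, root_pow p, map_one]
        · obtain ⟨-, j, hj⟩ := isLift_li hc (hpow r)
          exact ⟨j, by rw [← pow_mul, mul_comm, pow_mul, hj, one_pow]⟩
      | one => exact (congrArg (· ^ p) (map_one _)).trans (one_pow p)
      | mul a b ha hb iha ihb =>
        show (Abelianization.of ((⟨a, ha⟩ : Δ) * ⟨b, hb⟩)) ^ p = 1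
        rw [map_mul, mul_pow, iha, ihb, one_mul]
      | inv a ha iha =>
        show (Abelianization.of ((⟨a, ha⟩ : Δ)⁻¹)) ^ p = 1
        rw [map_inv, inv_pow, iha, inv_one]
    rw [← orderOf_eq_one_iff]
    exact Nat.eq_one_of_dvd_coprimes hco (orderOf_dvd_of_pow_eq_one h1) (orderOf_dvd_of_pow_eq_one (h2 z))
  have htriv := stem_coprime_trivial p π hstem hco
  have hπi : Function.Injective π := (injective_iff_map_eq_one π).2 fun z hz => htriv z hz
  let eΔ := MulEquiv.ofBijective π ⟨hπi, hπs⟩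
  refine ⟨(MonoidHom.snd SL2 E).comp (Δ.subtype.comp eΔ.symm.toMonoidHom), ?_, fun r => ?_⟩
  · refine MonoidHom.ext fun g => ?_
    show σ (eΔ.symm g).1.2 = φ g
    rw [hΔ _ (eΔ.symm g).2, show (eΔ.symm g).1.1 = g from eΔ.apply_symm_apply g]
  · show (eΔ.symm (root r)).1.2 = _
    have : eΔ.symm (root r) = ⟨_, Subgroup.subset_closure ⟨r, rfl⟩⟩ :=
      eΔ.injective (eΔ.apply_symm_apply _)
    rw [this]

variable {E : Type u} {G : Type v} [Group E] [Group G] [Finite E] [Finite G] {σ : E →* G}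
  {P : Cfsg.BNPair G} {p : ℕ} [Fact p.Prime] [CharP F p] {U : Subgroup G} {n₀ : G}

/-- The rank one group of `s` is covered by `SL₂(F)`. -/
structure RankOne (F : Type w) [Field F] (U : Subgroup G) (n₀ s : G)
    (φ : Matrix.SpecialLinearGroup (Fin 2) F →* G) : Prop where
  up : ∀ c, φ (root (true, c)) ∈ X U (s * n₀)
  onto : ∀ x ∈ X U (s * n₀), ∃ c, φ (root (true, c)) = x
  down : ∀ c, ∃ x ∈ X U (s * n₀), φ (root (false, c)) = s * x * s⁻¹
  onto' : ∀ x ∈ X U (s * n₀), ∃ c, φ (root (false, c)) = s * x * s⁻¹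
  faithful : ∀ g, φ g = 1 → g ∈ Subgroup.center (Matrix.SpecialLinearGroup (Fin 2) F)

/-- The lifted torus of a rank one group covered by `SL₂(F)` has at most `|F| - 1` elements. -/
theorem card_tau_le (hc : Cov σ p) (h : Opp P p U n₀) {s : G} (hs : s ∈ P.S)
    {φ : SL2 →* G} (hφ : RankOne F U n₀ s φ) :
    Nat.card (tau σ P p U n₀ s) ≤ Fintype.card F - 1 := by
  obtain ⟨ψ, hψ, hψr⟩ := exists_root_lift p hc φ
  have hψσ : ∀ g, σ (ψ g) = φ g := fun g => DFunLike.congr_fun hψ g
  have hle : Ms σ p U n₀ s ≤ ψ.range := by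
    rw [Ms, Subgroup.closure_le]
    rintro y (⟨x, hx, rfl⟩ | ⟨e, he, x, hx, rfl⟩)
    · obtain ⟨c, rfl⟩ := hφ.onto x hx
      exact ⟨root (true, c), hψr _⟩
    · obtain ⟨c, hc'⟩ := hφ.onto' x hx
      refine ⟨root (false, c), ?_⟩
      rw [hψr, hc', conj_li_U hc h (X_U hc h hx) e, he]
  -- elements over the torus are diagonal
  let Tor : Subgroup SL2 := (P.B ⊓ P.N).comap φ
  have hdiag : ∀ a ∈ Tor, ∀ b, ∃ c, a * root (b, 1) * a⁻¹ = root (b, c) := by
    intro a ha b
    have hT : φ a ∈ P.B ⊓ P.N := ha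
    obtain ⟨c, hcc⟩ : ∃ c, φ (a * root (b, 1) * a⁻¹) = φ (root (b, c)) := by
      rw [map_mul, map_mul, map_inv]
      cases b with
      | true =>
        obtain ⟨c, hc'⟩ := hφ.onto _ (torus_X h hT (mul_mem (s_mem_N hs) h.mem) (hφ.up 1))
        exact ⟨c, hc'.symm⟩
      | false =>
        obtain ⟨x, hx, ex⟩ := hφ.down 1
        have hT' := conj_mem_H' (s_mem_N hs) hT
        obtain ⟨c, hc'⟩ := hφ.onto' _ (torus_X h hT' (mul_mem (s_mem_N hs) h.mem) hx)
        refine ⟨c, ?_⟩
        rw [hc', ex]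
        group
    refine ⟨c, ?_⟩
    set z := (root (b, c))⁻¹ * (a * root (b, 1) * a⁻¹) with hz
    have hzk : φ z = 1 := by rw [hz, map_mul, map_inv, hcc, inv_mul_cancel]
    have hzc := hφ.faithful z hzk
    have e1 : a * root (b, 1) * a⁻¹ = root (b, c) * z := by rw [hz, mul_inv_cancel_left]
    have e2 : (root (b, c) * z) ^ p = 1 := by rw [← e1, conj_pow, root_pow p, mul_one, mul_inv_cancel]
    rw [Commute.mul_pow (Subgroup.mem_center_iff.1 hzc _), root_pow p, one_mul] at e2
    -- a central element of order `p` is trivial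
    have hz1 : z = 1 := by
      obtain ⟨r, hr, ez⟩ := Matrix.SpecialLinearGroup.mem_center_iff.1 hzc
      have h1 : r ^ p = 1 := by
        have := congrArg (fun M : SL2 => (M : Matrix (Fin 2) (Fin 2) F) 0 0) e2
        rw [Matrix.SpecialLinearGroup.coe_pow, ← ez, ← map_pow] at this
        simpa using this
      have h2 : (r - 1) ^ p = 0 := by rw [sub_pow_char, h1, one_pow, sub_self]
      refine Subtype.ext ?_
      rw [← ez, sub_eq_zero.1 (pow_eq_zero_iff (Fact.out : p.Prime).ne_zero |>.1 h2)]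
      simp
    rw [e1, hz1, mul_one]
  have hentry : ∀ a ∈ Tor, (a : Matrix (Fin 2) (Fin 2) F) 1 0 = 0 ∧
      (a : Matrix (Fin 2) (Fin 2) F) 0 1 = 0 := by
    intro a ha
    have hdet := a.det_coe
    rw [Matrix.det_fin_two] at hdet
    constructor
    · obtain ⟨c, e⟩ := hdiag a ha true
      rw [mul_inv_eq_iff_eq_mul] at e
      have h00 := congrArg (fun M : SL2 => (M : Matrix (Fin 2) (Fin 2) F) 0 0) e
      simp [root_val, Matrix.mul_apply, Fin.sum_univ_two] at h00
      have h11 := congrArg (fun M : SL2 => (M : Matrix (Fin 2) (Fin 2) F) 1 1) e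
      simp [root_val, Matrix.mul_apply, Fin.sum_univ_two] at h11
      exact h11
    · obtain ⟨c, e⟩ := hdiag a ha false
      rw [mul_inv_eq_iff_eq_mul] at e
      have h00 := congrArg (fun M : SL2 => (M : Matrix (Fin 2) (Fin 2) F) 0 0) e
      simp [root_val, Matrix.mul_apply, Fin.sum_univ_two] at h00
      exact h00
  let f : Tor → Fˣ := fun a => Units.mk0 ((a.1 : Matrix (Fin 2) (Fin 2) F) 0 0) fun h0 => by
    have hdet := a.1.det_coe
    rw [Matrix.det_fin_two, h0, (hentry a.1 a.2).2] at hdet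
    simp at hdet
  have hf : Function.Injective f := fun a a' e => by
    have e0 : (a.1 : Matrix (Fin 2) (Fin 2) F) 0 0 = (a'.1 : Matrix (Fin 2) (Fin 2) F) 0 0 :=
      congrArg Units.val e
    have ha := hentry a.1 a.2
    have ha' := hentry a'.1 a'.2
    refine Subtype.ext (Subtype.ext (Matrix.ext fun i j => ?_))
    have hd := a.1.det_coe
    have hd' := a'.1.det_coe
    rw [Matrix.det_fin_two, ha.2] at hd
    rw [Matrix.det_fin_two, ha'.2] at hd'
    simp at hd hd'
    fin_cases i <;> fin_cases j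
    · exact e0
    · simp [ha.2, ha'.2]
    · simp [ha.1, ha'.1]
    · have hne : (a.1 : Matrix (Fin 2) (Fin 2) F) 0 0 ≠ 0 := (f a).ne_zero
      show (a.1 : Matrix (Fin 2) (Fin 2) F) 1 1 = (a'.1 : Matrix (Fin 2) (Fin 2) F) 1 1
      refine mul_left_cancel₀ hne ?_
      rw [hd, e0, hd']
  calc Nat.card (tau σ P p U n₀ s) ≤ Nat.card Tor := by
        have hsub : tau σ P p U n₀ s ≤ Tor.map ψ := by
          intro y hy
          obtain ⟨g, rfl⟩ := hle hy.1
          refine ⟨g, ?_, rfl⟩
          show φ g ∈ P.B ⊓ P.N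
          rw [← hψσ]
          exact hy.2
        exact (Subgroup.card_le_of_le hsub).trans (Nat.le_of_dvd Nat.card_pos (Subgroup.card_map_dvd Tor ψ))
    _ ≤ Nat.card Fˣ := Nat.card_le_card_of_injective f hf
    _ = Fintype.card F - 1 := by rw [Nat.card_units, Nat.card_eq_fintype_card]

end sl2

end CfsgLib.Known.SplitLift
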