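import Cfsg.Agent.Lib.BNSteinberg.Split

/-!
# Simple root groups of a split Tits system

The group `X s` of the elements of `U` fixing the chamber `s n₀`; convexity of fixed chambers.
-/

set_option autoImplicit false
set_option linter.unusedSectionVars false

namespace CfsgLib.Known.SplitLift

open CfsgLib.Chev.BN CfsgLib.BNSteinberg

variable {G : Type*} [Group G] [Finite G] {P : Cfsg.BNPair G} {p : ℕ} {U : Subgroup G}

/-- Split Tits system with a chosen opposite element. -/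
structure Opp (P : Cfsg.BNPair G) (p : ℕ) (U : Subgroup G) (n₀ : G) : Prop where
  split : Split P p U
  mem : n₀ ∈ P.N
  opp : ∀ u ∈ U, n₀⁻¹ * u * n₀ ∈ P.B → u = 1

/-- The elements of `U` whose conjugate by `g` lies in `U`. -/
def X (U : Subgroup G) (g : G) : Subgroup G := U ⊓ U.map (MulAut.conj g).toMonoidHom

variable {n₀ : G} (h : Opp P p U n₀)

include h

theorem mem_X {g u : G} : u ∈ X U g ↔ u ∈ U ∧ g⁻¹ * u * g ∈ P.B := by
  constructor
  · rintro ⟨hu, v, hv, e⟩
    refine ⟨hu, ?_⟩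
    change g * v * g⁻¹ = u at e
    rw [← e, show g⁻¹ * (g * v * g⁻¹) * g = v by group]
    exact h.split.le hv
  · rintro ⟨hu, hB⟩
    exact ⟨hu, g⁻¹ * u * g, h.split.conj_U hu hB, by
      show g * (g⁻¹ * u * g) * g⁻¹ = u; group⟩

theorem long : LongJ P P.S n₀ := h.split.opp_long h.mem h.opp

theorem mem_NJ_S {n : G} (hn : n ∈ P.N) : n ∈ NJ P P.S := by rw [NJ_S]; exact hn

theorem len_right {x : G} (hx : x ∈ P.N) : len P (n₀ * x) + len P x = len P n₀ :=
  (long h).sub subset_rfl (mem_NJ_S h h.mem) (mem_NJ_S h hx)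

theorem len_left {x : G} (hx : x ∈ P.N) : len P (x * n₀) + len P x = len P n₀ := by
  have e : Eqv P n₀ n₀⁻¹ := (long h).eqv subset_rfl (mem_NJ_S h h.mem)
    (mem_NJ_S h (inv_mem h.mem)) (le_of_eq (len_inv h.mem).symm)
  have h1 := len_right h (inv_mem hx)
  rwa [len_congr (e.mul_right (inv_mem hx)), ← mul_inv_rev, len_inv (mul_mem hx h.mem),
    len_inv hx] at h1

theorem len_s_n₀ {s : G} (hs : s ∈ P.S) : len P (s * n₀) + 1 = len P n₀ := by
  have := len_left h (s_mem_N hs)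
  rwa [len_s hs] at this

/-- Convexity: an element fixing two chambers fixes the chambers between them. -/
theorem conv {a b g : G} (ha : a ∈ P.N) (hb : b ∈ P.N)
    (hadd : len P (a * b) = len P a + len P b) (hg : g ∈ P.B)
    (hab : (a * b)⁻¹ * g * (a * b) ∈ P.B) : a⁻¹ * g * a ∈ P.B := by
  have := factor_unique ha hb hadd (mem_cell_self a) (mul_mem_cell hg (mem_cell_self a))
    (mem_cell_self b) (mem_cell_self b)
    (by rwa [show (a * b)⁻¹ * (g * a * b) = (a * b)⁻¹ * g * (a * b) by group])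
  rwa [← mul_assoc] at this

/-- Root groups are moved into `U` by elements lengthened by the reflection. -/
theorem conj_X_mem {v t x : G} (hv : v ∈ P.N) (ht : t ∈ P.S) (hup : len P v < len P (v * t))
    (hx : x ∈ X U (t * n₀)) : v * x * v⁻¹ ∈ U := by
  obtain ⟨hxU, hxB⟩ := (mem_X h).1 hx
  have htn : t * n₀ ∈ P.N := mul_mem (s_mem_N ht) h.mem
  have hvt : v * t ∈ P.N := mul_mem hv (s_mem_N ht)
  have hb : len P (v * (t * n₀)) + len P (v * t) = len P n₀ := by
    rw [← mul_assoc]; exact len_left h hvt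
  have hlt : len P (v * t) = len P v + 1 := by
    rcases len_right_up_or_down ht hv with h1 | h1 <;> omega
  have h1 := conv h (inv_mem hv) (mul_mem hv htn) (g := x) (by
    rw [inv_mul_cancel_left, len_inv hv]
    have := len_s_n₀ h ht
    omega) (h.split.le hxU) (by rwa [inv_mul_cancel_left])
  rw [inv_inv] at h1
  have := h.split.conj_U (g := v⁻¹) hxU (by rwa [inv_inv])
  rwa [inv_inv] at this

/-- Root groups are permuted: if `s v = v t` and `v t` is longer than `v`. -/
theorem conj_X {v s t x : G} (hv : v ∈ P.N) (hs : s ∈ P.S) (ht : t ∈ P.S)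
    (hup : len P v < len P (v * t)) (heq : Eqv P (s * v) (v * t))
    (hx : x ∈ X U (t * n₀)) : v * x * v⁻¹ ∈ X U (s * n₀) := by
  refine (mem_X h).2 ⟨conj_X_mem h hv ht hup hx, ?_⟩
  obtain ⟨hxU, hxB⟩ := (mem_X h).1 hx
  have htn : t * n₀ ∈ P.N := mul_mem (s_mem_N ht) h.mem
  have hvt : v * t ∈ P.N := mul_mem hv (s_mem_N ht)
  have ha : t * v⁻¹ * n₀ ∈ P.N := mul_mem (mul_mem (s_mem_N ht) (inv_mem hv)) h.mem
  have hlt : len P (v * t) = len P v + 1 := by
    rcases len_right_up_or_down ht hv with h1 | h1 <;> omega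
  have hbN : n₀⁻¹ * v * n₀ ∈ P.N := mul_mem (mul_mem (inv_mem h.mem) hv) h.mem
  have hla : len P (t * v⁻¹ * n₀) + len P (v * t) = len P n₀ := by
    have h1 := len_left h (mul_mem (s_mem_N ht) (inv_mem hv))
    have e : len P (t * v⁻¹) = len P (v * t) := by
      rw [← len_inv (mul_mem (s_mem_N ht) (inv_mem hv)), mul_inv_rev, inv_inv]
      exact len_congr ((eqv_inv_self ht).symm.mul_left v)
    rwa [e] at h1
  have hlb : len P (n₀⁻¹ * v * n₀) = len P v := by
    have e : Eqv P n₀⁻¹ n₀ := (((long h).eqv subset_rfl (mem_NJ_S h h.mem)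
      (mem_NJ_S h (inv_mem h.mem)) (le_of_eq (len_inv h.mem).symm))).symm
    rw [len_congr ((e.mul_right hv).mul_right h.mem), mul_assoc]
    have h1 := len_right h (mul_mem hv h.mem)
    have h2 := len_left h hv
    omega
  have hab : t * v⁻¹ * n₀ * (n₀⁻¹ * v * n₀) = t * n₀ := by group
  have h1 := conv h ha hbN (g := x) (by
    rw [hab, hlb]
    have := len_s_n₀ h ht
    omega) (h.split.le hxU) (by rwa [hab])
  -- move along `v⁻¹ s ≡ t v⁻¹`
  have e : Eqv P (t * v⁻¹ * n₀) (v⁻¹ * s * n₀) := by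
    refine Eqv.mul_right ?_ h.mem
    have e1 := (heq.mul_left v⁻¹).mul_right (inv_mem hv)
    rw [inv_mul_cancel_left, show v⁻¹ * (s * v) * v⁻¹ = v⁻¹ * s by group] at e1
    exact e1.symm
  have he := e.1
  rw [show (s * n₀)⁻¹ * (v * x * v⁻¹) * (s * n₀)
      = ((t * v⁻¹ * n₀)⁻¹ * (v⁻¹ * s * n₀))⁻¹ * ((t * v⁻¹ * n₀)⁻¹ * x * (t * v⁻¹ * n₀))
        * ((t * v⁻¹ * n₀)⁻¹ * (v⁻¹ * s * n₀)) by group]
  exact mul_mem (mul_mem (inv_mem he) h1) he

/-- The torus normalises the root groups. -/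
theorem torus_X {t x g : G} (ht : t ∈ P.B ⊓ P.N) (hg : g ∈ P.N) (hx : x ∈ X U g) :
    t * x * t⁻¹ ∈ X U g := by
  obtain ⟨hxU, hxB⟩ := (mem_X h).1 hx
  refine (mem_X h).2 ⟨h.split.normal t ht.1 x hxU, ?_⟩
  rw [show g⁻¹ * (t * x * t⁻¹) * g = (g⁻¹ * t * g) * (g⁻¹ * x * g) * (g⁻¹ * t * g)⁻¹ by group]
  have := (conj_mem_H' hg ht).1
  exact mul_mem (mul_mem this hxB) (inv_mem this)

/-- The root group is transitive on the chambers of the panel different from the base. -/
theorem exists_X {s u : G} (hs : s ∈ P.S) (hu : u ∈ U) :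
    ∃ x ∈ X U (s * n₀), s⁻¹ * (x⁻¹ * u) * s ∈ P.B := by
  set c := s * n₀ with hc
  have hsN := s_mem_N hs
  have hcN : c ∈ P.N := mul_mem hsN h.mem
  have hcell : (u * s)⁻¹ * c ∈ cell P n₀ := by
    have h1 : u⁻¹ * c ∈ cell P c := mul_mem_cell (inv_mem (h.split.le hu)) (mem_cell_self c)
    have h2 : s⁻¹ ∈ cell P s := by rw [(eqv_inv_self hs).cell_eq]; exact mem_cell_self _
    have e : Eqv P (s * c) n₀ := eqv_twice hs h.mem
    have h3 := cell_mul hsN hcN (by
      rw [len_congr e, len_s hs, hc]; have := len_s_n₀ h hs; omega) h2 h1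
    rw [e.cell_eq] at h3
    rwa [mul_inv_rev, mul_assoc]
  have h4 := inv_mem_cell hcell
  rw [mul_inv_rev, inv_inv] at h4
  obtain ⟨u₁, hu₁, e⟩ := orbit_cell (inv_mem h.mem) h.split h4
  have eB := QuotientGroup.eq.1 e
  -- the transported element
  refine ⟨c * u₁ * c⁻¹, ?_, ?_⟩
  swap
  · rw [show s⁻¹ * ((c * u₁ * c⁻¹)⁻¹ * u) * s
      = n₀ * n₀⁻¹ * ((u₁ * n₀⁻¹)⁻¹ * (c⁻¹ * (u * s))) by simp only [hc]; group]
    rwa [mul_inv_cancel, one_mul]
  set x := c * u₁ * c⁻¹ with hx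
  have hfix : s⁻¹ * (x⁻¹ * u) * s ∈ P.B := by
    rw [show s⁻¹ * (x⁻¹ * u) * s
      = n₀ * n₀⁻¹ * ((u₁ * n₀⁻¹)⁻¹ * (c⁻¹ * (u * s))) by simp only [hx, hc]; group]
    rwa [mul_inv_cancel, one_mul]
  have hxP : x ∈ P.parabolic {s} := by
    rw [show x = u * (s * (s⁻¹ * (x⁻¹ * u) * s)⁻¹ * s⁻¹) by group]
    have hsP : s ∈ P.parabolic {s} := J_subset_parabolic (Set.mem_singleton s)
    exact mul_mem (B_le_parabolic _ (h.split.le hu))
      (mul_mem (mul_mem hsP (B_le_parabolic _ (inv_mem hfix))) (inv_mem hsP))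
  have hxB : x ∈ P.B := by
    by_contra hne
    obtain ⟨v, hv, hvc⟩ := parabolic_cell (by simpa using hs : ({s} : Set G) ⊆ P.S) hxP
    have hxc : x * c ∈ cell P c := by
      rw [hx, show c * u₁ * c⁻¹ * c = c * u₁ by group]
      exact mem_cell_mul (h.split.le hu₁) (mem_cell_self c)
    have hvN : v ∈ P.N := NJ_le (by simpa using hs : ({s} : Set G) ⊆ P.S) hv
    obtain ⟨l, hl, hred, he⟩ :=
      exists_red_subset (P := P) (by simpa using hs : ({s} : Set G) ⊆ P.S) hv
    match l, hl, hred, he with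
    | [], _, _, he =>
      rw [List.prod_nil, eqv_one_iff] at he
      obtain ⟨b, hb, b', hb', ex⟩ := mem_cell.1 hvc
      exact hne (by rw [ex]; exact mul_mem (mul_mem hb he.1) hb')
    | [a], hl, _, he =>
      obtain rfl : a = s := Set.mem_singleton_iff.1 (hl a (by simp))
      rw [List.prod_singleton] at he
      rw [← he.cell_eq] at hvc
      have e2 : Eqv P (a * c) n₀ := eqv_twice hs h.mem
      have h5 := cell_mul hsN hcN (by
        rw [len_congr e2, len_s hs, hc]; have := len_s_n₀ h hs; omega) hvc (mem_cell_self c)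
      have := len_congr (eqv_of_mem_cells (mul_mem hsN hcN) hcN h5 hxc)
      rw [len_congr e2, hc] at this
      have := len_s_n₀ h hs
      omega
    | a :: b :: r, hl, hred, _ =>
      obtain rfl : a = s := Set.mem_singleton_iff.1 (hl a (by simp))
      obtain rfl : b = a := Set.mem_singleton_iff.1 (hl b (by simp))
      have hrw : IsWord P r := fun y hy => hred.1 y (by simp [hy])
      have h6 := hred.2
      rw [List.prod_cons, List.prod_cons, len_congr (eqv_twice hs hrw.prod_mem)] at h6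
      have := len_le_of_word hrw (Eqv.refl (P := P) r.prod)
      simp only [List.length_cons] at h6
      omega
  obtain ⟨k, hk⟩ := h.split.pgroup ⟨u₁, hu₁⟩
  have hk' : u₁ ^ p ^ k = 1 := by simpa using congrArg Subtype.val hk
  have hxU : x ∈ U := h.split.unip hxB (k := k) (by
    rw [hx, ← MulAut.conj_apply, ← map_pow, hk', map_one])
  exact (mem_X h).2 ⟨hxU, by
    rw [hx, show c⁻¹ * (c * u₁ * c⁻¹) * c = u₁ by group]; exact h.split.le hu₁⟩

end CfsgLib.Known.SplitLift
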