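import Cfsg.Agent.Lib.Known.SplitLift.Lift

/-!
# The lifted tori of rank one
-/

set_option autoImplicit false
set_option linter.unusedSectionVars false

namespace CfsgLib.Known.SplitLift

open CfsgLib.Chev.BN CfsgLib.BNSteinberg

universe u v

variable {E : Type v} {G : Type u} [Group E] [Group G] (σ : E →* G) (P : Cfsg.BNPair G) (p : ℕ)
  (U : Subgroup G) (n₀ : G)

/-- The group generated by the lifts of a root group and of its opposite. -/
def Ms (s : G) : Subgroup E :=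
  Subgroup.closure ((fun x => li σ p x) '' (X U (s * n₀) : Set G) ∪
    {y | ∃ e, σ e = s ∧ ∃ x ∈ X U (s * n₀), y = e * li σ p x * e⁻¹})

/-- The preimage of the torus. -/
abbrev TH : Subgroup E := (P.B ⊓ P.N).comap σ

/-- The lifted torus of `s`. -/
def tau (s : G) : Subgroup E := Ms σ p U n₀ s ⊓ (P.B ⊓ P.N).comap σ

/-- The product of the lifted tori. -/
def TT : Subgroup E := ⨆ s : P.S, tau σ P p U n₀ s

open _root_.Classical in
/-- A representative of the reflection in the lifted rank one group. -/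
noncomputable def nn (s : G) : E :=
  if hs : ∃ e ∈ Ms σ p U n₀ s, Eqv P s (σ e) then hs.choose else 1

/-- The lift of a word. -/
noncomputable def wl (l : List G) : E := (l.map (nn σ P p U n₀)).prod

variable {σ P p U n₀} [Finite E] [Finite G] [Fact p.Prime] (hc : Cov σ p) (h : Opp P p U n₀)

include hc h

theorem X_U {g x : G} (hx : x ∈ X U g) : x ∈ U := ((mem_X h).1 hx).1

theorem li_mem_Ms {s x : G} (hx : x ∈ X U (s * n₀)) : li σ p x ∈ Ms σ p U n₀ s :=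
  Subgroup.subset_closure (Or.inl ⟨x, hx, rfl⟩)

theorem conj_mem_Ms {s x : G} (hs : s ∈ P.S) {e : E} (he : Eqv P s (σ e))
    (hx : x ∈ X U (s * n₀)) : e * li σ p x * e⁻¹ ∈ Ms σ p U n₀ s := by
  obtain ⟨e₀, he₀⟩ := hc.surj s
  have hx' := torus_X h he (mul_mem (s_mem_N hs) h.mem) hx
  refine Subgroup.subset_closure (Or.inr ⟨e₀, he₀, _, hx', ?_⟩)
  rw [conj_li_U hc h (X_U hc h hx), conj_li_U hc h (X_U hc h hx'), he₀]
  congr 1
  group

theorem conjT_li {s x : G} (hs : s ∈ P.S) {t : E} (ht : t ∈ TH σ P) (hx : x ∈ X U (s * n₀)) :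
    t * li σ p x * t⁻¹ ∈ (fun x => li σ p x) '' (X U (s * n₀) : Set G) :=
  ⟨_, torus_X h ht (mul_mem (s_mem_N hs) h.mem) hx, (conj_li_U hc h (X_U hc h hx) t).symm⟩

theorem conjT_Ms {s : G} (hs : s ∈ P.S) {t : E} (ht : t ∈ TH σ P) {m : E}
    (hm : m ∈ Ms σ p U n₀ s) : t * m * t⁻¹ ∈ Ms σ p U n₀ s := by
  induction hm using Subgroup.closure_induction with
  | mem m hm =>
    rcases hm with ⟨x, hx, rfl⟩ | ⟨e, he, x, hx, rfl⟩
    · exact Subgroup.subset_closure (Or.inl (conjT_li hc h hs ht hx))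
    · rw [show t * (e * li σ p x * e⁻¹) * t⁻¹ = (t * e) * li σ p x * (t * e)⁻¹ by group]
      refine conj_mem_Ms hc h hs ?_ hx
      rw [map_mul, he]
      exact (mem_H_mul_eqv ht (s_mem_N hs)).symm
  | one => simp
  | mul a b _ _ ha hb =>
    rw [show t * (a * b) * t⁻¹ = (t * a * t⁻¹) * (t * b * t⁻¹) by group]; exact mul_mem ha hb
  | inv a _ ha =>
    rw [show t * a⁻¹ * t⁻¹ = (t * a * t⁻¹)⁻¹ by group]; exact inv_mem ha

theorem conjT_tau {s : G} (hs : s ∈ P.S) {t : E} (ht : t ∈ TH σ P) {m : E}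
    (hm : m ∈ tau σ P p U n₀ s) : t * m * t⁻¹ ∈ tau σ P p U n₀ s :=
  Subgroup.mem_inf.2 ⟨conjT_Ms hc h hs ht hm.1,
    mul_mem (mul_mem (show t ∈ TH σ P from ht) (show m ∈ TH σ P from hm.2))
      (inv_mem (show t ∈ TH σ P from ht))⟩

theorem map_Ms {s : G} (hs : s ∈ P.S) : (Ms σ p U n₀ s).map σ = Lv U n₀ s := by
  apply le_antisymm
  · rw [Ms, MonoidHom.map_closure, Subgroup.closure_le]
    rintro _ ⟨y, ⟨x, hx, rfl⟩ | ⟨e, he, x, hx, rfl⟩, rfl⟩
    · rw [σ_li hc h (X_U hc h hx)]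
      exact Subgroup.subset_closure (Or.inl hx)
    · rw [map_mul, map_mul, map_inv, he, σ_li hc h (X_U hc h hx)]
      exact Subgroup.subset_closure (Or.inr ⟨x, hx, rfl⟩)
  · rw [Lv, Subgroup.closure_le]
    rintro g (hg | ⟨x, hx, rfl⟩)
    · exact ⟨_, li_mem_Ms hc h hg, σ_li hc h (X_U hc h hg)⟩
    · obtain ⟨e, he⟩ := hc.surj s
      refine ⟨e * li σ p x * e⁻¹, conj_mem_Ms hc h hs (by rw [he]; exact Eqv.refl s) hx, ?_⟩
      rw [map_mul, map_mul, map_inv, he, σ_li hc h (X_U hc h hx)]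

theorem nn_spec {s : G} (hs : s ∈ P.S) :
    nn σ P p U n₀ s ∈ Ms σ p U n₀ s ∧ Eqv P s (σ (nn σ P p U n₀ s)) := by
  obtain ⟨a, ha, hea⟩ := exists_Lv_rep h hs
  rw [← map_Ms hc h hs] at ha
  obtain ⟨e, he, rfl⟩ := ha
  have hex : ∃ e ∈ Ms σ p U n₀ s, Eqv P s (σ e) := ⟨e, he, hea⟩
  rw [nn, dif_pos hex]
  exact hex.choose_spec

theorem σ_nn_mem {s : G} (hs : s ∈ P.S) : σ (nn σ P p U n₀ s) ∈ P.N :=
  (nn_spec hc h hs).2.mem_N (s_mem_N hs)

theorem tau_le {s : G} (hs : s ∈ P.S) : tau σ P p U n₀ s ≤ TT σ P p U n₀ :=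
  le_iSup (fun s : P.S => tau σ P p U n₀ s) ⟨s, hs⟩

theorem TT_le : TT σ P p U n₀ ≤ TH σ P := iSup_le fun _ => inf_le_right

theorem nn_sq {s : G} (hs : s ∈ P.S) : nn σ P p U n₀ s * nn σ P p U n₀ s ∈ tau σ P p U n₀ s := by
  obtain ⟨h1, h2⟩ := nn_spec hc h hs
  refine ⟨mul_mem h1 h1, ?_⟩
  have hN := σ_nn_mem hc h hs
  have e : Eqv P (s * s) (σ (nn σ P p U n₀ s) * σ (nn σ P p U n₀ s)) :=
    (h2.mul_right (s_mem_N hs)).trans (h2.mul_left _)
  have e1 : Eqv P 1 (s * s) := eqv_one_iff.2 (sq_mem_H hs)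
  have := eqv_one_iff.1 (e1.trans e)
  show σ (_ * _) ∈ P.B ⊓ P.N
  rwa [map_mul]

theorem conjT_TT {t : E} (ht : t ∈ TH σ P) {m : E} (hm : m ∈ TT σ P p U n₀) :
    t * m * t⁻¹ ∈ TT σ P p U n₀ := by
  induction hm using Subgroup.iSup_induction' with
  | hp s m hm => exact tau_le hc h s.2 (conjT_tau hc h s.2 ht hm)
  | h1 => simp
  | hmul a b _ _ ha hb =>
    rw [show t * (a * b) * t⁻¹ = (t * a * t⁻¹) * (t * b * t⁻¹) by group]; exact mul_mem ha hb

theorem nn_conj_TT {s : G} (hs : s ∈ P.S) {t : E} (ht : t ∈ TT σ P p U n₀) :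
    nn σ P p U n₀ s * t * (nn σ P p U n₀ s)⁻¹ ∈ TT σ P p U n₀ := by
  set n := nn σ P p U n₀ s with hn
  obtain ⟨h1, h2⟩ := nn_spec hc h hs
  have htT : t ∈ TH σ P := TT_le hc h ht
  have hc1 : n * (t * n⁻¹ * t⁻¹) ∈ tau σ P p U n₀ s := by
    refine ⟨mul_mem h1 (conjT_Ms hc h hs htT (inv_mem h1)), ?_⟩
    show σ (n * (t * n⁻¹ * t⁻¹)) ∈ P.B ⊓ P.N
    have h3 : σ t ∈ P.B ⊓ P.N := htT
    rw [map_mul, map_mul, map_mul, map_inv, map_inv,
      show σ n * (σ t * (σ n)⁻¹ * (σ t)⁻¹) = (σ n * σ t * (σ n)⁻¹) * (σ t)⁻¹ by group]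
    exact mul_mem (conj_mem_H (σ_nn_mem hc h hs) h3) (inv_mem h3)
  rw [show n * t * n⁻¹ = n * (t * n⁻¹ * t⁻¹) * t by group]
  exact mul_mem (tau_le hc h hs hc1) ht

theorem nn_conj_TT' {s : G} (hs : s ∈ P.S) {t : E} (ht : t ∈ TT σ P p U n₀) :
    (nn σ P p U n₀ s)⁻¹ * t * nn σ P p U n₀ s ∈ TT σ P p U n₀ := by
  set n := nn σ P p U n₀ s with hn
  have h2 := tau_le hc h hs (nn_sq hc h hs)
  rw [show n⁻¹ * t * n = n * ((n * n)⁻¹ * t * (n * n)) * n⁻¹ by group]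
  exact nn_conj_TT hc h hs (mul_mem (mul_mem (inv_mem h2) ht) h2)

theorem wl_cons (s : G) (l : List G) :
    wl σ P p U n₀ (s :: l) = nn σ P p U n₀ s * wl σ P p U n₀ l := by simp [wl]

theorem wl_append (l r : List G) :
    wl σ P p U n₀ (l ++ r) = wl σ P p U n₀ l * wl σ P p U n₀ r := by simp [wl]

theorem wl_eqv {l : List G} (hl : IsWord P l) : Eqv P l.prod (σ (wl σ P p U n₀ l)) := by
  induction l with
  | nil => simp [wl, Eqv]
  | cons s l ih =>
    have hs := hl s (by simp)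
    have hl' : IsWord P l := hl.sublist (List.sublist_cons_self s l)
    rw [wl_cons hc h, List.prod_cons, map_mul]
    exact ((nn_spec hc h hs).2.mul_right hl'.prod_mem).trans ((ih hl').mul_left _)

theorem wl_conj_TT {l : List G} (hl : IsWord P l) {t : E} (ht : t ∈ TT σ P p U n₀) :
    (wl σ P p U n₀ l)⁻¹ * t * wl σ P p U n₀ l ∈ TT σ P p U n₀ := by
  induction l generalizing t with
  | nil => simpa [wl] using ht
  | cons s l ih =>
    rw [wl_cons hc h, mul_inv_rev, show ∀ a b : E, b⁻¹ * a⁻¹ * t * (a * b) = b⁻¹ * (a⁻¹ * t * a) * b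
      from fun a b => by group]
    exact ih (hl.sublist (List.sublist_cons_self s l)) (nn_conj_TT' hc h (hl s (by simp)) ht)

/-- The lifted exchange. -/
theorem swap {m : List G} (hm : IsWord P m) {s t : G} (hs : s ∈ P.S) (ht : t ∈ P.S)
    (hup : len P m.prod < len P (m.prod * t)) (he : Eqv P (s * m.prod) (m.prod * t)) :
    ∃ τ ∈ TT σ P p U n₀,
      nn σ P p U n₀ s * wl σ P p U n₀ m * nn σ P p U n₀ t = τ * wl σ P p U n₀ m := by
  set v := wl σ P p U n₀ m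
  have hev : Eqv P m.prod (σ v) := wl_eqv hc h hm
  have hvN : σ v ∈ P.N := hev.mem_N hm.prod_mem
  obtain ⟨hn1, hn2⟩ := nn_spec hc h hs
  obtain ⟨ht1, ht2⟩ := nn_spec hc h ht
  have heσ : Eqv P (s * σ v) (σ v * t) :=
    ((hev.symm.mul_left s).trans he).trans (hev.mul_right (s_mem_N ht))
  have hupσ : len P (σ v) < len P (σ v * t) := by
    rwa [← len_congr hev, ← len_congr (hev.mul_right (s_mem_N ht))]
  -- the conjugate of the rank one group
  have hconj : ∀ y ∈ Ms σ p U n₀ t, v * y * v⁻¹ ∈ Ms σ p U n₀ s := by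
    intro y hy
    induction hy using Subgroup.closure_induction with
    | mem y hy =>
      rcases hy with ⟨x, hx, rfl⟩ | ⟨e, he', x, hx, rfl⟩
      · rw [conj_li_U hc h (X_U hc h hx)]
        exact li_mem_Ms hc h (conj_X h hvN hs ht hupσ heσ hx)
      · set w := (nn σ P p U n₀ s)⁻¹ * (v * e) with hw
        have hnN := σ_nn_mem hc h hs
        have hwe : Eqv P (σ v) (σ w) := by
          rw [hw, map_mul, map_inv, map_mul, he']
          have h1 : Eqv P (σ (nn σ P p U n₀ s) * σ v) (σ v * t) :=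
            ((hn2.symm).mul_right hvN).trans heσ
          have h2 := h1.mul_left (σ (nn σ P p U n₀ s))⁻¹
          rwa [inv_mul_cancel_left] at h2
        have hwN := hwe.mem_N hvN
        have hx' : σ w * x * (σ w)⁻¹ ∈ X U (s * n₀) := by
          refine conj_X h hwN hs ht ?_ (((hwe.symm.mul_left s).trans heσ).trans
            (hwe.mul_right (s_mem_N ht))) hx
          rwa [← len_congr hwe, ← len_congr (hwe.mul_right (s_mem_N ht))]
        rw [show v * (e * li σ p x * e⁻¹) * v⁻¹ =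
          nn σ P p U n₀ s * (w * li σ p x * w⁻¹) * (nn σ P p U n₀ s)⁻¹ by rw [hw]; group,
          conj_li_U hc h (X_U hc h hx) w]
        exact conj_mem_Ms hc h hs hn2 hx'
    | one => simp
    | mul a b _ _ ha hb =>
      rw [show v * (a * b) * v⁻¹ = (v * a * v⁻¹) * (v * b * v⁻¹) by group]; exact mul_mem ha hb
    | inv a _ ha =>
      rw [show v * a⁻¹ * v⁻¹ = (v * a * v⁻¹)⁻¹ by group]; exact inv_mem ha
  refine ⟨nn σ P p U n₀ s * v * nn σ P p U n₀ t * v⁻¹, tau_le hc h hs ⟨?_, ?_⟩, by group⟩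
  · rw [mul_assoc, mul_assoc, ← mul_assoc v]
    exact mul_mem hn1 (hconj _ ht1)
  · show σ (nn σ P p U n₀ s * v * nn σ P p U n₀ t * v⁻¹) ∈ P.B ⊓ P.N
    rw [← eqv_one_iff, map_mul, map_mul, map_mul, map_inv]
    have h1 : Eqv P (σ (nn σ P p U n₀ s) * σ v * t) (σ (nn σ P p U n₀ s) * σ v * σ (nn σ P p U n₀ t)) :=
      ht2.mul_left _
    have h2 : Eqv P (σ (nn σ P p U n₀ s) * σ v * t) (σ v * t * t) :=
      (((hn2.symm).mul_right hvN).trans heσ).mul_right (s_mem_N ht)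
    have h3 : Eqv P (σ (nn σ P p U n₀ s) * σ v * σ (nn σ P p U n₀ t)) (σ v) :=
      (h1.symm.trans h2).trans (eqv_twice_right ht)
    have h4 := h3.mul_right (inv_mem hvN)
    rw [mul_inv_cancel] at h4
    exact h4.symm

/-- A word that is not reduced lifts to a reduced one modulo the lifted torus. -/
theorem wl_down {s : G} (hs : s ∈ P.S) {l : List G} (hl : Red P l)
    (hdown : len P (s * l.prod) < l.length) :
    ∃ l', Red P l' ∧ Eqv P l'.prod (s * l.prod) ∧ ∃ τ ∈ TT σ P p U n₀,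
      nn σ P p U n₀ s * wl σ P p U n₀ l = wl σ P p U n₀ l' * τ := by
  obtain ⟨m, t, r, rfl, ht, hred, he, hswap, hup⟩ := exchange_split h hs hl hdown
  have hmw : IsWord P m := fun x hx => hl.1 x (List.mem_append_left _ hx)
  obtain ⟨τ, hτ, e⟩ := swap hc h hmw hs ht hup hswap
  refine ⟨m ++ r, hred, he.symm, _, wl_conj_TT hc h hred.1 hτ, ?_⟩
  rw [wl_append hc h, wl_cons hc h, wl_append hc h, ← mul_assoc, ← mul_assoc, e]
  group

end CfsgLib.Known.SplitLift
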