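import Cfsg.Agent.Lib.Known.SplitLift.Normal
import Cfsg.Agent.Lib.TwistBN.Pair
import Cfsg.Agent.Lib.TwistBN.Instances

/-!
# The root groups of a twisted special linear group
-/

set_option autoImplicit false
set_option linter.unusedSectionVars false

namespace CfsgLib.Known.SplitLift

open Matrix CfsgLib.TwistBN CfsgLib.PronormalPSL CfsgLib.PronormalPSU CfsgLib.Fusion.UniTri CfsgLib.GLUnipotent

variable {F : Type*} [Field F] [Finite F] {n : ℕ} {d : Fin n → Fˣ} {σ : F ≃+* F} (C : Ctx d σ)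
  {p : ℕ} [Fact p.Prime] [CharP F p]

/-- The opposite element of a twisted group. -/
theorem exists_opp_twisted : ∃ n₀ : fixS d σ, Mono Fin.revPerm (n₀ : GL (Fin n) F).1 ∧
    Opp (bnPair C) p (unipU d σ) n₀ := by
  obtain ⟨m, hm, hmr⟩ := C.exists_word (revC_rev (n := n))
  refine ⟨m, hmr, TwistBN.split C p, ⟨_, hmr⟩, fun u hu hB => Subtype.ext ?_⟩
  have h1 : (u : GL (Fin n) F) ∈ upat F ((1 : Equiv.Perm (Fin n)) * Fin.revPerm) := by
    refine mem_upat.2 fun i j hij => ?_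
    rw [one_mul]
    have h0 : ((m : GL (Fin n) F)⁻¹ * u * m).1 i j = 0 := upper_zero hB hij
    rw [conj_apply hmr] at h0
    exact (mul_eq_zero.1 ((mul_eq_zero.1 h0).resolve_right (hmr.ne_zero j))).resolve_left
      (left_ne_zero_of_mul_eq_one (inv_mul_diag hmr i))
  exact eq_one_of_mem_upat hu h1 (mem_upat.2 fun i j hij => (mem_uni.1 hu).1 i j hij)

/-- The root group of a node consists of the block diagonal unipotent elements. -/
theorem mem_X_twisted {n₀ : fixS d σ} (hn₀ : Mono Fin.revPerm (n₀ : GL (Fin n) F).1)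
    (h : Opp (bnPair C) p (unipU d σ) n₀) {k : ℕ} (hk : 2 * k + 2 ≤ n) {u : fixS d σ} :
    u ∈ X (unipU d σ) (sRep C k hk * n₀) ↔
      (u : GL (Fin n) F) ∈ uni F n ∧ BD k (u : GL (Fin n) F).1 := by
  set s := sRep C k hk with hs
  have hsπ := sRep_mono C hk
  have key : ∀ v : fixS d σ, (v : GL (Fin n) F) ∈ uni F n → BD k (v : GL (Fin n) F).1 →
      (s * n₀)⁻¹ * v * (s * n₀) ∈ borel d σ := by
    intro v hv hbd
    have hm : Mono (tPerm k hk * Fin.revPerm) ((s * n₀ : fixS d σ) : GL (Fin n) F).1 :=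
      mono_mul hsπ hn₀
    refine borel_conj' (s := s * n₀) (x := v) ?_
    refine conj_uni hm hv (mem_upat.2 fun i j hij => ?_)
    rw [Equiv.Perm.mul_apply, Equiv.Perm.mul_apply, Fin.revPerm_apply, Fin.revPerm_apply]
    by_cases hb : blk k (Fin.rev i) = blk k (Fin.rev j)
    · -- within a block the two reflections cancel
      by_cases h0 : tPerm k hk (Fin.rev j) < tPerm k hk (Fin.rev i)
      · exact (mem_uni.1 hv).1 _ _ h0
      · exact absurd (tPerm_lt hk (Fin.rev_lt_rev.2 hij) hb) h0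
    · exact hbd _ _ (by rw [blk_tPerm, blk_tPerm]; exact hb)
  rw [mem_X h]
  constructor
  · rintro ⟨hu, hB⟩
    refine ⟨hu, ?_⟩
    obtain ⟨uP, uO, hPU, hOU, hObd, hP, rfl⟩ := exists_blk_split hk hu
    have hB' : (s * n₀)⁻¹ * uP * (s * n₀) ∈ borel d σ := by
      rw [show (s * n₀)⁻¹ * uP * (s * n₀) =
        ((s * n₀)⁻¹ * (uP * uO) * (s * n₀)) * ((s * n₀)⁻¹ * uO * (s * n₀))⁻¹ by group]
      exact mul_mem hB (inv_mem (key uO hOU hObd))
    have hsU : s⁻¹ * uP * s ∈ unipU d σ := by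
      have := conj_refl hk hsπ (u := ⟨_, hPU⟩) hP
      rw [unipU, Subgroup.mem_subgroupOf, Subgroup.coe_mul, Subgroup.coe_mul, Subgroup.coe_inv]
      exact this
    have h1 := h.opp _ hsU (by
      rwa [show n₀⁻¹ * (s⁻¹ * uP * s) * n₀ = (s * n₀)⁻¹ * uP * (s * n₀) by group])
    have : uP = 1 := by
      rw [show uP = s * (s⁻¹ * uP * s) * s⁻¹ by group, h1]; group
    rw [this, one_mul]
    exact hObd
  · rintro ⟨hu, hbd⟩
    exact And.intro hu (key u hu hbd)

/-- Lower block diagonal elements come from the root group. -/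
theorem exists_lower {n₀ : fixS d σ} (hn₀ : Mono Fin.revPerm (n₀ : GL (Fin n) F).1)
    (h : Opp (bnPair C) p (unipU d σ) n₀) {k : ℕ} (hk : 2 * k + 2 ≤ n) {v : fixS d σ}
    (hv : tpose (v : GL (Fin n) F) ∈ uni F n) (hbd : BD k (v : GL (Fin n) F).1) :
    ∃ x ∈ X (unipU d σ) (sRep C k hk * n₀), v = sRep C k hk * x * (sRep C k hk)⁻¹ := by
  set s := sRep C k hk
  have hsπ := sRep_mono C hk
  have hlow : ∀ i j : Fin n, i < j → (v : GL (Fin n) F).1 i j = 0 := fun i j hij =>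
    (mem_uni.1 hv).1 j i hij
  have hdia : ∀ i : Fin n, (v : GL (Fin n) F).1 i i = 1 := fun i => (mem_uni.1 hv).2 i
  refine ⟨s⁻¹ * v * s, (mem_X_twisted C hn₀ h hk).2 ⟨?_, ?_⟩, by group⟩
  · have hcoe : ((s⁻¹ * v * s : fixS d σ) : GL (Fin n) F) =
        (s : GL (Fin n) F)⁻¹ * (v : GL (Fin n) F) * (s : GL (Fin n) F) := rfl
    rw [hcoe]
    refine mem_uni.2 ⟨fun i j hij => ?_, fun i => ?_⟩
    · rw [conj_apply hsπ]
      by_cases hb : blk k j = blk k i
      · rw [hlow _ _ (tPerm_lt hk hij hb), mul_zero, zero_mul]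
      · rw [hbd _ _ (by rw [blk_tPerm, blk_tPerm]; exact Ne.symm hb), mul_zero, zero_mul]
    · rw [conj_apply hsπ, hdia, mul_one]
      exact inv_mul_diag hsπ i
  · intro i j hij
    show ((s : GL (Fin n) F)⁻¹ * (v : GL (Fin n) F) * (s : GL (Fin n) F)).1 i j = 0
    rw [conj_apply hsπ, hbd _ _ (by rwa [blk_tPerm, blk_tPerm]), mul_zero, zero_mul]

/-- The conjugate of a root element by the reflection is lower block diagonal. -/
theorem lower_of_X {n₀ : fixS d σ} (hn₀ : Mono Fin.revPerm (n₀ : GL (Fin n) F).1)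
    (h : Opp (bnPair C) p (unipU d σ) n₀) {k : ℕ} (hk : 2 * k + 2 ≤ n) {x : fixS d σ}
    (hx : x ∈ X (unipU d σ) (sRep C k hk * n₀)) :
    tpose ((sRep C k hk * x * (sRep C k hk)⁻¹ : fixS d σ) : GL (Fin n) F) ∈ uni F n ∧
      BD k ((sRep C k hk * x * (sRep C k hk)⁻¹ : fixS d σ) : GL (Fin n) F).1 := by
  set s := sRep C k hk
  have hsπ := mono_tPerm_inv hk (sRep_mono C hk)
  obtain ⟨hu, hbd⟩ := (mem_X_twisted C hn₀ h hk).1 hx
  have e : ∀ i j, ((s * x * s⁻¹ : fixS d σ) : GL (Fin n) F).1 i j =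
      ((((s : GL (Fin n) F)⁻¹)⁻¹ * (x : GL (Fin n) F) * (s : GL (Fin n) F)⁻¹)).1 i j := fun i j => by
    rw [inv_inv]; rfl
  refine ⟨mem_uni.2 ⟨fun i j hij => ?_, fun i => ?_⟩, fun i j hij => ?_⟩
  · show ((s * x * s⁻¹ : fixS d σ) : GL (Fin n) F).1 j i = 0
    rw [e, conj_apply hsπ]
    by_cases hb : blk k j = blk k i
    · rw [(mem_uni.1 hu).1 _ _ (tPerm_lt hk hij hb), mul_zero, zero_mul]
    · rw [hbd _ _ (by rwa [blk_tPerm, blk_tPerm]), mul_zero, zero_mul]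
  · show ((s * x * s⁻¹ : fixS d σ) : GL (Fin n) F).1 i i = 1
    rw [e, conj_apply hsπ, (mem_uni.1 hu).2, mul_one]
    exact inv_mul_diag hsπ i
  · rw [e, conj_apply hsπ, hbd _ _ (by rwa [blk_tPerm, blk_tPerm]), mul_zero, zero_mul]

open Cfsg.Agent.S2426 (root)

/-- Rank one data for a node from block diagonal homomorphisms. -/
theorem rankOne_twisted {K : Type*} [Field K] {n₀ : fixS d σ}
    (hn₀ : Mono Fin.revPerm (n₀ : GL (Fin n) F).1)
    (h : Opp (bnPair C) p (unipU d σ) n₀) {k : ℕ} (hk : 2 * k + 2 ≤ n)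
    (φ : Matrix.SpecialLinearGroup (Fin 2) K →* fixS d σ)
    (hup : ∀ c, (φ (root (true, c)) : GL (Fin n) F) ∈ uni F n ∧
      BD k (φ (root (true, c)) : GL (Fin n) F).1)
    (honto : ∀ u ∈ fixS d σ, u ∈ uni F n → BD k u.1 → ∃ c, (φ (root (true, c)) : GL (Fin n) F) = u)
    (hdown : ∀ c, tpose (φ (root (false, c)) : GL (Fin n) F) ∈ uni F n ∧
      BD k (φ (root (false, c)) : GL (Fin n) F).1)
    (honto' : ∀ u ∈ fixS d σ, tpose u ∈ uni F n → BD k u.1 →
      ∃ c, (φ (root (false, c)) : GL (Fin n) F) = u)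
    (hker : ∀ g, φ g = 1 → g ∈ Subgroup.center (Matrix.SpecialLinearGroup (Fin 2) K)) :
    RankOne K (unipU d σ) n₀ (sRep C k hk) φ where
  up c := (mem_X_twisted C hn₀ h hk).2 (hup c)
  onto x hx := by
    obtain ⟨hu, hbd⟩ := (mem_X_twisted C hn₀ h hk).1 hx
    obtain ⟨c, hc⟩ := honto _ x.2 hu hbd
    exact ⟨c, Subtype.ext hc⟩
  down c := exists_lower C hn₀ h hk (hdown c).1 (hdown c).2
  onto' x hx := by
    obtain ⟨hu, hbd⟩ := lower_of_X C hn₀ h hk hx
    obtain ⟨c, hc⟩ := honto' _ (Subtype.property _) hu hbd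
    exact ⟨c, Subtype.ext hc⟩
  faithful := hker

end CfsgLib.Known.SplitLift
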